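/-
The alternating group of degree twelve: two disjoint five-cycles and the two subgroups fixing one of them.

* `sub`     : the subgroup supported on a set of points;
* `sub_sup` : the two subgroups `Tl`, `Tr` generate.
-/
import Cfsg.Agent.EqLemmas

set_option autoImplicit false
set_option maxRecDepth 100000

namespace Cfsg.Agent.AltE6

open Equiv Equiv.Perm

/-- The alternating group of degree twelve. -/
abbrev A12 := alternatingGroup (Fin 12)

/-- The even permutations moving only points where `p` holds. -/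
def sub (p : Fin 12 → Prop) : Subgroup A12 where
  carrier := {σ | ∀ i, ¬ p i → (σ : Perm (Fin 12)) i = i}
  one_mem' := fun i _ => rfl
  mul_mem' := fun {a b} ha hb i hi => by
    show (a : Perm (Fin 12)) ((b : Perm (Fin 12)) i) = i
    rw [hb i hi, ha i hi]
  inv_mem' := fun {a} ha i hi => by
    show (a : Perm (Fin 12))⁻¹ i = i
    rw [Equiv.Perm.inv_def, Equiv.symm_apply_eq, ha i hi]

theorem mem_sub {p : Fin 12 → Prop} {σ : A12} : σ ∈ sub p ↔ ∀ i, ¬ p i → (σ : Perm (Fin 12)) i = i := Iff.rfl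

theorem exists_equiv_sub (p : Fin 12 → Prop) [DecidablePred p] :
    Nonempty (alternatingGroup {i // p i} ≃* sub p) := by
  let e : alternatingGroup {i // p i} →* sub p :=
    { toFun := fun σ => ⟨⟨ofSubtype (σ : Perm {i // p i}), by
          rw [mem_alternatingGroup, sign_ofSubtype]; exact σ.2⟩,
        fun i hi => ofSubtype_apply_of_not_mem _ hi⟩
      map_one' := Subtype.ext (Subtype.ext (by simp))
      map_mul' := fun a b => Subtype.ext (Subtype.ext (by simp)) }
  refine ⟨MulEquiv.ofBijective e ⟨fun a b h => Subtype.ext (ofSubtype_injective ?_), fun σ => ?_⟩⟩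
  · exact congrArg (fun x : sub p => ((x : A12) : Perm (Fin 12))) h
  · have hne : ∀ x, ((σ : A12) : Perm (Fin 12)) x ≠ x → p x := fun x hx => by_contra fun h => hx (σ.2 x h)
    have hp : ∀ x, p (((σ : A12) : Perm (Fin 12)) x) ↔ p x := fun x => by
      by_cases hx : ((σ : A12) : Perm (Fin 12)) x = x
      · rw [hx]
      · exact iff_of_true (hne _ fun h => hx (Equiv.injective _ h)) (hne x hx)
    refine ⟨⟨((σ : A12) : Perm (Fin 12)).subtypePerm hp, ?_⟩, ?_⟩
    · rw [mem_alternatingGroup, ← sign_ofSubtype, ofSubtype_subtypePerm hp hne]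
      exact (σ : A12).2
    · exact Subtype.ext (Subtype.ext (ofSubtype_subtypePerm hp hne))

/-- Points outside the first five. -/
def pL (i : Fin 12) : Prop := 5 ≤ i.val

/-- Points outside the second five. -/
def pR (i : Fin 12) : Prop := i.val < 5 ∨ 10 ≤ i.val

instance : DecidablePred pL := fun i => inferInstanceAs (Decidable (5 ≤ i.val))
instance : DecidablePred pR := fun i => inferInstanceAs (Decidable (i.val < 5 ∨ 10 ≤ i.val))

/-- The even permutations fixing the first five points. -/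
def Tl : Subgroup A12 := sub pL

/-- The even permutations fixing the second five points. -/
def Tr : Subgroup A12 := sub pR

/-- A permutation of twelve points from its two tables. -/
def mkP (f g : Fin 12 → Fin 12) (h1 : ∀ i, g (f i) = i) (h2 : ∀ i, f (g i) = i) : Perm (Fin 12) := ⟨f, g, h1, h2⟩

/-- The cycle on the first five points. -/
def xP : Perm (Fin 12) :=
  mkP ![1, 2, 3, 4, 0, 5, 6, 7, 8, 9, 10, 11] ![4, 0, 1, 2, 3, 5, 6, 7, 8, 9, 10, 11] (by decide) (by decide)

/-- The cycle on the second five points. -/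
def yP : Perm (Fin 12) :=
  mkP ![0, 1, 2, 3, 4, 6, 7, 8, 9, 5, 10, 11] ![0, 1, 2, 3, 4, 9, 5, 6, 7, 8, 10, 11] (by decide) (by decide)

/-- Doubling on the first five points, with a transposition. -/
def gP : Perm (Fin 12) :=
  mkP ![0, 2, 4, 1, 3, 5, 6, 7, 8, 9, 11, 10] ![0, 3, 1, 4, 2, 5, 6, 7, 8, 9, 11, 10] (by decide) (by decide)

/-- Doubling on the second five points, with a transposition. -/
def hP : Perm (Fin 12) :=
  mkP ![0, 1, 2, 3, 4, 5, 7, 9, 6, 8, 11, 10] ![0, 1, 2, 3, 4, 5, 8, 6, 9, 7, 11, 10] (by decide) (by decide)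

/-- The exchange of the two fives, with a transposition. -/
def sP : Perm (Fin 12) :=
  mkP ![5, 6, 7, 8, 9, 0, 1, 2, 3, 4, 11, 10] ![5, 6, 7, 8, 9, 0, 1, 2, 3, 4, 11, 10] (by decide) (by decide)

theorem even_five : sign xP = 1 ∧ sign yP = 1 ∧ sign gP = 1 ∧ sign hP = 1 ∧ sign sP = 1 := by decide +kernel

/-- The five-cycle on the first five points. -/
def x5 : A12 := ⟨xP, mem_alternatingGroup.2 even_five.1⟩

/-- The five-cycle on the second five points. -/
def y5 : A12 := ⟨yP, mem_alternatingGroup.2 even_five.2.1⟩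

/-- The element squaring `x5`. -/
def gx : A12 := ⟨gP, mem_alternatingGroup.2 even_five.2.2.1⟩

/-- The element squaring `y5`. -/
def gy : A12 := ⟨hP, mem_alternatingGroup.2 even_five.2.2.2.1⟩

/-- The element exchanging `x5` and `y5`. -/
def sxy : A12 := ⟨sP, mem_alternatingGroup.2 even_five.2.2.2.2⟩

theorem perm_facts : xP ^ 5 = 1 ∧ yP ^ 5 = 1 ∧ xP ≠ 1 ∧ yP ≠ 1 ∧ xP * yP = yP * xP ∧ gP * xP * gP⁻¹ = xP ^ 2 ∧
    hP * yP * hP⁻¹ = yP ^ 2 ∧ gP * yP * gP⁻¹ = yP ∧ hP * xP * hP⁻¹ = xP ∧ sP * xP * sP⁻¹ = yP ∧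
    sP * yP * sP⁻¹ = xP := by
  refine ⟨?_, ?_, ?_, ?_, ?_, ?_, ?_, ?_, ?_, ?_, ?_⟩ <;> decide +kernel

theorem alt_facts : x5 ^ 5 = 1 ∧ y5 ^ 5 = 1 ∧ x5 ≠ 1 ∧ y5 ≠ 1 ∧ x5 * y5 = y5 * x5 ∧ gx * x5 * gx⁻¹ = x5 ^ 2 ∧
    gy * y5 * gy⁻¹ = y5 ^ 2 ∧ gx * y5 * gx⁻¹ = y5 ∧ gy * x5 * gy⁻¹ = x5 ∧ sxy * x5 * sxy⁻¹ = y5 ∧
    sxy * y5 * sxy⁻¹ = x5 := by
  obtain ⟨h1, h2, h3, h4, h5, h6, h7, h8, h9, h10, h11⟩ := perm_facts
  exact ⟨Subtype.ext h1, Subtype.ext h2, fun e => h3 (congrArg Subtype.val e), fun e => h4 (congrArg Subtype.val e),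
    Subtype.ext h5, Subtype.ext h6, Subtype.ext h7, Subtype.ext h8, Subtype.ext h9, Subtype.ext h10,
    Subtype.ext h11⟩

theorem y5_mem : y5 ∈ Tl ∧ gy ∈ Tl ∧ x5 ∈ Tr ∧ gx ∈ Tr := by
  have h : (∀ i, ¬ pL i → yP i = i) ∧ (∀ i, ¬ pL i → hP i = i) ∧ (∀ i, ¬ pR i → xP i = i) ∧
      (∀ i, ¬ pR i → gP i = i) := by decide +kernel
  exact h

theorem Tl_commute {σ : A12} (h : σ ∈ Tl) : σ * x5 = x5 * σ := by
  refine Subtype.ext (Equiv.Perm.Disjoint.commute fun i => ?_)
  by_cases hi : pL i
  · right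
    revert hi
    revert i
    show ∀ i, pL i → xP i = i
    decide +kernel
  · exact Or.inl (h i hi)

theorem Tr_commute {σ : A12} (h : σ ∈ Tr) : σ * y5 = y5 * σ := by
  refine Subtype.ext (Equiv.Perm.Disjoint.commute fun i => ?_)
  by_cases hi : pR i
  · right
    revert hi
    revert i
    show ∀ i, pR i → yP i = i
    decide +kernel
  · exact Or.inl (h i hi)

theorem card_pL : Fintype.card {i // pL i} = 7 ∧ Fintype.card {i // pR i} = 7 := by decide +kernel

theorem sub_simple {p : Fin 12 → Prop} [DecidablePred p] (hp : Fintype.card {i // p i} = 7) :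
    IsSimpleGroup (sub p) ∧ 7 ∣ Nat.card (sub p) ∧ ¬ ∀ a b : sub p, a * b = b * a := by
  obtain ⟨e⟩ := exists_equiv_sub p
  haveI : Nontrivial {i // p i} := Fintype.one_lt_card_iff_nontrivial.1 (by omega)
  haveI : IsSimpleGroup (alternatingGroup {i // p i}) :=
    alternatingGroup.isSimpleGroup (by rw [Nat.card_eq_fintype_card]; omega)
  have hcard : 2 * Nat.card (sub p) = 5040 := by
    rw [← Nat.card_congr e.toEquiv, two_mul_nat_card_alternatingGroup, Nat.card_perm, Nat.card_eq_fintype_card, hp]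
    rfl
  haveI : Nontrivial (sub p) := Finite.one_lt_card_iff_nontrivial.1 (by omega)
  haveI hs : IsSimpleGroup (sub p) := IsSimpleGroup.isSimpleGroup_of_surjective e.toMonoidHom e.surjective
  refine ⟨hs, by omega, fun hc => ?_⟩
  letI : CommGroup (sub p) := { (inferInstance : Group (sub p)) with mul_comm := hc }
  have := IsSimpleGroup.prime_card (α := sub p)
  rw [show Nat.card (sub p) = 2520 by omega] at this
  norm_num at this

theorem Tl_simple : IsSimpleGroup Tl ∧ 7 ∣ Nat.card Tl ∧ ¬ ∀ a b : Tl, a * b = b * a := sub_simple card_pL.1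

theorem Tr_simple : IsSimpleGroup Tr ∧ 7 ∣ Nat.card Tr ∧ ¬ ∀ a b : Tr, a * b = b * a := sub_simple card_pL.2

theorem A12_simple : IsSimpleGroup A12 ∧ 7 ∣ Nat.card A12 ∧ 5040 < Nat.card A12 ∧
    ¬ ∀ a b : A12, a * b = b * a := by
  have hcard : 2 * Nat.card A12 = 479001600 := by
    rw [two_mul_nat_card_alternatingGroup, Nat.card_perm, Nat.card_eq_fintype_card, Fintype.card_fin]
    rfl
  refine ⟨alternatingGroup.isSimpleGroup (by simp), by omega, by omega, fun h => ?_⟩
  exact Tl_simple.2.2 fun a b => Subtype.ext (h a b)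

theorem covered : ∀ u v : Fin 12, u ≠ v → (pL u ∧ pL v) ∨ (pR u ∧ pR v) ∨
    ((pR u ∧ pL v) ∨ (pL u ∧ pR v)) ∧ u.val < 10 ∧ v.val < 10 := by
  decide +kernel

theorem sub_sup : Tl ⊔ Tr = ⊤ := by
  set G := Tl ⊔ Tr
  -- products of a transposition with the fixed one
  have base : ∀ p : Fin 12 → Prop, sub p ≤ G → p 10 → p 11 → ∀ a b : Fin 12, p a → p b → a ≠ b →
      ∀ h, (⟨swap 10 11 * swap a b, h⟩ : A12) ∈ G := fun p hp h10 h11 a b ha hb _ h => hp (fun i hi => by
    show swap 10 11 (swap a b i) = i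
    rw [swap_apply_of_ne_of_ne (fun e : i = a => hi (by rw [e]; exact ha)) fun e => hi (by rw [e]; exact hb),
      swap_apply_of_ne_of_ne (fun e => hi (by rw [e]; exact h10)) fun e => hi (by rw [e]; exact h11)])
  have h2 : ∀ a b : Fin 12, a ≠ b → Perm.sign (swap 10 11 * swap a b : Perm (Fin 12)) = 1 := fun a b hab => by
    rw [map_mul, sign_swap (by decide), sign_swap hab]
    rfl
  have key : ∀ a b : Fin 12, ∀ hab : a ≠ b, (⟨swap 10 11 * swap a b, mem_alternatingGroup.2 (h2 a b hab)⟩ : A12) ∈ G := by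
    intro a b hab
    rcases covered a b hab with ⟨ha, hb⟩ | ⟨ha, hb⟩ | ⟨hh, ha10, hb10⟩
    · exact base pL le_sup_left (by decide) (by decide) a b ha hb hab _
    · exact base pR le_sup_right (by decide) (by decide) a b ha hb hab _
    · have ha' : a ≠ 10 := fun e => by subst e; omega
      have hb' : b ≠ 10 := fun e => by subst e; omega
      have k1 : ∀ c : Fin 12, ∀ hc : c ≠ 10, (pR c ∨ pL c) →
          (⟨swap 10 11 * swap c 10, mem_alternatingGroup.2 (h2 c 10 hc)⟩ : A12) ∈ G := by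
        rintro c hc (h | h)
        · exact base pR le_sup_right (by decide) (by decide) c 10 h (by decide) hc _
        · exact base pL le_sup_left (by decide) (by decide) c 10 h (by decide) hc _
      have ka := k1 a ha' (hh.elim (fun h => Or.inl h.1) fun h => Or.inr h.1)
      have kb := k1 b hb' (hh.elim (fun h => Or.inr h.2) fun h => Or.inl h.2)
      have hprod := mul_mem (mul_mem ka (inv_mem kb)) ka
      convert hprod using 1
      refine Subtype.ext ?_
      show swap 10 11 * swap a b =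
        swap 10 11 * swap a 10 * (swap 10 11 * swap b 10)⁻¹ * (swap 10 11 * swap a 10)
      rw [mul_inv_rev, swap_inv, swap_inv]
      have h3 := Equiv.swap_apply_apply (swap a 10) b 10
      rw [swap_apply_of_ne_of_ne hab.symm hb', swap_apply_right, swap_inv] at h3
      rw [swap_comm a b, h3]
      simp [mul_assoc, swap_mul_self_mul]
  have main : ∀ σ : Perm (Fin 12), (∀ h : Perm.sign σ = 1, (⟨σ, mem_alternatingGroup.2 h⟩ : A12) ∈ G) ∧
      (∀ h : Perm.sign σ = -1, (⟨swap 10 11 * σ, mem_alternatingGroup.2 (by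
        rw [map_mul, sign_swap (by decide), h]; rfl)⟩ : A12) ∈ G) := by
    intro σ
    induction σ using Equiv.Perm.swap_induction_on with
    | one => exact ⟨fun h => one_mem G, fun h => absurd (h.symm.trans sign_one) (by decide)⟩
    | swap_mul f a b hab ih =>
      refine ⟨fun h => ?_, fun h => ?_⟩
      · have hf : Perm.sign f = -1 := by
          rw [map_mul, sign_swap hab, neg_one_mul] at h
          rw [← neg_neg (Perm.sign f), h]
        convert mul_mem (inv_mem (key a b hab)) (ih.2 hf) using 1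
        refine Subtype.ext ?_
        show swap a b * f = (swap 10 11 * swap a b)⁻¹ * (swap 10 11 * f)
        rw [mul_inv_rev, swap_inv, swap_inv, mul_assoc, swap_mul_self_mul]
      · have hf : Perm.sign f = 1 := by
          rw [map_mul, sign_swap hab, neg_one_mul] at h
          exact neg_injective h
        convert mul_mem (key a b hab) (ih.1 hf) using 1
        exact Subtype.ext (mul_assoc _ _ _).symm
  exact eq_top_iff.2 fun σ _ => (main σ).1 (mem_alternatingGroup.1 σ.2)

end Cfsg.Agent.AltE6
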