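/-
Group theory for minimal covers of simple groups.

* `MinCover`     : no proper subgroup covers;
* `exists_kerSylow` : the normal Sylow subgroup of the kernel;
* `rational_lift` : lifts inverted to their squares.
-/
import Cfsg.Agent.EqLemmas

set_option autoImplicit false

namespace Cfsg.Agent.AltE6

variable {H A : Type*} [Group H] [Group A]

/-- A surjection that no proper subgroup covers. -/
structure MinCover (π : H →* A) : Prop where
  surj : Function.Surjective π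
  min : ∀ L : Subgroup H, L.map π = ⊤ → L = ⊤

/-- A minimal subgroup covering a subgroup of the image. -/
theorem exists_cover [Finite H] (π : H →* A) (N : Subgroup H) {T : Subgroup A} (hT : T ≤ N.map π) :
    ∃ (L : Subgroup H) (ψ : L →* T), L ≤ N ∧ MinCover ψ ∧ ∀ x : L, (ψ x : A) = π x := by
  obtain ⟨L, hL, hmin⟩ := (Set.toFinite {L : Subgroup H | L ≤ N ∧ L.map π = T}).exists_minimal
    ⟨N ⊓ T.comap π, inf_le_left, le_antisymm ((Subgroup.map_mono inf_le_right).trans (Subgroup.map_comap_le _ _))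
      fun t ht => by
        obtain ⟨n, hn, rfl⟩ := hT ht
        exact ⟨n, ⟨hn, ht⟩, rfl⟩⟩
  obtain ⟨hLN, hLT⟩ := hL
  let ψ : L →* T := (π.comp L.subtype).codRestrict T fun x => hLT.le ⟨x, x.2, rfl⟩
  have hψ : Function.Surjective ψ := fun t => by
    obtain ⟨x, hx, e⟩ := hLT.ge t.2
    exact ⟨⟨x, hx⟩, Subtype.ext e⟩
  refine ⟨L, ψ, hLN, ⟨hψ, fun M hM => ?_⟩, fun x => rfl⟩
  have h1 : (M.map L.subtype).map π = T := by
    refine le_antisymm ((Subgroup.map_mono (Subgroup.map_subtype_le M)).trans hLT.le) fun t ht => ?_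
    obtain ⟨x, hx, e⟩ : (⟨t, ht⟩ : T) ∈ M.map ψ := hM ▸ Subgroup.mem_top _
    exact ⟨x, ⟨x, hx, rfl⟩, congrArg Subtype.val e⟩
  have h2 := hmin ⟨(Subgroup.map_subtype_le M).trans hLN, h1⟩ (Subgroup.map_subtype_le M)
  exact eq_top_iff.2 fun x _ => by
    obtain ⟨y, hy, e⟩ := h2 x.2
    rwa [← Subtype.ext e]

namespace MinCover

variable {π : H →* A} (hm : MinCover π) [hA : IsSimpleGroup A]
include hm hA

theorem top_of_normal (N : Subgroup H) [hN : N.Normal] {x : H} (hx : x ∈ N) (hne : π x ≠ 1) : N = ⊤ := by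
  rcases (hN.map π hm.surj).eq_bot_or_eq_top with h | h
  · exact absurd (MonoidHom.mem_ker.1 ((Subgroup.map_eq_bot_iff N).1 h hx)) hne
  · exact hm.min N h

omit hA in
theorem commutator_top (hA' : IsSimpleGroup A) (hc : ¬ ∀ a b : A, a * b = b * a) : commutator H = ⊤ := by
  haveI := hA'
  by_contra h
  refine hc fun a b => ?_
  obtain ⟨x, rfl⟩ := hm.surj a
  obtain ⟨y, rfl⟩ := hm.surj b
  by_contra hne
  refine h (hm.top_of_normal (commutator H) (x := x * y * x⁻¹ * y⁻¹) ?_ fun e => hne ?_)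
  · rw [commutator_def, ← commutatorElement_def]
    exact Subgroup.commutator_mem_commutator (Subgroup.mem_top x) (Subgroup.mem_top y)
  · rw [map_mul, map_mul, map_mul, map_inv, map_inv, mul_inv_eq_one, mul_inv_eq_iff_eq_mul] at e
    exact e

omit hA in
/-- A homomorphism into an abelian group is trivial. -/
theorem hom_comm_eq_one {C : Type*} [CommGroup C] (hA' : IsSimpleGroup A) (hc : ¬ ∀ a b : A, a * b = b * a)
    (φ : H →* C) (x : H) : φ x = 1 :=
  MonoidHom.mem_ker.1 (Abelianization.commutator_subset_ker φ (hm.commutator_top hA' hc ▸ Subgroup.mem_top x))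

/-- A homomorphism into a group smaller than the simple group is trivial. -/
theorem hom_small_eq_one {C : Type*} [Group C] [Finite C] [Finite H] (h : Nat.card C < Nat.card A)
    (φ : H →* C) (x : H) : φ x = 1 := by
  by_contra hne
  have hker : φ.ker ≤ π.ker := fun y hy => MonoidHom.mem_ker.2 <| by_contra fun hy' =>
    hne (MonoidHom.mem_ker.1 ((hm.top_of_normal φ.ker hy hy') ▸ Subgroup.mem_top x))
  haveI : Finite A := Finite.of_surjective π hm.surj
  have h1 : φ.ker.index ≤ Nat.card C := by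
    rw [Subgroup.index_ker]
    exact φ.range.card_le_card_group
  have h2 : Nat.card A ≤ φ.ker.index := by
    rw [← Subgroup.card_top (G := A), ← MonoidHom.range_eq_top.2 hm.surj, ← Subgroup.index_ker]
    exact Nat.le_of_dvd (Nat.pos_of_ne_zero Subgroup.index_ne_zero_of_finite) (Subgroup.index_dvd_of_le hker)
  omega

/-- The elements of order a power of `q` generate. -/
theorem closure_top [Finite H] {q : ℕ} [hq : Fact q.Prime] (hd : q ∣ Nat.card A) :
    Subgroup.closure {h : H | ∃ e : ℕ, h ^ q ^ e = 1} = ⊤ := by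
  haveI : Finite A := Finite.of_surjective π hm.surj
  set N := Subgroup.closure {h : H | ∃ e : ℕ, h ^ q ^ e = 1} with hN
  haveI : N.Normal := ⟨fun n hn g => by
    have h1 : N.map (MulAut.conj g).toMonoidHom ≤ N := by
      rw [hN, MonoidHom.map_closure, Subgroup.closure_le]
      rintro _ ⟨y, ⟨e, he⟩, rfl⟩
      refine Subgroup.subset_closure ⟨e, ?_⟩
      rw [← map_pow, he, map_one]
    exact h1 ⟨n, hn, rfl⟩⟩
  obtain ⟨y, hy⟩ := exists_prime_orderOf_dvd_card' q hd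
  obtain ⟨h, rfl⟩ := hm.surj y
  obtain ⟨e, m, hqm, he⟩ := Nat.exists_eq_pow_mul_and_not_dvd (orderOf_pos h).ne' q hq.out.ne_one
  refine hm.top_of_normal N (x := h ^ m) (Subgroup.subset_closure ⟨e, ?_⟩) fun e1 => ?_
  · rw [← pow_mul, mul_comm, ← he, pow_orderOf_eq_one]
  · rw [map_pow] at e1
    exact hqm (hy ▸ orderOf_dvd_of_pow_eq_one e1)

/-- The Sylow subgroup of the kernel is normal. -/
theorem exists_kerSylow [Finite H] (p : ℕ) [Fact p.Prime] :
    ∃ Q : Subgroup H, Q.Normal ∧ IsPGroup p Q ∧ Q ≤ π.ker ∧ ∀ R : Subgroup H, IsPGroup p R → R ≤ π.ker → R ≤ Q := by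
  obtain ⟨P⟩ : Nonempty (Sylow p π.ker) := inferInstance
  have h := Sylow.normalizer_sup_eq_top P
  have hmap : (Subgroup.normalizer (((P : Subgroup π.ker).map π.ker.subtype : Subgroup H) : Set H)).map π = ⊤ := by
    have h' := congrArg (Subgroup.map π) h
    rwa [Subgroup.map_sup, (Subgroup.map_eq_bot_iff π.ker).2 le_rfl, sup_bot_eq,
      Subgroup.map_top_of_surjective π hm.surj] at h'
  haveI hnorm : ((P : Subgroup π.ker).map π.ker.subtype).Normal :=
    Subgroup.normalizer_eq_top_iff.1 (hm.min _ hmap)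
  refine ⟨_, hnorm, P.isPGroup'.map _, Subgroup.map_subtype_le _, fun R hR hRk => ?_⟩
  obtain ⟨P', hP'⟩ := (show IsPGroup p (R.subgroupOf π.ker) from
    hR.of_equiv (Subgroup.subgroupOfEquivOfLe hRk).symm).exists_le_sylow
  obtain ⟨x, hx⟩ := MulAction.exists_smul_eq π.ker P P'
  intro r hr
  have h1 : (⟨r, hRk hr⟩ : π.ker) ∈ (P' : Subgroup π.ker) := hP' (Subgroup.mem_subgroupOf.2 hr)
  rw [← hx, Sylow.coe_subgroup_smul] at h1
  obtain ⟨y, hy, e⟩ := h1
  have e' : (x : H) * y * (x : H)⁻¹ = r := congrArg Subtype.val e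
  rw [← e']
  exact hnorm.conj_mem _ ⟨y, hy, rfl⟩ _

end MinCover

variable (π : H →* A) {p : ℕ}

/-- Subgroups containing the Sylow subgroup of the kernel are maximal over their image. -/
theorem max_over_image {Q X R : Subgroup H} (hQ : ∀ R : Subgroup H, IsPGroup p R → R ≤ π.ker → R ≤ Q)
    (hQX : Q ≤ X) (hXR : X ≤ R) (hR : IsPGroup p R) (hmap : R.map π ≤ X.map π) : R = X := by
  refine le_antisymm (fun r hr => ?_) hXR
  obtain ⟨z, hz, e⟩ := hmap ⟨r, hr, rfl⟩
  have h1 : z⁻¹ * r ∈ R ⊓ π.ker := Subgroup.mem_inf.2 ⟨Subgroup.mul_mem _ (Subgroup.inv_mem _ (hXR hz)) hr, by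
    rw [MonoidHom.mem_ker, map_mul, map_inv, e, inv_mul_cancel]⟩
  have := mul_mem hz (hQX (hQ _ (hR.to_le inf_le_left) inf_le_right h1))
  rwa [mul_inv_cancel_left] at this

variable [Fact p.Prime] [Finite H]

/-- A `p`-subgroup over a `p`-subgroup of the image. -/
theorem exists_over {Q N : Subgroup H} [Q.Normal] (hQp : IsPGroup p Q) (hQk : Q ≤ π.ker) (hQN : Q ≤ N)
    {E : Subgroup A} (hE : IsPGroup p E) (hEN : E ≤ N.map π) :
    ∃ X : Subgroup H, X ≤ N ∧ Q ≤ X ∧ IsPGroup p X ∧ X.map π = E := by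
  set M := N ⊓ E.comap π with hM
  let ψ : M →* E := (π.comp M.subtype).codRestrict E fun x => x.2.2
  have hψ : Function.Surjective ψ := by
    rintro ⟨e, he⟩
    obtain ⟨n, hn, rfl⟩ := hEN he
    exact ⟨⟨n, hn, he⟩, rfl⟩
  haveI : Finite E := Finite.of_surjective ψ hψ
  have hQM : Q ≤ M := le_inf hQN fun q hq => by
    show π q ∈ E
    rw [MonoidHom.mem_ker.1 (hQk hq)]
    exact one_mem _
  obtain ⟨P, hP⟩ := (show IsPGroup p (Q.subgroupOf M) from
    hQp.of_equiv (Subgroup.subgroupOfEquivOfLe hQM).symm).exists_le_sylow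
  refine ⟨(P : Subgroup M).map M.subtype, (Subgroup.map_subtype_le _).trans inf_le_left,
    fun q hq => ⟨⟨q, hQM hq⟩, hP (Subgroup.mem_subgroupOf.2 hq), rfl⟩, P.isPGroup'.map _, ?_⟩
  refine le_antisymm ((Subgroup.map_mono ((Subgroup.map_subtype_le _).trans inf_le_right)).trans
    (Subgroup.map_comap_le _ _)) fun e he => ?_
  have htop : (P.mapSurjective hψ : Subgroup E) = ⊤ :=
    (P.mapSurjective hψ).3 (hE.of_equiv Subgroup.topEquiv.symm) le_top |>.symm
  obtain ⟨y, hy, ey⟩ : (⟨e, he⟩ : E) ∈ (P : Subgroup M).map ψ := by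
    rw [← Sylow.coe_mapSurjective hψ, htop]
    exact Subgroup.mem_top _
  exact ⟨y, ⟨y, hy, rfl⟩, congrArg Subtype.val ey⟩

/-- Lifts normalising a subgroup that is maximal over its image. -/
theorem exists_norm_lift {Q N X : Subgroup H} (hQ : ∀ R : Subgroup H, IsPGroup p R → R ≤ π.ker → R ≤ Q)
    (hQX : Q ≤ X) (hXN : X ≤ N) (hX : IsPGroup p X) {a : A} (ha : a ∈ N.map π)
    (haX : ∀ e ∈ X.map π, a * e * a⁻¹ ∈ X.map π) : ∃ g ∈ N, π g = a ∧ ∀ t ∈ X, g * t * g⁻¹ ∈ X := by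
  obtain ⟨h, hh, rfl⟩ := ha
  set M := N ⊓ (X.map π).comap π with hM
  have hXM : X ≤ M := le_inf hXN (Subgroup.le_comap_map _ _)
  set X' := X.map (MulAut.conj h).toMonoidHom with hX'
  have hX'M : X' ≤ M := by
    rintro _ ⟨t, ht, rfl⟩
    refine ⟨N.mul_mem (N.mul_mem hh (hXN ht)) (N.inv_mem hh), ?_⟩
    show π (h * t * h⁻¹) ∈ X.map π
    rw [map_mul, map_mul, map_inv]
    exact haX _ ⟨t, ht, rfl⟩
  obtain ⟨S, hS⟩ := (show IsPGroup p (X.subgroupOf M) from
    hX.of_equiv (Subgroup.subgroupOfEquivOfLe hXM).symm).exists_le_sylow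
  obtain ⟨S', hS'⟩ := (show IsPGroup p (X'.subgroupOf M) from
    (hX.map _).of_equiv (Subgroup.subgroupOfEquivOfLe hX'M).symm).exists_le_sylow
  have hSX : (S : Subgroup M).map M.subtype = X := by
    refine max_over_image π hQ hQX (fun t ht => ⟨⟨t, hXM ht⟩, hS (Subgroup.mem_subgroupOf.2 ht), rfl⟩)
      (S.isPGroup'.map _) ?_
    exact (Subgroup.map_mono ((Subgroup.map_subtype_le _).trans inf_le_right)).trans (Subgroup.map_comap_le _ _)
  obtain ⟨y, hy⟩ := MulAction.exists_smul_eq M S' S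
  obtain ⟨z, hz, ez⟩ : ∃ z ∈ X, π z = (π y)⁻¹ :=
    Subgroup.inv_mem (X.map π) (show π (y : H) ∈ X.map π from y.2.2)
  refine ⟨z * y * h, mul_mem (mul_mem (hXN hz) y.2.1) hh, by rw [map_mul, map_mul, ez]; group, fun t ht => ?_⟩
  have h1 : (y : H) * (h * t * h⁻¹) * (y : H)⁻¹ ∈ X := by
    rw [← hSX, ← hy, Sylow.coe_subgroup_smul]
    exact ⟨y * ⟨_, hX'M ⟨t, ht, rfl⟩⟩ * y⁻¹, ⟨_, hS' (Subgroup.mem_subgroupOf.2 ⟨t, ht, rfl⟩), rfl⟩, rfl⟩
  rw [show z * y * h * t * (z * y * h)⁻¹ = z * ((y : H) * (h * t * h⁻¹) * (y : H)⁻¹) * z⁻¹ by group]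
  exact mul_mem (mul_mem hz h1) (inv_mem hz)

omit [Fact p.Prime] [Finite H] in
/-- A lift that is mapped to its square. -/
theorem rational_lift {Q X : Subgroup H} (hab : ∀ a ∈ X, ∀ b ∈ X, a * b = b * a)
    (hker : ∀ t ∈ X, π t = 1 → t ∈ Q) {g : H} (hgX : ∀ t ∈ X, g * t * g⁻¹ ∈ X) (hgQ : ∀ q ∈ Q, g * q = q * g)
    (hQX : Q ≤ X) {v : H} (hv : v ∈ X) (he : π g * π v * (π g)⁻¹ = π v ^ 2) (h5 : π v ^ 5 = 1) :
    ∃ u ∈ X, π u = π v ∧ g * u * g⁻¹ = u ^ 2 ∧ u ^ 5 = 1 := by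
  set q := (v ^ 2)⁻¹ * (g * v * g⁻¹) with hqdef
  have hqX : q ∈ X := mul_mem (inv_mem (pow_mem hv 2)) (hgX v hv)
  have hqQ : q ∈ Q := hker q hqX (by rw [map_mul, map_inv, map_pow, map_mul, map_mul, map_inv, he, inv_mul_cancel])
  have e1 : g * v * g⁻¹ = v ^ 2 * q := by rw [hqdef, mul_inv_cancel_left]
  have hq : g * q * g⁻¹ = q := by rw [hgQ q hqQ, mul_inv_cancel_right]
  have hc : Commute v q := hab v hv q hqX
  have hqπ : π q = 1 := by
    rw [hqdef, map_mul, map_inv, map_pow, map_mul, map_mul, map_inv, he, inv_mul_cancel]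
  refine ⟨v * q, mul_mem hv hqX, by rw [map_mul, hqπ, mul_one], ?_, ?_⟩
  · rw [hc.mul_pow, ← conj_mul, e1, hq, pow_two q, mul_assoc]
  · have hv5 : v ^ 5 ∈ Q := hker _ (pow_mem hv 5) (by rw [map_pow, h5])
    have e2 : (g * v * g⁻¹) ^ 5 = v ^ 5 := by rw [conj_pow, hgQ _ hv5, mul_inv_cancel_right]
    rw [e1, (hc.pow_left 2).mul_pow, ← pow_mul] at e2
    rw [hc.mul_pow]
    have : v ^ 5 * (v ^ 5 * q ^ 5) = v ^ 5 * 1 := by
      rw [← mul_assoc, ← pow_add, mul_one]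
      exact e2
    exact mul_left_cancel this

omit [Finite H] [Fact p.Prime] in
/-- An abelian group with an endomorphism inducing squaring on a quotient has an element that is squared. -/
theorem exists_squared [Finite H] {X : Subgroup H} (hab : ∀ a ∈ X, ∀ b ∈ X, a * b = b * a) {g : H}
    (hgX : ∀ t ∈ X, g * t * g⁻¹ ∈ X) (hj : ∀ t ∈ X, π (g * t * g⁻¹) = π t ^ 2) {v : H} (hv : v ∈ X)
    (hv1 : π v ≠ 1) : ∃ y ∈ X, y ≠ 1 ∧ g * y * g⁻¹ = y ^ 2 := by
  let φ : X → X := fun t => ⟨g * t * g⁻¹ * ((t : H) ^ 2)⁻¹, mul_mem (hgX t t.2) (inv_mem (pow_mem t.2 2))⟩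
  have hφ : ∀ t, π (φ t : H) = 1 := fun t => by
    rw [map_mul, hj t t.2, map_inv, map_pow, mul_inv_cancel]
  have hns : ¬ Function.Surjective φ := fun h => by
    obtain ⟨t, ht⟩ := h ⟨v, hv⟩
    exact hv1 (by rw [← hφ t, ht])
  rw [← Finite.injective_iff_surjective] at hns
  simp only [Function.Injective, not_forall] at hns
  obtain ⟨a, b, hab', hne⟩ := hns
  have e : g * (a : H) * g⁻¹ * ((a : H) ^ 2)⁻¹ = g * (b : H) * g⁻¹ * ((b : H) ^ 2)⁻¹ := congrArg Subtype.val hab'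
  refine ⟨(a : H) * (b : H)⁻¹, mul_mem a.2 (inv_mem b.2), fun h => hne (Subtype.ext (mul_inv_eq_one.1 h)), ?_⟩
  have hc : Commute (a : H) (b : H)⁻¹ := hab _ a.2 _ (inv_mem b.2)
  have e' : g * (a : H) * g⁻¹ = g * (b : H) * g⁻¹ * (((b : H) ^ 2)⁻¹ * (a : H) ^ 2) := by
    rw [← mul_assoc, ← e, inv_mul_cancel_right]
  have hcA : Commute ((b : H) ^ 2)⁻¹ ((a : H) ^ 2) := hab _ (inv_mem (pow_mem b.2 2)) _ (pow_mem a.2 2)
  have hcB : Commute (g * (b : H) * g⁻¹) (((b : H) ^ 2)⁻¹ * (a : H) ^ 2) :=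
    hab _ (hgX b b.2) _ (mul_mem (inv_mem (pow_mem b.2 2)) (pow_mem a.2 2))
  rw [hc.mul_pow, ← conj_mul, e', hcB.eq, mul_assoc, show g * (b : H) * g⁻¹ * (g * (b : H)⁻¹ * g⁻¹) = 1 by group,
    mul_one, hcA.eq, inv_pow]

omit [Finite H] [Fact p.Prime] in
/-- An automorphism of order a power of seven fixes a small group of 5-power order. -/
theorem aut_fix_small {M : Type*} [Group M] [Finite M] {k : ℕ} (hk : Nat.card M = 5 ^ k) (hk5 : k ≤ 5)
    {α : MulAut M} {a : ℕ} (h7 : α ^ 7 ^ a = 1) : α = 1 := by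
  haveI : Fact (Nat.Prime 7) := ⟨by norm_num⟩
  have hp : IsPGroup 7 (Subgroup.zpowers α) :=
    (IsPGroup.iff_card (p := 7)).2 (by
      rw [Nat.card_zpowers]
      obtain ⟨i, -, hi⟩ := (Nat.dvd_prime_pow (by norm_num)).1 (orderOf_dvd_of_pow_eq_one h7)
      exact ⟨i, hi⟩)
  have hmod := hp.card_modEq_card_fixedPoints M
  let F : Subgroup M := (α.toMonoidHom).eqLocus (MonoidHom.id M)
  have hF : MulAction.fixedPoints (Subgroup.zpowers α) M = (F : Set M) := by
    ext x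
    rw [MulAction.mem_fixedPoints]
    constructor
    · exact fun h => h ⟨α, Subgroup.mem_zpowers α⟩
    · rintro (h : α x = x) ⟨g, hg⟩
      have : Subgroup.zpowers α ≤ MulAction.stabilizer (MulAut M) x := Subgroup.zpowers_le.2 h
      exact this hg
  rw [hF] at hmod
  obtain ⟨j, hj, hFj⟩ := (Nat.dvd_prime_pow (by norm_num : Nat.Prime 5)).1 (hk ▸ F.card_subgroup_dvd_card)
  change Nat.card M ≡ Nat.card F [MOD 7] at hmod
  rw [hk, hFj] at hmod
  have hjk : j = k := by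
    interval_cases k <;> interval_cases j <;> simp_all [Nat.ModEq]
  subst hjk
  have htop : F = ⊤ := Subgroup.eq_top_of_card_eq _ (hFj.trans hk.symm)
  ext x
  exact (htop ▸ Subgroup.mem_top x : x ∈ F)

omit [Finite H] [Fact p.Prime] in
/-- An automorphism of order prime to five trivial on a subgroup and on its cosets is trivial. -/
theorem aut_fix_of_quot {M : Type*} [Group M] (hM : IsPGroup 5 M) {α : MulAut M} {a : ℕ} (h7 : α ^ 7 ^ a = 1)
    {Z : Subgroup M} (hZ : ∀ z ∈ Z, α z = z) (hq : ∀ x, x⁻¹ * α x ∈ Z) : α = 1 := by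
  ext x
  set z := x⁻¹ * α x with hz
  have hx : ∀ n : ℕ, (α ^ n) x = x * z ^ n := by
    intro n
    induction n with
    | zero => simp
    | succ n ih =>
      rw [pow_succ', MulAut.mul_apply, ih, map_mul, map_pow, hZ z (hq x), pow_succ', ← mul_assoc, hz,
        mul_inv_cancel_left]
  have h1 : z ^ 7 ^ a = 1 := by
    have := hx (7 ^ a)
    rw [h7, MulAut.one_apply] at this
    exact (mul_eq_left.1 this.symm)
  obtain ⟨b, hb⟩ := hM z
  have hcop : Nat.Coprime (7 ^ a) (5 ^ b) := (Nat.Coprime.pow _ _ (by norm_num))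
  have hz1 : z = 1 := by
    have := Nat.dvd_gcd (orderOf_dvd_of_pow_eq_one h1) (orderOf_dvd_of_pow_eq_one hb)
    rw [hcop] at this
    exact orderOf_eq_one_iff.1 (Nat.dvd_one.1 this)
  rw [MulAut.one_apply]
  exact (inv_mul_eq_one.1 hz1).symm

end Cfsg.Agent.AltE6
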