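/-
The incidence graph of the 45 monomials on 27 coordinates.

* `adj`, `th` : two coordinates in a common monomial and the third one;
* `chart`     : the graph seen from one of the coordinates.
-/
import Cfsg.Agent.Lib.E6Cubic.Main

set_option autoImplicit false
set_option maxRecDepth 100000

namespace Cfsg.Agent.AltE6

open Cfsg.Agent.E6Cubic

/-- The neighbours of the coordinates, as bit masks. -/
def adjTab : List ℕ := [19140528, 19165544, 19366104, 38276998, 38302021, 38502595, 76549686, 76574765, 76775451, 2056265, 14864457, 117551177, 2034834, 14846610, 117540498, 1862948, 14703396, 117454628, 113283591, 94409272, 56660928, 102310919, 85271608, 51193280, 14305287, 11946040, 7227840]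

/-- The third coordinates, `27` if there is none. -/
def thTab : List (List ℕ) := [
  [27, 27, 27, 27, 8, 7, 27, 5, 4, 18, 21, 24, 27, 27, 27, 27, 27, 27, 9, 27, 27, 10, 27, 27, 11, 27, 27],
  [27, 27, 27, 8, 27, 6, 5, 27, 3, 27, 27, 27, 18, 21, 24, 27, 27, 27, 12, 27, 27, 13, 27, 27, 14, 27, 27],
  [27, 27, 27, 7, 6, 27, 4, 3, 27, 27, 27, 27, 27, 27, 27, 18, 21, 24, 15, 27, 27, 16, 27, 27, 17, 27, 27],
  [27, 8, 7, 27, 27, 27, 27, 2, 1, 19, 22, 25, 27, 27, 27, 27, 27, 27, 27, 9, 27, 27, 10, 27, 27, 11, 27],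
  [8, 27, 6, 27, 27, 27, 2, 27, 0, 27, 27, 27, 19, 22, 25, 27, 27, 27, 27, 12, 27, 27, 13, 27, 27, 14, 27],
  [7, 6, 27, 27, 27, 27, 1, 0, 27, 27, 27, 27, 27, 27, 27, 19, 22, 25, 27, 15, 27, 27, 16, 27, 27, 17, 27],
  [27, 5, 4, 27, 2, 1, 27, 27, 27, 20, 23, 26, 27, 27, 27, 27, 27, 27, 27, 27, 9, 27, 27, 10, 27, 27, 11],
  [5, 27, 3, 2, 27, 0, 27, 27, 27, 27, 27, 27, 20, 23, 26, 27, 27, 27, 27, 27, 12, 27, 27, 13, 27, 27, 14],
  [4, 3, 27, 1, 0, 27, 27, 27, 27, 27, 27, 27, 27, 27, 27, 20, 23, 26, 27, 27, 15, 27, 27, 16, 27, 27, 17],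
  [18, 27, 27, 19, 27, 27, 20, 27, 27, 27, 27, 27, 27, 17, 16, 27, 14, 13, 0, 3, 6, 27, 27, 27, 27, 27, 27],
  [21, 27, 27, 22, 27, 27, 23, 27, 27, 27, 27, 27, 17, 27, 15, 14, 27, 12, 27, 27, 27, 0, 3, 6, 27, 27, 27],
  [24, 27, 27, 25, 27, 27, 26, 27, 27, 27, 27, 27, 16, 15, 27, 13, 12, 27, 27, 27, 27, 27, 27, 27, 0, 3, 6],
  [27, 18, 27, 27, 19, 27, 27, 20, 27, 27, 17, 16, 27, 27, 27, 27, 11, 10, 1, 4, 7, 27, 27, 27, 27, 27, 27],
  [27, 21, 27, 27, 22, 27, 27, 23, 27, 17, 27, 15, 27, 27, 27, 11, 27, 9, 27, 27, 27, 1, 4, 7, 27, 27, 27],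
  [27, 24, 27, 27, 25, 27, 27, 26, 27, 16, 15, 27, 27, 27, 27, 10, 9, 27, 27, 27, 27, 27, 27, 27, 1, 4, 7],
  [27, 27, 18, 27, 27, 19, 27, 27, 20, 27, 14, 13, 27, 11, 10, 27, 27, 27, 2, 5, 8, 27, 27, 27, 27, 27, 27],
  [27, 27, 21, 27, 27, 22, 27, 27, 23, 14, 27, 12, 11, 27, 9, 27, 27, 27, 27, 27, 27, 2, 5, 8, 27, 27, 27],
  [27, 27, 24, 27, 27, 25, 27, 27, 26, 13, 12, 27, 10, 9, 27, 27, 27, 27, 27, 27, 27, 27, 27, 27, 2, 5, 8],
  [9, 12, 15, 27, 27, 27, 27, 27, 27, 0, 27, 27, 1, 27, 27, 2, 27, 27, 27, 27, 27, 27, 26, 25, 27, 23, 22],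
  [27, 27, 27, 9, 12, 15, 27, 27, 27, 3, 27, 27, 4, 27, 27, 5, 27, 27, 27, 27, 27, 26, 27, 24, 23, 27, 21],
  [27, 27, 27, 27, 27, 27, 9, 12, 15, 6, 27, 27, 7, 27, 27, 8, 27, 27, 27, 27, 27, 25, 24, 27, 22, 21, 27],
  [10, 13, 16, 27, 27, 27, 27, 27, 27, 27, 0, 27, 27, 1, 27, 27, 2, 27, 27, 26, 25, 27, 27, 27, 27, 20, 19],
  [27, 27, 27, 10, 13, 16, 27, 27, 27, 27, 3, 27, 27, 4, 27, 27, 5, 27, 26, 27, 24, 27, 27, 27, 20, 27, 18],
  [27, 27, 27, 27, 27, 27, 10, 13, 16, 27, 6, 27, 27, 7, 27, 27, 8, 27, 25, 24, 27, 27, 27, 27, 19, 18, 27],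
  [11, 14, 17, 27, 27, 27, 27, 27, 27, 27, 27, 0, 27, 27, 1, 27, 27, 2, 27, 23, 22, 27, 20, 19, 27, 27, 27],
  [27, 27, 27, 11, 14, 17, 27, 27, 27, 27, 27, 3, 27, 27, 4, 27, 27, 5, 23, 27, 21, 20, 27, 18, 27, 27, 27],
  [27, 27, 27, 27, 27, 27, 11, 14, 17, 27, 27, 6, 27, 27, 7, 27, 27, 8, 22, 21, 27, 19, 18, 27, 27, 27, 27]]

/-- The graph seen from each coordinate: itself, five neighbours, their partners, and the sixteen others. -/
def chartTab : List (List ℕ) := [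
  [0, 8, 5, 9, 10, 11, 4, 7, 18, 21, 24, 2, 12, 13, 14, 25, 22, 19, 6, 26, 23, 20, 3, 1, 15, 16, 17],
  [1, 8, 5, 12, 13, 14, 3, 6, 18, 21, 24, 2, 9, 10, 11, 25, 22, 19, 7, 26, 23, 20, 4, 0, 15, 16, 17],
  [2, 7, 4, 15, 16, 17, 3, 6, 18, 21, 24, 1, 9, 10, 11, 25, 22, 19, 8, 26, 23, 20, 5, 0, 12, 13, 14],
  [3, 8, 2, 9, 10, 11, 1, 7, 19, 22, 25, 5, 12, 13, 14, 24, 21, 18, 6, 26, 23, 20, 0, 4, 15, 16, 17],
  [4, 8, 2, 12, 13, 14, 0, 6, 19, 22, 25, 5, 9, 10, 11, 24, 21, 18, 7, 26, 23, 20, 1, 3, 15, 16, 17],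
  [5, 7, 1, 15, 16, 17, 0, 6, 19, 22, 25, 4, 9, 10, 11, 24, 21, 18, 8, 26, 23, 20, 2, 3, 12, 13, 14],
  [6, 5, 2, 9, 10, 11, 1, 4, 20, 23, 26, 8, 12, 13, 14, 24, 21, 18, 3, 25, 22, 19, 0, 7, 15, 16, 17],
  [7, 5, 2, 12, 13, 14, 0, 3, 20, 23, 26, 8, 9, 10, 11, 24, 21, 18, 4, 25, 22, 19, 1, 6, 15, 16, 17],
  [8, 4, 1, 15, 16, 17, 0, 3, 20, 23, 26, 7, 9, 10, 11, 24, 21, 18, 5, 25, 22, 19, 2, 6, 12, 13, 14],
  [9, 0, 3, 6, 13, 14, 18, 19, 20, 17, 16, 12, 15, 26, 23, 25, 22, 2, 1, 24, 21, 5, 4, 8, 7, 10, 11],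
  [10, 0, 3, 6, 12, 14, 21, 22, 23, 17, 15, 13, 16, 26, 20, 25, 19, 2, 1, 24, 18, 5, 4, 8, 7, 9, 11],
  [11, 0, 3, 6, 12, 13, 24, 25, 26, 16, 15, 14, 17, 23, 20, 22, 19, 2, 1, 21, 18, 5, 4, 8, 7, 9, 10],
  [12, 1, 4, 7, 10, 11, 18, 19, 20, 17, 16, 9, 15, 26, 23, 25, 22, 2, 0, 24, 21, 5, 3, 8, 6, 13, 14],
  [13, 1, 4, 7, 9, 11, 21, 22, 23, 17, 15, 10, 16, 26, 20, 25, 19, 2, 0, 24, 18, 5, 3, 8, 6, 12, 14],
  [14, 1, 4, 7, 9, 10, 24, 25, 26, 16, 15, 11, 17, 23, 20, 22, 19, 2, 0, 21, 18, 5, 3, 8, 6, 12, 13],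
  [15, 2, 5, 8, 10, 11, 18, 19, 20, 14, 13, 9, 12, 26, 23, 25, 22, 1, 0, 24, 21, 4, 3, 7, 6, 16, 17],
  [16, 2, 5, 8, 9, 11, 21, 22, 23, 14, 12, 10, 13, 26, 20, 25, 19, 1, 0, 24, 18, 4, 3, 7, 6, 15, 17],
  [17, 2, 5, 8, 9, 10, 24, 25, 26, 13, 12, 11, 14, 23, 20, 22, 19, 1, 0, 21, 18, 4, 3, 7, 6, 15, 16],
  [18, 9, 1, 2, 22, 23, 0, 12, 15, 26, 25, 11, 10, 7, 4, 8, 5, 21, 24, 19, 20, 17, 16, 14, 13, 6, 3],
  [19, 9, 4, 5, 21, 23, 3, 12, 15, 26, 24, 11, 10, 7, 1, 8, 2, 22, 25, 18, 20, 17, 16, 14, 13, 6, 0],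
  [20, 9, 7, 8, 21, 22, 6, 12, 15, 25, 24, 11, 10, 4, 1, 5, 2, 23, 26, 18, 19, 17, 16, 14, 13, 3, 0],
  [21, 10, 1, 2, 19, 20, 0, 13, 16, 26, 25, 11, 9, 7, 4, 8, 5, 18, 24, 22, 23, 17, 15, 14, 12, 6, 3],
  [22, 10, 4, 5, 18, 20, 3, 13, 16, 26, 24, 11, 9, 7, 1, 8, 2, 19, 25, 21, 23, 17, 15, 14, 12, 6, 0],
  [23, 10, 7, 8, 18, 19, 6, 13, 16, 25, 24, 11, 9, 4, 1, 5, 2, 20, 26, 21, 22, 17, 15, 14, 12, 3, 0],
  [24, 11, 1, 2, 19, 20, 0, 14, 17, 23, 22, 10, 9, 7, 4, 8, 5, 18, 21, 25, 26, 16, 15, 13, 12, 6, 3],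
  [25, 11, 4, 5, 18, 20, 3, 14, 17, 23, 21, 10, 9, 7, 1, 8, 2, 19, 22, 24, 26, 16, 15, 13, 12, 6, 0],
  [26, 11, 7, 8, 18, 19, 6, 14, 17, 22, 21, 10, 9, 4, 1, 5, 2, 20, 23, 24, 25, 16, 15, 13, 12, 3, 0]]

/-- The graph in a chart, as bit masks. -/
def stdTab : List ℕ := [2046, 133693505, 126320769, 107372801, 89477633, 55358465, 522243, 7895045, 26843145, 44738577, 78858273, 121898944, 111280624, 93389544, 59278552, 74466148, 40379732, 22550092, 12060796, 67584930, 33990034, 17143434, 8620218, 4486918, 2255158, 1137198, 572446]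

/-- The signs of the sixteen others in a chart; `1` for minus. -/
def signTab : List (List ℕ) := [
  [0, 0, 0, 0, 0],
  [0, 0, 0, 1, 1],
  [0, 0, 1, 0, 1],
  [0, 0, 1, 1, 0],
  [0, 1, 0, 0, 1],
  [0, 1, 0, 1, 0],
  [0, 1, 1, 0, 0],
  [0, 1, 1, 1, 1],
  [1, 0, 0, 0, 1],
  [1, 0, 0, 1, 0],
  [1, 0, 1, 0, 0],
  [1, 0, 1, 1, 1],
  [1, 1, 0, 0, 0],
  [1, 1, 0, 1, 1],
  [1, 1, 1, 0, 1],
  [1, 1, 1, 1, 0]]

/-- Two coordinates lie in a common monomial. -/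
def adj (a b : I) : Bool := (adjTab.getD a.val 0).testBit b.val

/-- The third coordinate of a monomial. -/
def th (a b : I) : I := fI ((thTab.getD a.val []).getD b.val 0)

/-- The coordinates in a chart. -/
def chart (i q : I) : I := fI ((chartTab.getD i.val []).getD q.val 0)

/-- Adjacency in a chart. -/
def stdAdj (p q : I) : Bool := (stdTab.getD p.val 0).testBit q.val

theorem pick_adj : ∀ a b : I, (pick a b).map Prod.snd = if adj a b then [th a b] else [] := by decide +kernel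

theorem adj_th : ∀ a b : I, adj a b = true →
    adj b a = true ∧ adj a (th a b) = true ∧ th a (th a b) = b ∧ th a b ≠ b ∧ th b a = th a b ∧ a ≠ b ∧
      th a b ≠ a := by
  decide +kernel

theorem adj_symm : ∀ a b : I, adj a b = adj b a := by decide +kernel

theorem nbr_card : ∀ a : I, (Finset.univ.filter fun x => adj a x = true).card = 10 := by decide +kernel

theorem adj_path : ∀ a b : I, a ≠ b → adj a b = true ∨ ∃ k, adj a k = true ∧ adj k b = true := by decide +kernel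

theorem adj_centres : ∀ a b : I, a < b → adj a b = false → ∀ c, b < c → adj a c = false → adj b c = false →
    (Finset.univ.filter fun x => adj a x && adj b x && adj c x).card = 3 := by
  decide +kernel

theorem adj_triangle : ∀ e a : I, adj e a = true → ∀ b, adj e b = true → adj a b = true → b = th e a := by
  decide +kernel

/-- The closed neighbourhood of two coordinates. -/
def near (a b x : I) : Bool := x == a || x == b || adj a x || adj b x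

theorem near_spans : ∀ a b : I, a ≠ b → adj a b = false → ∀ k, near a b k = true ∨
    ∃ x, adj k x = true ∧ near a b x = true ∧ near a b (th k x) = true := by
  decide +kernel

theorem chart_zero : ∀ i : I, chart i 0 = i := by decide +kernel

theorem chart_injective : ∀ i p q : I, chart i p = chart i q → p = q := by decide +kernel

theorem chart_adj : ∀ i p q : I, adj (chart i p) (chart i q) = stdAdj p q := by decide +kernel

theorem chart_pairs : ∀ i : I, ∀ k : Fin 5, adj i (chart i (fI (1 + k.val))) = true ∧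
    th i (chart i (fI (1 + k.val))) = chart i (fI (6 + k.val)) := by
  decide +kernel

/-- A sign. -/
def sgn (m : Fin 16) (k : Fin 5) : ℤ := if (signTab.getD m.val []).getD k.val 0 = 1 then -1 else 1

theorem chart_spin : ∀ i : I, ∀ m : Fin 16, ∀ t : Fin 6,
    4 * lam (chart i (fI (11 + m.val))) t =
      lam i t * (1 + ∑ k, sgn m k) + 2 * ∑ k, sgn m k * lam (chart i (fI (1 + k.val))) t := by
  decide +kernel

end Cfsg.Agent.AltE6
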