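/-
Labellings of the coordinates by `ZMod s` summing to zero on monomials with a multiset invariant under doubling.

* `eleven_zero` : for `s = 11` only the zero labelling;
* `five_special` : for `s = 5` exactly seven zeros, one of which is adjacent to the others.
-/
import Cfsg.Agent.Lib.AltE6.Table

set_option autoImplicit false
set_option maxRecDepth 100000

namespace Cfsg.Agent.AltE6

open Cfsg.Agent.E6Cubic

theorem mons_adj : ∀ m ∈ mons, adj m.2.1 m.2.2.1 = true ∧ th m.2.1 m.2.2.1 = m.2.2.2 := by decide +kernel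

/-- The sixteen values off the neighbourhood of a zero. -/
def spinVal (s h : ℕ) (a : List ℕ) (S : List ℕ) : ℕ :=
  h * (List.zipWith (fun x t => if t = 1 then s - x else x) a S).sum % s

/-- The values in a chart at a zero. -/
def vals (s h : ℕ) (a : List ℕ) : List ℕ :=
  0 :: (a ++ a.map (fun x => (s - x) % s) ++ signTab.map (spinVal s h a))

/-- The multiset is invariant under doubling. -/
def invB (s : ℕ) (V : List ℕ) : Bool :=
  (List.range s).all fun v => V.count v == V.count (2 * v % s)

/-- Seven zeros, one of them adjacent to the others. -/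
def specB (V : List ℕ) : Bool :=
  V.count 0 == 7 && (List.finRange 27).any fun p => V.getD p.val 0 == 0 &&
    (List.finRange 27).all fun q => !(V.getD q.val 0 == 0) || q == p || stdAdj p q

/-- The sum of the squares in a chart vanishes. -/
def sqB (s : ℕ) (a : List ℕ) : Bool := (a.map fun x => x * x).sum % s == 0

/-- No labelling by `ZMod 11` starting with `a1`, `a2`. -/
def elevenB (a1 a2 : ℕ) : Bool :=
  (List.range 11).all fun a3 => (List.range 11).all fun a4 => (List.range 11).all fun a5 =>
    !(sqB 11 [a1, a2, a3, a4, a5]) || [a1, a2, a3, a4, a5].all (fun x => x == 0) ||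
      !(invB 11 (vals 11 6 [a1, a2, a3, a4, a5]))

/-- The labellings by `ZMod 5` starting with `a1` are special. -/
def fiveB (a1 : ℕ) : Bool :=
  (List.range 5).all fun a2 => (List.range 5).all fun a3 => (List.range 5).all fun a4 => (List.range 5).all fun a5 =>
    !(sqB 5 [a1, a2, a3, a4, a5]) || [a1, a2, a3, a4, a5].all (fun x => x == 0) ||
      !(invB 5 (vals 5 3 [a1, a2, a3, a4, a5])) || specB (vals 5 3 [a1, a2, a3, a4, a5])

theorem five_zero : fiveB 0 = true := by decide +kernel

theorem five_one : fiveB 1 = true := by decide +kernel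

theorem eleven_a : (List.range 6).all (elevenB 0) = true := by decide +kernel

theorem eleven_b : ((List.range 11).drop 6).all (elevenB 0) = true := by decide +kernel

theorem eleven_c : (List.range 6).all (elevenB 1) = true := by decide +kernel

theorem eleven_d : ((List.range 11).drop 6).all (elevenB 1) = true := by decide +kernel

theorem eleven_check (a1 a2 : ℕ) (h1 : a1 ≤ 1) (h2 : a2 < 11) : elevenB a1 a2 = true := by
  have H : ∀ f : ℕ → Bool, (List.range 6).all f = true → ((List.range 11).drop 6).all f = true → f a2 = true := by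
    intro f ha hb
    rw [List.all_eq_true] at ha hb
    have : a2 ∈ List.range 6 ∨ a2 ∈ (List.range 11).drop 6 := by
      rw [← List.mem_append, show List.range 6 ++ (List.range 11).drop 6 = List.range 11 from rfl]
      exact List.mem_range.2 h2
    exact this.elim (ha _) (hb _)
  rcases Nat.le_one_iff_eq_zero_or_eq_one.1 h1 with rfl | rfl
  · exact H _ eleven_a eleven_b
  · exact H _ eleven_c eleven_d

theorem five_check (a1 : ℕ) (h1 : a1 ≤ 1) : fiveB a1 = true := by
  rcases Nat.le_one_iff_eq_zero_or_eq_one.1 h1 with rfl | rfl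
  exacts [five_zero, five_one]

theorem fact_five : Fact (Nat.Prime 5) := ⟨by norm_num⟩

theorem fact_eleven : Fact (Nat.Prime 11) := ⟨by norm_num⟩

attribute [local instance] fact_five fact_eleven

variable {s : ℕ} [hs : Fact s.Prime]

/-- The sum on each monomial is zero. -/
def MonSum {A : Type*} [AddCommGroup A] (c : I → A) : Prop :=
  ∀ x y, adj x y = true → c x + c y + c (th x y) = 0

/-- The multiset of values is invariant under doubling. -/
def DblInv (c : I → ZMod s) : Prop :=
  ∀ v, (Finset.univ.filter fun x => c x = v).card = (Finset.univ.filter fun x => c x = 2 * v).card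

theorem chart_bijective (i : I) : Function.Bijective (chart i) :=
  Finite.injective_iff_bijective.1 fun p q h => chart_injective i p q h

theorem vals_len : ∀ (s h a1 a2 a3 a4 a5 : ℕ), (vals s h [a1, a2, a3, a4, a5]).length = 27 := by
  intros
  simp [vals, signTab]

variable {c : I → ZMod s}

theorem MonSum.spin (hc : MonSum c) {i : I} (hi : c i = 0) (m : Fin 16) :
    4 * c (chart i (fI (11 + m.val))) = 2 * ∑ k, (sgn m k : ZMod s) * c (chart i (fI (1 + k.val))) := by
  obtain ⟨μ, hμ⟩ := exists_omega (l := c) fun mm hmm => by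
    obtain ⟨h1, h2⟩ := mons_adj mm hmm
    rw [← h2]
    exact hc _ _ h1
  have hμ' : ∀ j, c j = ∑ t, (lam j t : ZMod s) * μ t := fun j => by
    rw [hμ j]
    exact Finset.sum_congr rfl fun t _ => zsmul_eq_mul _ _
  rw [hμ'] at hi
  simp only [hμ', Finset.mul_sum]
  rw [Finset.sum_comm (γ := Fin 5)]
  have e : ∀ t : Fin 6, (4 : ZMod s) * ((lam (chart i (fI (11 + m.val))) t : ZMod s) * μ t) =
      (1 + ∑ k, (sgn m k : ZMod s)) * ((lam i t : ZMod s) * μ t) +
        ∑ k, (2 : ZMod s) * ((sgn m k : ZMod s) * ((lam (chart i (fI (1 + k.val))) t : ZMod s) * μ t)) := fun t => by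
    have := congrArg (fun z : ℤ => (z : ZMod s)) (chart_spin i m t)
    push_cast at this
    rw [← mul_assoc, this, ← Finset.mul_sum (a := (2 : ZMod s))]
    simp only [← mul_assoc _ _ (μ t), ← Finset.sum_mul]
    ring
  simp only [e, Finset.sum_add_distrib, ← Finset.mul_sum, hi, mul_zero, zero_add]

/-- The values in a chart. -/
theorem MonSum.chart_vals (hc : MonSum c) {i : I} (hi : c i = 0) {h : ℕ} (hh : ((2 * h : ℕ) : ZMod s) = 1)
    {a : Fin 5 → ℕ} (ha : ∀ k, (a k : ZMod s) = c (chart i (fI (1 + k.val)))) (hlt : ∀ k, a k < s) (q : I) :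
    ((vals s h [a 0, a 1, a 2, a 3, a 4]).getD q.val 0 : ZMod s) = c (chart i q) ∧
      (vals s h [a 0, a 1, a 2, a 3, a 4]).getD q.val 0 < s := by
  have hpos : 0 < s := hs.out.pos
  obtain ⟨n, hn⟩ := q
  by_cases h0 : n = 0
  · subst h0
    refine ⟨?_, hpos⟩
    rw [show chart i ⟨0, hn⟩ = i from chart_zero i, hi]
    exact Nat.cast_zero
  by_cases h1 : n < 6
  · obtain ⟨k, rfl⟩ : ∃ k : Fin 5, n = 1 + k.val := ⟨⟨n - 1, by omega⟩, by simp; omega⟩
    have e : fI (1 + k.val) = (⟨1 + k.val, hn⟩ : I) := Fin.ext (Nat.mod_eq_of_lt hn)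
    rw [← e] at *
    have hv : (vals s h [a 0, a 1, a 2, a 3, a 4]).getD (fI (1 + k.val)).val 0 = a k := by
      fin_cases k <;> rfl
    rw [hv]
    exact ⟨ha k, hlt k⟩
  by_cases h2 : n < 11
  · obtain ⟨k, rfl⟩ : ∃ k : Fin 5, n = 6 + k.val := ⟨⟨n - 6, by omega⟩, by simp; omega⟩
    have e : fI (6 + k.val) = (⟨6 + k.val, hn⟩ : I) := Fin.ext (Nat.mod_eq_of_lt hn)
    rw [← e] at *
    have hv : (vals s h [a 0, a 1, a 2, a 3, a 4]).getD (fI (6 + k.val)).val 0 = (s - a k) % s := by
      fin_cases k <;> rfl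
    rw [hv]
    refine ⟨?_, Nat.mod_lt _ hpos⟩
    obtain ⟨h1, h2⟩ := chart_pairs i k
    have := hc _ _ h1
    rw [h2, hi, zero_add, ← ha k] at this
    rw [ZMod.natCast_mod, Nat.cast_sub (hlt k).le, ZMod.natCast_self, zero_sub]
    exact neg_eq_of_add_eq_zero_right this
  · obtain ⟨m, rfl⟩ : ∃ m : Fin 16, n = 11 + m.val := ⟨⟨n - 11, by omega⟩, by simp; omega⟩
    have e : fI (11 + m.val) = (⟨11 + m.val, hn⟩ : I) := Fin.ext (Nat.mod_eq_of_lt hn)
    rw [← e] at *
    have hv : (vals s h [a 0, a 1, a 2, a 3, a 4]).getD (fI (11 + m.val)).val 0 =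
        spinVal s h [a 0, a 1, a 2, a 3, a 4] (signTab.getD m.val []) := by
      fin_cases m <;> rfl
    rw [hv]
    refine ⟨?_, Nat.mod_lt _ hpos⟩
    have hS : (List.zipWith (fun x t => if t = 1 then s - x else x) [a 0, a 1, a 2, a 3, a 4]
        (signTab.getD m.val [])).sum = ∑ k : Fin 5, (if (signTab.getD m.val []).getD k.val 0 = 1 then s - a k else a k) := by
      rw [Fin.sum_univ_five]
      fin_cases m <;> simp [signTab] <;> ring
    rw [spinVal, ZMod.natCast_mod, Nat.cast_mul, hS, Nat.cast_sum]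
    have key : ∀ k : Fin 5, (((if (signTab.getD m.val []).getD k.val 0 = 1 then s - a k else a k : ℕ)) : ZMod s) =
        (sgn m k : ZMod s) * c (chart i (fI (1 + k.val))) := fun k => by
      rw [← ha k, sgn]
      split_ifs <;> simp [Nat.cast_sub (hlt k).le]
    simp only [key]
    have h4 := hc.spin hi m
    push_cast at hh
    linear_combination (-(h : ZMod s) ^ 2) * h4 +
      ((2 * (h : ZMod s) + 1) * c (chart i (fI (11 + m.val))) -
        (h : ZMod s) * ∑ k, (sgn m k : ZMod s) * c (chart i (fI (1 + k.val)))) * hh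

theorem MonSum.smul (hc : MonSum c) (r : ZMod s) : MonSum fun x => r * c x := fun x y h => by
  show r * c x + r * c y + r * c (th x y) = 0
  rw [← mul_add, ← mul_add, hc x y h, mul_zero]

theorem DblInv.smul (hd : DblInv c) {r : ZMod s} (hr : r ≠ 0) : DblInv fun x => r * c x := fun v => by
  have h := hd (r⁻¹ * v)
  have e : ∀ w, (Finset.univ.filter fun x => r * c x = w) = Finset.univ.filter fun x => c x = r⁻¹ * w := fun w => by
    ext x
    simp [eq_inv_mul_iff_mul_eq₀ hr]
  rw [e, e, h, mul_left_comm]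

/-- A chart where the first value is 0 or 1. -/
theorem exists_norm (hc : MonSum c) (hd : DblInv c) {i : I} (hi : c i = 0) :
    ∃ r : ZMod s, r ≠ 0 ∧ (r * c (chart i (fI 1))).val ≤ 1 := by
  by_cases h : c (chart i (fI 1)) = 0
  · exact ⟨1, one_ne_zero, by simp [h]⟩
  · refine ⟨(c (chart i (fI 1)))⁻¹, inv_ne_zero h, ?_⟩
    haveI : Fact (1 < s) := ⟨hs.out.one_lt⟩
    rw [inv_mul_cancel₀ h, ZMod.val_one]

/-- Checked values and the labelling. -/
theorem vals_inv (hc : MonSum c) (hd : DblInv c) {i : I} (hi : c i = 0) {h : ℕ} (hh : ((2 * h : ℕ) : ZMod s) = 1)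
    {a : Fin 5 → ℕ} (ha : ∀ k, a k = (c (chart i (fI (1 + k.val)))).val) :
    invB s (vals s h [a 0, a 1, a 2, a 3, a 4]) = true := by
  haveI : NeZero s := ⟨hs.out.ne_zero⟩
  have H := fun q => hc.chart_vals hi hh (a := a) (fun k => by rw [ha, ZMod.natCast_zmod_val])
    (fun k => by rw [ha]; exact ZMod.val_lt _) q
  set V := vals s h [a 0, a 1, a 2, a 3, a 4] with hV
  have hlen : V.length = 27 := vals_len ..
  have hcount : ∀ v < s, V.count v = (Finset.univ.filter fun x => c x = (v : ZMod s)).card := by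
    intro v hv
    have e : V = List.ofFn fun q : I => V.getD q.val 0 := by
      refine List.ext_getElem (by simp [hlen]) fun n h1 h2 => ?_
      rw [List.getElem_ofFn, List.getD_eq_getElem _ _ h1]
    conv_lhs => rw [e]
    rw [List.count, List.countP_eq_length_filter]
    have : ((List.ofFn fun q : I => V.getD q.val 0).filter fun x => x == v).length =
        (Finset.univ.filter fun q : I => V.getD q.val 0 = v).card := by
      rw [List.ofFn_eq_map, List.filter_map, List.length_map, ← List.toFinset_card_of_nodup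
        ((List.nodup_finRange 27).filter _)]
      congr 1
      ext q
      simp
    rw [this]
    refine Finset.card_bij (fun q _ => chart i q) ?_ (fun q _ q' _ e => chart_injective i q q' e) ?_
    · intro q hq
      simp only [Finset.mem_filter, Finset.mem_univ, true_and] at hq ⊢
      rw [← (H q).1, hq]
    · intro x hx
      simp only [Finset.mem_filter, Finset.mem_univ, true_and] at hx ⊢
      obtain ⟨q, rfl⟩ := (chart_bijective i).2 x
      refine ⟨q, ?_, rfl⟩
      rw [← (H q).1] at hx
      have := congrArg ZMod.val hx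
      rwa [ZMod.val_natCast_of_lt (H q).2, ZMod.val_natCast_of_lt hv] at this
  rw [invB, List.all_eq_true]
  intro v hv
  rw [List.mem_range] at hv
  rw [beq_iff_eq, hcount v hv, hcount _ (Nat.mod_lt _ hs.out.pos), hd]
  congr 2
  ext x
  simp

theorem exists_zero_five {c : I → ZMod 5} (hd : DblInv c) : ∃ i, c i = 0 := by
  by_contra h
  push Not at h
  have h0 : (Finset.univ.filter fun x => c x = 0).card = 0 := by simp [h]
  have h1 := hd 1
  have h2 := hd 2
  have h3 := hd 4
  have hsum := Finset.card_eq_sum_card_fiberwise (f := c) (s := (Finset.univ : Finset I)) (t := Finset.univ)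
    fun x _ => Finset.mem_univ _
  rw [show (Finset.univ : Finset (ZMod 5)) = {0, 1, 2, 3, 4} from rfl, Finset.sum_insert (by decide),
    Finset.sum_insert (by decide), Finset.sum_insert (by decide), Finset.sum_insert (by decide),
    Finset.sum_singleton, Finset.card_univ, Fintype.card_fin] at hsum
  change _ = (Finset.univ.filter fun x => c x = 2).card at h1
  change _ = (Finset.univ.filter fun x => c x = 4).card at h2
  change _ = (Finset.univ.filter fun x => c x = 3).card at h3
  omega

theorem exists_zero_eleven {c : I → ZMod 11} (hd : DblInv c) : ∃ i, c i = 0 := by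
  by_contra h
  push Not at h
  have h0 : (Finset.univ.filter fun x => c x = 0).card = 0 := by simp [h]
  have h1 : ∀ v : ZMod 11, v ≠ 0 → (Finset.univ.filter fun x => c x = v).card =
      (Finset.univ.filter fun x => c x = 1).card := by
    have hp : ∀ k, (Finset.univ.filter fun x => c x = (2 : ZMod 11) ^ k).card =
        (Finset.univ.filter fun x => c x = 1).card := fun k => by
      induction k with
      | zero => rw [pow_zero]
      | succ k ih => rw [pow_succ', ← hd, ih]
    intro v hv
    have : ∀ v : ZMod 11, v ≠ 0 → ∃ k : Fin 10, (2 : ZMod 11) ^ k.val = v := by decide +kernel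
    obtain ⟨k, rfl⟩ := this v hv
    exact hp _
  have hsum := Finset.card_eq_sum_card_fiberwise (f := c) (s := (Finset.univ : Finset I)) (t := Finset.univ)
    fun x _ => Finset.mem_univ _
  rw [← Finset.add_sum_erase _ _ (Finset.mem_univ (0 : ZMod 11)), h0,
    Finset.sum_congr rfl fun v hv => h1 v (Finset.ne_of_mem_erase hv), Finset.sum_const, Finset.card_univ,
    Fintype.card_fin, Finset.card_erase_of_mem (Finset.mem_univ _), Finset.card_univ, ZMod.card, smul_eq_mul] at hsum
  omega

omit hs in
theorem sum_range27 {A : Type*} [AddCommMonoid A] (g : I → A) : ∑ q, g q =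
    g 0 + ∑ k : Fin 5, g (fI (1 + k.val)) + ∑ k : Fin 5, g (fI (6 + k.val)) + ∑ m : Fin 16, g (fI (11 + m.val)) := by
  simp only [Fin.sum_univ_succ, Finset.univ_eq_empty, Finset.sum_empty, add_zero, Fin.val_zero, Fin.val_succ]
  simp only [fI]
  simp only [Fin.succ_zero_eq_one, add_assoc]
  rfl

omit hs in
theorem sgn_orth : ∀ k l : Fin 5, ∑ m : Fin 16, sgn m k * sgn m l = if k = l then 16 else 0 := by decide +kernel

theorem MonSum.sum_sq (hc : MonSum c) {i : I} (hi : c i = 0) (h2 : (2 : ZMod s) ≠ 0) :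
    ∑ x, c x ^ 2 = 6 * ∑ k : Fin 5, c (chart i (fI (1 + k.val))) ^ 2 := by
  rw [← (chart_bijective i).sum_comp (fun x => c x ^ 2), sum_range27, chart_zero, hi]
  have hb : ∀ k : Fin 5, c (chart i (fI (6 + k.val))) ^ 2 = c (chart i (fI (1 + k.val))) ^ 2 := fun k => by
    obtain ⟨h1, h2⟩ := chart_pairs i k
    have := hc _ _ h1
    rw [h2, hi, zero_add] at this
    rw [← neg_eq_of_add_eq_zero_right this, neg_sq]
  simp only [hb]
  set a : Fin 5 → ZMod s := fun k => c (chart i (fI (1 + k.val))) with ha
  have key : (4 : ZMod s) * ∑ m : Fin 16, c (chart i (fI (11 + m.val))) ^ 2 = 16 * ∑ k, a k ^ 2 := by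
    have e : ∀ m : Fin 16, 2 * c (chart i (fI (11 + m.val))) = ∑ k, (sgn m k : ZMod s) * a k := fun m => by
      refine mul_left_cancel₀ h2 ?_
      rw [← mul_assoc, show (2 : ZMod s) * 2 = 4 by norm_num]
      exact hc.spin hi m
    have e' : ∀ m : Fin 16, (4 : ZMod s) * c (chart i (fI (11 + m.val))) ^ 2 =
        ∑ k, ∑ l, ((sgn m k * sgn m l : ℤ) : ZMod s) * (a k * a l) := fun m => by
      rw [show (4 : ZMod s) * c (chart i (fI (11 + m.val))) ^ 2 = (2 * c (chart i (fI (11 + m.val)))) ^ 2 by ring,
        e m, sq, Finset.sum_mul_sum]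
      exact Finset.sum_congr rfl fun k _ => Finset.sum_congr rfl fun l _ => by push_cast; ring
    rw [Finset.mul_sum, Finset.sum_congr rfl fun m _ => e' m, Finset.sum_comm, Finset.mul_sum]
    refine Finset.sum_congr rfl fun k _ => ?_
    rw [Finset.sum_comm]
    simp only [← Finset.sum_mul, ← Int.cast_sum, sgn_orth]
    simp [ite_mul, apply_ite, sq]
  refine mul_left_cancel₀ (mul_ne_zero h2 h2) ?_
  linear_combination key

theorem DblInv.sum_sq (hd : DblInv c) (h2 : (2 : ZMod s) ≠ 0) (h3 : (3 : ZMod s) ≠ 0) : ∑ x, c x ^ 2 = 0 := by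
  haveI : NeZero s := ⟨hs.out.ne_zero⟩
  set n : ZMod s → ℕ := fun v => (Finset.univ.filter fun x => c x = v).card with hn
  have e : ∑ x, c x ^ 2 = ∑ v, (n v : ZMod s) * v ^ 2 := by
    rw [← Finset.sum_fiberwise Finset.univ c fun x => c x ^ 2]
    refine Finset.sum_congr rfl fun v _ => ?_
    rw [Finset.sum_congr rfl fun x hx => by rw [(Finset.mem_filter.1 hx).2], Finset.sum_const, nsmul_eq_mul]
  have e2 : ∑ v, (n v : ZMod s) * v ^ 2 = ∑ v, (n v : ZMod s) * (2 * v) ^ 2 := by
    rw [← Equiv.sum_comp (Equiv.mulLeft₀ 2 h2) fun v => (n v : ZMod s) * v ^ 2]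
    exact Finset.sum_congr rfl fun v _ => by
      simp only [hn, hd v]
      rfl
  rw [e]
  refine (mul_eq_zero.1 ?_).resolve_left h3
  simp only [mul_pow, mul_left_comm, ← Finset.mul_sum] at e2 ⊢
  linear_combination -e2

theorem sqB_true (hc : MonSum c) (hd : DblInv c) {i : I} (hi : c i = 0) (h2 : (2 : ZMod s) ≠ 0) (h3 : (3 : ZMod s) ≠ 0)
    {a : Fin 5 → ℕ} (ha : ∀ k, (a k : ZMod s) = c (chart i (fI (1 + k.val)))) :
    sqB s [a 0, a 1, a 2, a 3, a 4] = true := by
  have h := hc.sum_sq hi h2
  rw [hd.sum_sq h2 h3] at h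
  have h6 : (6 : ZMod s) ≠ 0 := by
    rw [show (6 : ZMod s) = 2 * 3 by norm_num]
    exact mul_ne_zero h2 h3
  have h' := (mul_eq_zero.1 h.symm).resolve_left h6
  rw [sqB, beq_iff_eq, ← Nat.dvd_iff_mod_eq_zero, ← ZMod.natCast_eq_zero_iff]
  rw [← h', Fin.sum_univ_five, ← ha 0, ← ha 1, ← ha 2, ← ha 3, ← ha 4]
  simp
  ring

/-- All values vanish if those of a chart do. -/
theorem MonSum.eq_zero_of_chart (hc : MonSum c) {i : I} (hi : c i = 0) {h : ℕ} (hh : ((2 * h : ℕ) : ZMod s) = 1)
    (h0 : ∀ k : Fin 5, c (chart i (fI (1 + k.val))) = 0) (x : I) : c x = 0 := by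
  obtain ⟨q, rfl⟩ := (chart_bijective i).2 x
  rw [← (hc.chart_vals hi hh (a := fun _ => 0) (fun k => by rw [h0 k, Nat.cast_zero]) (fun _ => hs.out.pos) q).1]
  fin_cases q <;> simp [vals, spinVal, signTab]

/-- Doubling acts on no nonzero labelling by `ZMod 11`. -/
theorem eleven_zero {c : I → ZMod 11} (hc : MonSum c) (hd : DblInv c) : ∀ x, c x = 0 := by
  obtain ⟨i, hi⟩ := exists_zero_eleven hd
  obtain ⟨r, hr, hr1⟩ := exists_norm hc hd hi
  set c' := fun x => r * c x with hc'
  have hi' : c' i = 0 := by simp [hc', hi]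
  set a : Fin 5 → ℕ := fun k => (c' (chart i (fI (1 + k.val)))).val with ha
  have hinv := vals_inv (hc.smul r) (hd.smul hr) hi' (h := 6) (by decide) (a := a) fun _ => rfl
  have hlt : ∀ k, a k < 11 := fun k => ZMod.val_lt _
  suffices h : ∀ k, a k = 0 by
    intro x
    have h' := (hc.smul r).eq_zero_of_chart hi' (h := 6) (by decide) (fun k => (ZMod.val_eq_zero _).1 (h k)) x
    exact (mul_eq_zero.1 h').resolve_left hr
  have hsq := sqB_true (hc.smul r) (hd.smul hr) hi' (by decide) (by decide) (a := a)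
    (fun k => ZMod.natCast_zmod_val _)
  have h := eleven_check (a 0) (a 1) hr1 (hlt 1)
  simp only [elevenB, List.all_eq_true, List.mem_range] at h
  have h' := h (a 2) (hlt 2) (a 3) (hlt 3) (a 4) (hlt 4)
  rw [hsq, hinv] at h'
  simp at h'
  intro k
  fin_cases k <;> simp [h']

/-- The zeros of a labelling by `ZMod 5`. -/
def zeros {A : Type*} [Zero A] [DecidableEq A] (c : I → A) : Finset I := Finset.univ.filter fun x => c x = 0

/-- A special point: a zero adjacent to all other zeros, seven in number. -/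
def Special (c : I → ZMod 5) (e : I) : Prop :=
  c e = 0 ∧ (zeros c).card = 7 ∧ ∀ x, c x = 0 → x ≠ e → adj e x = true

theorem five_special {c : I → ZMod 5} (hc : MonSum c) (hd : DblInv c)
    (hne : ∃ x, c x ≠ 0) : ∃ e, Special c e := by
  obtain ⟨i, hi⟩ := exists_zero_five hd
  obtain ⟨r, hr, hr1⟩ := exists_norm hc hd hi
  set c' := fun x => r * c x with hc'
  have hi' : c' i = 0 := by simp [hc', hi]
  have hz : ∀ x, c' x = 0 ↔ c x = 0 := fun x => by simp [hc', hr]
  set a : Fin 5 → ℕ := fun k => (c' (chart i (fI (1 + k.val)))).val with ha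
  have hinv := vals_inv (hc.smul r) (hd.smul hr) hi' (h := 3) (by decide) (a := a) fun _ => rfl
  have H := fun q => (hc.smul r).chart_vals hi' (h := 3) (by decide) (a := a)
    (fun k => ZMod.natCast_zmod_val _) (fun k => ZMod.val_lt _) q
  have hlt : ∀ k, a k < 5 := fun k => ZMod.val_lt _
  have hsq := sqB_true (hc.smul r) (hd.smul hr) hi' (by decide) (by decide) (a := a)
    (fun k => ZMod.natCast_zmod_val _)
  have h0 := five_check (a 0) hr1
  simp only [fiveB, List.all_eq_true, List.mem_range] at h0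
  have h := h0 (a 1) (hlt 1) (a 2) (hlt 2) (a 3) (hlt 3) (a 4) (hlt 4)
  rw [hsq, hinv] at h
  simp only [Bool.not_true, Bool.false_or, Bool.or_false, Bool.or_eq_true, List.all_cons, List.all_nil,
    Bool.and_true, Bool.and_eq_true, beq_iff_eq] at h
  rcases h with ⟨z0, z1, z2, z3, z4⟩ | h
  · obtain ⟨x, hx⟩ := hne
    refine absurd ((hz x).1 ((hc.smul r).eq_zero_of_chart hi' (h := 3) (by decide) (fun k => ?_) x)) hx
    exact (ZMod.val_eq_zero _).1 (by fin_cases k <;> assumption)
  set V := vals 5 3 [a 0, a 1, a 2, a 3, a 4] with hV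
  simp only [specB, Bool.and_eq_true, beq_iff_eq, List.any_eq_true, List.all_eq_true, List.mem_finRange,
    true_and, true_implies, Bool.or_eq_true, Bool.not_eq_true', beq_eq_false_iff_ne] at h
  obtain ⟨hcount, p, hp, hall⟩ := h
  have hzero : ∀ q : I, c (chart i q) = 0 ↔ V.getD q.val 0 = 0 := fun q => by
    rw [← hz]
    show r * c (chart i q) = 0 ↔ _
    rw [← (H q).1]
    refine ⟨fun e => ?_, fun e => by rw [e, Nat.cast_zero]⟩
    have := congrArg ZMod.val e
    rwa [ZMod.val_natCast_of_lt (H q).2, ZMod.val_zero] at this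
  refine ⟨chart i p, (hzero p).2 hp, ?_, fun x hx hne' => ?_⟩
  · have hlen : V.length = 27 := vals_len ..
    rw [← hcount]
    have e : V = List.ofFn fun q : I => V.getD q.val 0 := by
      refine List.ext_getElem (by simp [hlen]) fun n h1 h2 => ?_
      rw [List.getElem_ofFn, List.getD_eq_getElem _ _ h1]
    conv_rhs => rw [e]
    rw [List.count, List.countP_eq_length_filter, List.ofFn_eq_map, List.filter_map, List.length_map,
      ← List.toFinset_card_of_nodup ((List.nodup_finRange 27).filter _)]
    refine (Finset.card_bij (fun q _ => chart i q) ?_ (fun q _ q' _ e => chart_injective i q q' e) ?_).symm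
    · intro q hq
      simpa [zeros, hzero] using hq
    · intro x hx
      obtain ⟨q, rfl⟩ := (chart_bijective i).2 x
      exact ⟨q, by simpa [zeros, hzero] using hx, rfl⟩
  · obtain ⟨q, rfl⟩ := (chart_bijective i).2 x
    rw [chart_adj]
    rcases hall q with (h1 | h1) | h1
    · exact absurd ((hzero q).1 hx) h1
    · exact absurd (by rw [h1]) hne'
    · exact h1

end Cfsg.Agent.AltE6
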