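/-
Permutations of the coordinates preserving the monomials.

* `Pres.eq_one` : such a permutation of order a power of a prime `s ≥ 5` fixing three points is trivial;
* `Pres.det_by_four` : a labelling invariant under a nontrivial one of 5-power order is given by four values.
-/
import Cfsg.Agent.Lib.AltE6.Table

set_option autoImplicit false

namespace Cfsg.Agent.AltE6

open Cfsg.Agent.E6Cubic Function

/-- A permutation of the coordinates preserving the monomials. -/
def Pres (σ : Equiv.Perm I) : Prop :=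
  ∀ a b, adj (σ a) (σ b) = adj a b ∧ (adj a b = true → th (σ a) (σ b) = σ (th a b))

theorem Pres.pow {σ : Equiv.Perm I} (h : Pres σ) : ∀ n : ℕ, Pres (σ ^ n) := by
  intro n
  induction n with
  | zero => intro a b; simp
  | succ n ih =>
    intro a b
    rw [pow_succ']
    simp only [Equiv.Perm.mul_apply]
    exact ⟨((h _ _).1).trans (ih a b).1, fun hab => by
      rw [(h _ _).2 (((ih a b).1).trans hab), (ih a b).2 hab]⟩

theorem Pres.iterate_th {σ : Equiv.Perm I} (h : Pres σ) {a b : I} (hab : adj a b = true) (n : ℕ) :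
    adj (σ^[n] a) (σ^[n] b) = true ∧ σ^[n] (th a b) = th (σ^[n] a) (σ^[n] b) := by
  rw [← Equiv.Perm.coe_pow]
  exact ⟨((h.pow n a b).1).trans hab, ((h.pow n a b).2 hab).symm⟩

variable {s e : ℕ} [hs : Fact s.Prime] {σ : Equiv.Perm I}

theorem period_cases (he : σ ^ s ^ e = 1) (x : I) :
    σ x = x ∨ s ≤ minimalPeriod σ x ∧ minimalPeriod σ x ∣ s ^ e := by
  have hp : IsPeriodicPt σ (s ^ e) x := by
    show σ^[s ^ e] x = x
    rw [← Equiv.Perm.coe_pow, he, Equiv.Perm.one_apply]
  obtain ⟨i, -, hi⟩ := (Nat.dvd_prime_pow hs.out).1 hp.minimalPeriod_dvd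
  rcases Nat.eq_zero_or_pos i with rfl | hi0
  · left
    rw [pow_zero] at hi
    exact minimalPeriod_eq_one_iff_isFixedPt.1 hi
  · right
    exact ⟨hi ▸ Nat.le_self_pow hi0.ne' s, hp.minimalPeriod_dvd⟩

/-- An invariant set with fewer than `s` elements is fixed pointwise. -/
theorem fix_of_small (he : σ ^ s ^ e = 1) {A : Finset I} (hA : ∀ x ∈ A, σ x ∈ A) (hc : A.card < s) :
    ∀ x ∈ A, σ x = x := by
  intro x hx
  refine (period_cases he x).resolve_right fun ⟨h, _⟩ => ?_
  have hmem : ∀ n, σ^[n] x ∈ A := fun n => by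
    induction n with
    | zero => exact hx
    | succ n ih => rw [iterate_succ_apply']; exact hA _ ih
  have := Finset.card_le_card_of_injOn (fun n => σ^[n] x) (s := Finset.range (minimalPeriod σ x)) (t := A)
    (fun n _ => hmem n) (fun a ha b hb => iterate_injOn_Iio_minimalPeriod (by simpa using ha) (by simpa using hb))
  rw [Finset.card_range] at this
  omega

/-- In the neighbourhood of a fixed point, an orbit and its partner are disjoint. -/
theorem orbit_partner (hσ : Pres σ) (h5 : 5 ≤ s) (he : σ ^ s ^ e = 1) {i x : I} (hi : σ i = i)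
    (hx : adj i x = true) (hmove : σ x ≠ x) (n : ℕ) : σ^[n] x ≠ th i x := by
  intro hn
  obtain ⟨h5', hdvd⟩ := (period_cases he x).resolve_left hmove
  have hfix : ∀ n, σ^[n] i = i := fun n => iterate_fixed hi n
  obtain ⟨-, h2, h3, h4, -⟩ := adj_th i x hx
  have h2n : σ^[2 * n] x = x := by
    rw [two_mul, iterate_add_apply, hn, (hσ.iterate_th hx n).2, hfix, hn, h3]
  have hd : minimalPeriod σ x ∣ 2 * n := IsPeriodicPt.minimalPeriod_dvd h2n
  have hd' : minimalPeriod σ x ∣ n := by
    refine Nat.Coprime.dvd_of_dvd_mul_left (Nat.Coprime.coprime_dvd_left hdvd ?_) hd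
    refine Nat.Coprime.pow_left _ ((Nat.coprime_primes hs.out Nat.prime_two).2 ?_)
    omega
  rw [(isPeriodicPt_iff_minimalPeriod_dvd.2 hd')] at hn
  exact h4 hn.symm

theorem card_two_orbits (hσ : Pres σ) (h5 : 5 ≤ s) (he : σ ^ s ^ e = 1) {i x : I} (hi : σ i = i)
    (hx : adj i x = true) (hmove : σ x ≠ x) :
    ∃ O : Finset I, (∀ y ∈ O, ∃ n, y = σ^[n] x ∨ y = σ^[n] (th i x)) ∧ 10 ≤ O.card := by
  classical
  obtain ⟨h5', -⟩ := (period_cases he x).resolve_left hmove
  obtain ⟨-, h2, h3, h4, -⟩ := adj_th i x hx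
  have hinj : ∀ a < minimalPeriod σ x, ∀ b < minimalPeriod σ x, σ^[a] x = σ^[b] x → a = b :=
    fun a ha b hb h => iterate_injOn_Iio_minimalPeriod ha hb h
  have hinj' : ∀ a < minimalPeriod σ x, ∀ b < minimalPeriod σ x,
      σ^[a] (th i x) = σ^[b] (th i x) → a = b := fun a ha b hb h => by
    refine hinj a ha b hb ?_
    have e1 := (hσ.iterate_th h2 a).2
    have e2 := (hσ.iterate_th h2 b).2
    rw [h3, iterate_fixed hi] at e1 e2
    rw [e1, e2, h]
  refine ⟨(Finset.range 5).image (fun n => σ^[n] x) ∪ (Finset.range 5).image (fun n => σ^[n] (th i x)), ?_, ?_⟩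
  · intro y hy
    simp only [Finset.mem_union, Finset.mem_image] at hy
    rcases hy with ⟨n, -, rfl⟩ | ⟨n, -, rfl⟩
    · exact ⟨n, Or.inl rfl⟩
    · exact ⟨n, Or.inr rfl⟩
  · rw [Finset.card_union_of_disjoint, Finset.card_image_of_injOn, Finset.card_image_of_injOn, Finset.card_range]
    · intro a ha b hb h
      simp only [Finset.coe_range, Set.mem_Iio] at ha hb
      exact hinj' a (by omega) b (by omega) h
    · intro a ha b hb h
      simp only [Finset.coe_range, Set.mem_Iio] at ha hb
      exact hinj a (by omega) b (by omega) h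
    rw [Finset.disjoint_left]
    intro y hy hy'
    simp only [Finset.mem_image, Finset.mem_range] at hy hy'
    obtain ⟨a, -, rfl⟩ := hy
    obtain ⟨b, -, hb⟩ := hy'
    -- push `b` forwards to a full period
    obtain ⟨m, hm⟩ : ∃ m, σ^[m + b] (th i x) = th i x := by
      refine ⟨s ^ e * b + s ^ e - b, ?_⟩
      have hle : b ≤ s ^ e * b + s ^ e := le_add_of_le_left (Nat.le_mul_of_pos_left b (pow_pos hs.out.pos e))
      rw [Nat.sub_add_cancel hle, ← Nat.mul_succ, ← Equiv.Perm.coe_pow, pow_mul, he, one_pow, Equiv.Perm.one_apply]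
    refine orbit_partner hσ h5 he hi hx hmove (m + a) ?_
    rw [iterate_add_apply, ← hb, ← iterate_add_apply, hm]

/-- An invariant set of neighbours of a fixed point closed under partners with fewer than ten elements is fixed. -/
theorem fix_nbrs (hσ : Pres σ) (h5 : 5 ≤ s) (he : σ ^ s ^ e = 1) {i : I} (hi : σ i = i) {A : Finset I}
    (hadj : ∀ x ∈ A, adj i x = true) (hA : ∀ x ∈ A, σ x ∈ A) (hth : ∀ x ∈ A, th i x ∈ A) (hc : A.card < 10) :
    ∀ x ∈ A, σ x = x := by
  intro x hx
  by_contra hmove
  obtain ⟨O, hO, hcard⟩ := card_two_orbits hσ h5 he hi (hadj x hx) hmove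
  have hmem : ∀ n, ∀ y ∈ A, σ^[n] y ∈ A := fun n => by
    induction n with
    | zero => exact fun y hy => hy
    | succ n ih => exact fun y hy => by rw [iterate_succ_apply']; exact hA _ (ih y hy)
  have := Finset.card_le_card (s := O) (t := A) fun y hy => by
    obtain ⟨n, rfl | rfl⟩ := hO y hy
    · exact hmem n x hx
    · exact hmem n _ (hth x hx)
  omega

theorem fix_all_nbrs (hσ : Pres σ) (h5 : 5 ≤ s) (he : σ ^ s ^ e = 1) {i a : I} (hi : σ i = i) (ha : σ a = a)
    (hia : adj i a = true) : ∀ x, adj i x = true → σ x = x := by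
  classical
  obtain ⟨-, h2, h3, h4, -⟩ := adj_th i a hia
  have hb : σ (th i a) = th i a := by rw [← (hσ i a).2 hia, hi, ha]
  intro x hx
  by_cases hxa : x = a
  · rw [hxa]; exact ha
  by_cases hxb : x = th i a
  · rw [hxb]; exact hb
  refine fix_nbrs hσ h5 he hi (A := ((Finset.univ.filter fun y => adj i y = true).erase a).erase (th i a))
    ?_ ?_ ?_ ?_ x ?_
  · simp
  · intro y hy
    simp only [Finset.mem_erase, Finset.mem_filter, Finset.mem_univ, true_and] at hy ⊢
    exact ⟨fun h => hy.1 (σ.injective (h.trans hb.symm)), fun h => hy.2.1 (σ.injective (h.trans ha.symm)),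
      by rw [← hi, (hσ i y).1]; exact hy.2.2⟩
  · intro y hy
    simp only [Finset.mem_erase, Finset.mem_filter, Finset.mem_univ, true_and] at hy ⊢
    obtain ⟨-, k2, k3, -⟩ := adj_th i y hy.2.2
    exact ⟨fun h => hy.2.1 (by rw [← k3, h, h3]), fun h => hy.1 (by rw [← k3, h]), k2⟩
  · rw [Finset.card_erase_of_mem, Finset.card_erase_of_mem, nbr_card]
    · norm_num
    · simp [hia]
    · simp [h2, h4]
  · simp [hx, hxa, hxb]

theorem eq_one_of_adj (hσ : Pres σ) (h5 : 5 ≤ s) (he : σ ^ s ^ e = 1) {i a : I} (hi : σ i = i) (ha : σ a = a)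
    (hia : adj i a = true) : σ = 1 := by
  have hN := fix_all_nbrs hσ h5 he hi ha hia
  ext x : 1
  rw [Equiv.Perm.one_apply]
  by_cases hxi : x = i
  · rw [hxi]; exact hi
  rcases adj_path i x (Ne.symm hxi) with h | ⟨k, hik, hkx⟩
  · exact hN x h
  · exact fix_all_nbrs hσ h5 he (hN k hik) hi (by rw [adj_symm]; exact hik) x hkx

theorem exists_lt_three {P : I → Prop} {A : Finset I} (hA : ∀ x ∈ A, P x) (h : 3 ≤ A.card) :
    ∃ a b c, a < b ∧ b < c ∧ P a ∧ P b ∧ P c := by
  let f := A.orderEmbOfCardLe h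
  exact ⟨f 0, f 1, f 2, f.strictMono (by decide), f.strictMono (by decide), hA _ (A.orderEmbOfCardLe_mem h _),
    hA _ (A.orderEmbOfCardLe_mem h _), hA _ (A.orderEmbOfCardLe_mem h _)⟩

/-- Three fixed points make it trivial. -/
theorem Pres.eq_one (hσ : Pres σ) (h5 : 5 ≤ s) (he : σ ^ s ^ e = 1)
    (h3 : 3 ≤ (Finset.univ.filter fun x => σ x = x).card) : σ = 1 := by
  classical
  obtain ⟨a, b, c, hab, hbc, ha, hb, hc⟩ :=
    exists_lt_three (P := fun x => σ x = x) (fun x hx => (Finset.mem_filter.1 hx).2) h3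
  by_cases h1 : adj a b = true
  · exact eq_one_of_adj hσ h5 he ha hb h1
  by_cases h2 : adj a c = true
  · exact eq_one_of_adj hσ h5 he ha hc h2
  by_cases h4 : adj b c = true
  · exact eq_one_of_adj hσ h5 he hb hc h4
  simp only [Bool.not_eq_true] at h1 h2 h4
  have hcard := adj_centres a b hab h1 c hbc h2 h4
  set A := Finset.univ.filter fun x => adj a x && adj b x && adj c x with hAdef
  obtain ⟨x, hx⟩ : A.Nonempty := Finset.card_pos.1 (by rw [hcard]; norm_num)
  have hfix : σ x = x := by
    refine fix_of_small he (A := A) (fun y hy => ?_) (by rw [hcard]; omega) x hx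
    simp only [hAdef, Finset.mem_filter, Finset.mem_univ, true_and, Bool.and_eq_true] at hy ⊢
    rw [← ha, ← hb, ← hc, (hσ a y).1, (hσ b y).1, (hσ c y).1]
    exact hy
  simp only [hAdef, Finset.mem_filter, Finset.mem_univ, true_and, Bool.and_eq_true] at hx
  exact eq_one_of_adj hσ h5 he ha hfix hx.1.1

theorem fixed_modEq (he : σ ^ s ^ e = 1) : (Finset.univ.filter fun x => σ x = x).card ≡ 27 [MOD s] := by
  classical
  have h := Equiv.Perm.card_compl_support_modEq (n := e) (p := s) he
  have e1 : (Finset.univ.filter fun x => σ x = x) = σ.supportᶜ := by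
    ext x
    simp [Equiv.Perm.mem_support]
  rw [e1]
  simpa using h

omit hs in
theorem Pres.eq_one_of_large [Fact s.Prime] (hσ : Pres σ) (hs' : s = 7 ∨ s = 11) (he : σ ^ s ^ e = 1) :
    σ = 1 := by
  refine hσ.eq_one (by omega) he ?_
  have h := fixed_modEq he
  rcases hs' with rfl | rfl <;> simp only [Nat.ModEq] at h <;> omega

variable {f : ℕ}

theorem Pres.fixed_two (hσ : Pres σ) (he : σ ^ 5 ^ f = 1) (hne : σ ≠ 1) :
    (Finset.univ.filter fun x => σ x = x).card = 2 := by
  haveI : Fact (Nat.Prime 5) := ⟨by norm_num⟩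
  have h := fixed_modEq he
  have : ¬ 3 ≤ (Finset.univ.filter fun x => σ x = x).card := fun h3 => hne (hσ.eq_one le_rfl he h3)
  simp only [Nat.ModEq] at h
  omega

theorem Pres.fixed_pair (hσ : Pres σ) (he : σ ^ 5 ^ f = 1) (hne : σ ≠ 1) :
    ∃ i j, i ≠ j ∧ σ i = i ∧ σ j = j ∧ adj i j = false ∧ ∀ x, σ x = x → x = i ∨ x = j := by
  haveI : Fact (Nat.Prime 5) := ⟨by norm_num⟩
  obtain ⟨i, j, hij, hs2⟩ := Finset.card_eq_two.1 (hσ.fixed_two he hne)
  have h : ∀ x, σ x = x ↔ x = i ∨ x = j := fun x => by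
    have := Finset.ext_iff.1 hs2 x
    simpa using this
  have hi := (h i).2 (Or.inl rfl)
  have hj := (h j).2 (Or.inr rfl)
  refine ⟨i, j, hij, hi, hj, ?_, fun x hx => (h x).1 hx⟩
  by_contra hadj
  simp only [Bool.not_eq_false] at hadj
  exact hne (eq_one_of_adj hσ le_rfl he hi hj hadj)

/-- Around a fixed point, one neighbour determines an invariant labelling. -/
theorem Pres.nbr_orbits (hσ : Pres σ) (he : σ ^ 5 ^ f = 1) (hne : σ ≠ 1) {i : I} (hi : σ i = i) {a : I}
    (ha : adj i a = true) : ∀ x, adj i x = true → ∃ n, x = σ^[n] a ∨ x = σ^[n] (th i a) := by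
  classical
  haveI : Fact (Nat.Prime 5) := ⟨by norm_num⟩
  have hmove : σ a ≠ a := fun h => hne (eq_one_of_adj hσ le_rfl he hi h ha)
  obtain ⟨O, hO, hcard⟩ := card_two_orbits hσ le_rfl he hi ha hmove
  have hsub : O ⊆ Finset.univ.filter fun x => adj i x = true := fun y hy => by
    simp only [Finset.mem_filter, Finset.mem_univ, true_and]
    obtain ⟨n, rfl | rfl⟩ := hO y hy
    · have := (hσ.iterate_th ha n).1
      rwa [iterate_fixed hi] at this
    · have := (hσ.iterate_th (adj_th i a ha).2.1 n).1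
      rwa [iterate_fixed hi] at this
  have heq := Finset.eq_of_subset_of_card_le hsub (by rw [nbr_card]; exact hcard)
  intro x hx
  exact hO x (by rw [heq]; simp [hx])

/-- A labelling summing to zero on monomials, invariant under a nontrivial `σ`, is given by four values. -/
theorem Pres.det_by_four (hσ : Pres σ) (he : σ ^ 5 ^ f = 1) (hne : σ ≠ 1) :
    ∃ i a j b : I, ∀ {M : Type} [CommGroup M] (c c' : I → M),
      (∀ x, c (σ x) = c x) → (∀ x, c' (σ x) = c' x) →
      (∀ x y, adj x y = true → c x * c y * c (th x y) = 1) →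
      (∀ x y, adj x y = true → c' x * c' y * c' (th x y) = 1) →
      c i = c' i → c a = c' a → c j = c' j → c b = c' b → c = c' := by
  obtain ⟨i, j, hij, hi, hj, hadj, -⟩ := hσ.fixed_pair he hne
  obtain ⟨a, ha⟩ : ∃ a, adj i a = true := by
    by_contra h
    push Not at h
    have := nbr_card i
    simp [h] at this
  obtain ⟨b, hb⟩ : ∃ b, adj j b = true := by
    by_contra h
    push Not at h
    have := nbr_card j
    simp [h] at this
  refine ⟨i, a, j, b, fun {M} _ c c' hc hc' hm hm' e1 e2 e3 e4 => ?_⟩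
  have step : ∀ i a, σ i = i → adj i a = true → c i = c' i → c a = c' a → ∀ x, adj i x = true → c x = c' x := by
    intro i a hi ha e1 e2 x hx
    have e5 : c (th i a) = c' (th i a) := by
      have h1 := hm i a ha
      have h2 := hm' i a ha
      rw [e1, e2] at h1
      exact mul_left_cancel (h1.trans h2.symm)
    obtain ⟨n, rfl | rfl⟩ := hσ.nbr_orbits he hne hi ha x hx
    all_goals
      have inv : ∀ (d : I → M), (∀ x, d (σ x) = d x) → ∀ n y, d (σ^[n] y) = d y := fun d hd n y => by
        induction n with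
        | zero => rfl
        | succ n ih => rw [iterate_succ_apply', hd, ih]
      rw [inv c hc, inv c' hc']
      assumption
  have hnear : ∀ x, near i j x = true → c x = c' x := fun x hx => by
    simp only [near, Bool.or_eq_true, beq_iff_eq] at hx
    rcases hx with ((rfl | rfl) | h) | h
    · exact e1
    · exact e3
    · exact step i a hi ha e1 e2 x h
    · exact step j b hj hb e3 e4 x h
  funext k
  rcases near_spans i j hij hadj k with h | ⟨x, hkx, h1, h2⟩
  · exact hnear k h
  · have k1 := hm k x hkx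
    have k2 := hm' k x hkx
    rw [hnear x h1, hnear _ h2] at k1
    exact mul_right_cancel (mul_right_cancel (k1.trans k2.symm))

/-- An invariant labelling takes at most seven values. -/
theorem Pres.card_values (hσ : Pres σ) (he : σ ^ 5 ^ f = 1) (hne : σ ≠ 1) {M : Type*} [DecidableEq M]
    (c : I → M) (hc : ∀ x, c (σ x) = c x) : (Finset.univ.image c).card ≤ 7 := by
  classical
  haveI : Fact (Nat.Prime 5) := ⟨by norm_num⟩
  set F := Finset.univ.filter fun x => σ x = x with hF
  have h2 : F.card = 2 := hσ.fixed_two he hne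
  have h5 : ∀ v ∈ Fᶜ.image c, 5 ≤ (Fᶜ.filter fun x => c x = v).card := by
    intro v hv
    obtain ⟨x, hx, rfl⟩ := Finset.mem_image.1 hv
    simp only [hF, Finset.mem_compl, Finset.mem_filter, Finset.mem_univ, true_and] at hx
    obtain ⟨h5, -⟩ := (period_cases he x).resolve_left hx
    refine le_trans h5 ?_
    refine le_trans (by rw [Finset.card_range]) (Finset.card_le_card_of_injOn (fun n => σ^[n] x)
      (s := Finset.range (minimalPeriod σ x)) ?_ ?_)
    · intro n hn
      clear hn
      simp only [hF, Finset.mem_coe, Finset.mem_compl, Finset.mem_filter, Finset.mem_univ, true_and]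
      refine ⟨fun h => hx ((σ.injective.iterate n) ?_), ?_⟩
      · rwa [← iterate_succ_apply, iterate_succ_apply']
      · clear h5
        induction n with
        | zero => rfl
        | succ n ih => rw [iterate_succ_apply', hc, ih]
    · intro a ha b hb h
      exact iterate_injOn_Iio_minimalPeriod (by simpa using ha) (by simpa using hb) h
  have h25 : (Fᶜ.image c).card * 5 ≤ 25 := by
    have hsum := Finset.card_eq_sum_card_image c Fᶜ
    have hcompl : Fᶜ.card = 25 := by rw [Finset.card_compl, h2]; rfl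
    calc _ = ∑ _v ∈ Fᶜ.image c, 5 := by simp
      _ ≤ ∑ v ∈ Fᶜ.image c, (Fᶜ.filter fun x => c x = v).card := Finset.sum_le_sum h5
      _ = 25 := by rw [← hsum, hcompl]
  calc (Finset.univ.image c).card = (F.image c ∪ Fᶜ.image c).card := by
        rw [← Finset.image_union, Finset.union_compl]
    _ ≤ (F.image c).card + (Fᶜ.image c).card := Finset.card_union_le _ _
    _ ≤ 7 := by
      have := Finset.card_image_le (s := F) (f := c)
      omega

end Cfsg.Agent.AltE6
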