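/-
Diagonal and monomial elements of the group of the cubic form.

* `Ds`            : the diagonal elements of order a power of a prime;
* `exists_conj_Ds` : when `Ds` is a Sylow subgroup of an overgroup;
* `exists_label`  : the labelling of a diagonal element of prime order.
-/
import Cfsg.Agent.Lib.AltE6.Perm
import Cfsg.Agent.Lib.AltE6.Labels

set_option autoImplicit false

namespace Cfsg.Agent.AltE6

open Cfsg.Agent.E6Cubic Matrix

variable {K : Type} [Field K]

/-- A diagonal element. -/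
def IsDg (g : GL I K) : Prop := ∀ i j, i ≠ j → (g : Matrix I I K) i j = 0

/-- A diagonal entry. -/
def dg (g : GL I K) (i : I) : K := (g : Matrix I I K) i i

theorem IsDg.eq_diag {g : GL I K} (h : IsDg g) : (g : Matrix I I K) = Matrix.diagonal (dg g) := by
  ext i j
  by_cases e : i = j
  · subst e; simp [dg]
  · rw [h i j e, Matrix.diagonal_apply_ne _ e]

theorem IsDg.mulVec {g : GL I K} (h : IsDg g) (v : I → K) (i : I) :
    ((g : Matrix I I K) *ᵥ v) i = dg g i * v i := by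
  rw [h.eq_diag, Matrix.mulVec_diagonal]

theorem isDg_one : IsDg (1 : GL I K) := fun i j h => by rw [Units.val_one, Matrix.one_apply_ne h]

theorem dg_one (i : I) : dg (1 : GL I K) i = 1 := by rw [dg, Units.val_one, Matrix.one_apply_eq]

theorem IsDg.mul {g h : GL I K} (hg : IsDg g) (hh : IsDg h) :
    IsDg (g * h) ∧ ∀ i, dg (g * h) i = dg g i * dg h i := by
  have e : ((g * h : GL I K) : Matrix I I K) = Matrix.diagonal fun i => dg g i * dg h i := by
    rw [Units.val_mul, hg.eq_diag, hh.eq_diag, Matrix.diagonal_mul_diagonal]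
  exact ⟨fun i j hij => by rw [e, Matrix.diagonal_apply_ne _ hij],
    fun i => by rw [dg, e, Matrix.diagonal_apply_eq]⟩

theorem IsDg.dg_ne {g : GL I K} (h : IsDg g) (i : I) : dg g i ≠ 0 := by
  have hd : IsUnit (g : Matrix I I K).det := (Matrix.isUnit_iff_isUnit_det _).1 g.isUnit
  rw [h.eq_diag, Matrix.det_diagonal, IsUnit.prod_univ_iff] at hd
  exact (hd i).ne_zero

theorem IsDg.ext {g h : GL I K} (hg : IsDg g) (hh : IsDg h) (e : ∀ i, dg g i = dg h i) : g = h :=
  Units.ext (by rw [hg.eq_diag, hh.eq_diag, funext e])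

theorem IsDg.inv {g : GL I K} (hg : IsDg g) : IsDg g⁻¹ := by
  intro i j hij
  have e : ((g⁻¹ : GL I K) : Matrix I I K) = Matrix.diagonal fun i => (dg g i)⁻¹ := by
    refine (left_inv_eq_right_inv (a := (g : Matrix I I K)) (Units.inv_mul g) ?_)
    rw [hg.eq_diag, Matrix.diagonal_mul_diagonal, ← Matrix.diagonal_one]
    exact congrArg _ (funext fun i => mul_inv_cancel₀ (hg.dg_ne i))
  rw [e, Matrix.diagonal_apply_ne _ hij]

theorem IsDg.comm {g h : GL I K} (hg : IsDg g) (hh : IsDg h) : g * h = h * g :=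
  (hg.mul hh).1.ext (hh.mul hg).1 fun i => by rw [(hg.mul hh).2, (hh.mul hg).2, mul_comm]

theorem IsDg.pow {g : GL I K} (hg : IsDg g) : ∀ n : ℕ, IsDg (g ^ n) ∧ ∀ i, dg (g ^ n) i = dg g i ^ n := by
  intro n
  induction n with
  | zero => exact ⟨by rw [pow_zero]; exact isDg_one, fun i => by rw [pow_zero, pow_zero, dg_one]⟩
  | succ n ih =>
    rw [pow_succ]
    exact ⟨(ih.1.mul hg).1, fun i => by rw [(ih.1.mul hg).2, ih.2, pow_succ]⟩

/-- The diagonal elements of the group of order a power of `s`. -/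
def Ds (K : Type) [Field K] (s : ℕ) : Subgroup (GL I K) where
  carrier := {g | g ∈ img K ∧ IsDg g ∧ ∃ k : ℕ, g ^ s ^ k = 1}
  one_mem' := ⟨one_mem _, isDg_one, 0, one_pow _⟩
  mul_mem' := by
    rintro a b ⟨ha, ha', k, hk⟩ ⟨hb, hb', l, hl⟩
    refine ⟨mul_mem ha hb, (ha'.mul hb').1, k + l, ?_⟩
    have hcomm : Commute a b := ha'.comm hb'
    rw [hcomm.mul_pow, pow_add, pow_mul, hk, one_pow, one_mul, mul_comm, pow_mul, hl, one_pow]
  inv_mem' := by
    rintro a ⟨ha, ha', k, hk⟩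
    exact ⟨inv_mem ha, ha'.inv, k, by rw [inv_pow, hk, inv_one]⟩

theorem mem_Ds {s : ℕ} {g : GL I K} : g ∈ Ds K s ↔ g ∈ img K ∧ IsDg g ∧ ∃ k : ℕ, g ^ s ^ k = 1 := Iff.rfl

theorem Ds_isPGroup (s : ℕ) : IsPGroup s (Ds K s) := fun g => by
  obtain ⟨-, -, k, hk⟩ := g.2
  exact ⟨k, Subtype.ext (by rw [SubmonoidClass.coe_pow, hk]; rfl)⟩

theorem lam_sum : ∀ m ∈ mons, ∀ t : Fin 6, lam m.2.1 t + lam m.2.2.1 t + lam m.2.2.2 t = 0 := by decide +kernel

theorem lam_sep : ∀ i j : I, i ≠ j → ∃ t : Fin 6, lam i t - lam j t ≠ 0 ∧ -2 ≤ lam i t - lam j t ∧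
    lam i t - lam j t ≤ 2 := by
  decide +kernel

/-- The diagonal element with parameters `n` at the root of unity `ζ`. -/
theorem exists_torus {s : ℕ} {ζ : Kˣ} (hζ : orderOf ζ = s) (n : Fin 6 → ℤ) :
    ∃ d ∈ Ds K s, d ^ s = 1 ∧ ∀ j, dg d j = ((ζ ^ (∑ t, lam j t * n t) : Kˣ) : K) := by
  obtain ⟨d, hd, e⟩ := diag_mem (F := K) (c := fun j => ζ ^ (∑ t, lam j t * n t)) fun m hm => by
    rw [← _root_.zpow_add, ← _root_.zpow_add, ← Finset.sum_add_distrib, ← Finset.sum_add_distrib]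
    simp [← add_mul, lam_sum m hm]
  have hdg : IsDg d := fun i j hij => by rw [e, Matrix.diagonal_apply_ne _ hij]
  have hval : ∀ j, dg d j = ((ζ ^ (∑ t, lam j t * n t) : Kˣ) : K) := fun j => by
    rw [dg, e, Matrix.diagonal_apply_eq]
  have hpow : d ^ s = 1 := (hdg.pow s).1.ext isDg_one fun i => by
    rw [(hdg.pow s).2, hval, dg_one, ← Units.val_pow_eq_pow_val, ← hζ, ← zpow_natCast, ← _root_.zpow_mul, mul_comm,
      _root_.zpow_mul, zpow_natCast, pow_orderOf_eq_one, _root_.one_zpow, Units.val_one]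
  exact ⟨d, ⟨hd, hdg, 1, by rw [pow_one, hpow]⟩, hpow, hval⟩

variable {s : ℕ} [hs : Fact s.Prime]

theorem exists_sep {ζ : Kˣ} (hζ : orderOf ζ = s) (h3 : 3 ≤ s) {i j : I} (hij : i ≠ j) :
    ∃ d ∈ Ds K s, dg d i ≠ dg d j := by
  obtain ⟨t, ht, ht1, ht2⟩ := lam_sep i j hij
  obtain ⟨d, hd, -, hval⟩ := exists_torus hζ (Pi.single t 1)
  refine ⟨d, hd, fun e => ?_⟩
  rw [hval, hval, Units.val_inj, zpow_eq_zpow_iff_modEq, hζ] at e
  simp only [Pi.single_apply, mul_ite, mul_one, mul_zero, Finset.sum_ite_eq', Finset.mem_univ, if_true] at e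
  have hdvd : (s : ℤ) ∣ lam i t - lam j t := e.symm.dvd
  have := Int.le_of_dvd (abs_pos.2 ht) ((dvd_abs _ _).2 hdvd)
  rcases abs_cases (lam i t - lam j t) with ⟨h, -⟩ | ⟨h, -⟩ <;> omega

omit hs

/-- A monomial element. -/
def Mono (g : GL I K) (σ : Equiv.Perm I) : Prop :=
  ∀ j, ∃ d : K, d ≠ 0 ∧ (g : Matrix I I K) *ᵥ ev K j = d • ev K (σ j)

theorem Mono.one : Mono (1 : GL I K) 1 := fun j => ⟨1, one_ne_zero, by
  rw [Units.val_one, Matrix.one_mulVec, one_smul]; rfl⟩

theorem Mono.mul {g h : GL I K} {σ τ : Equiv.Perm I} (hg : Mono g σ) (hh : Mono h τ) : Mono (g * h) (σ * τ) := by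
  intro j
  obtain ⟨a, ha, e1⟩ := hh j
  obtain ⟨b, hb, e2⟩ := hg (τ j)
  refine ⟨a * b, mul_ne_zero ha hb, ?_⟩
  rw [Units.val_mul, ← Matrix.mulVec_mulVec, e1, Matrix.mulVec_smul, e2, smul_smul, Equiv.Perm.mul_apply]

theorem Mono.pow {g : GL I K} {σ : Equiv.Perm I} (hg : Mono g σ) : ∀ n : ℕ, Mono (g ^ n) (σ ^ n) := by
  intro n
  induction n with
  | zero => rw [pow_zero, pow_zero]; exact Mono.one
  | succ n ih => rw [pow_succ, pow_succ]; exact ih.mul hg

theorem smul_ev_inj {a b : K} {i j : I} (ha : a ≠ 0) (h : a • ev K i = b • ev K j) : i = j ∧ a = b := by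
  have h1 := congrFun h i
  simp only [Pi.smul_apply, ev, Pi.single_eq_same, smul_eq_mul, mul_one] at h1
  by_cases e : i = j
  · subst e
    rw [Pi.single_eq_same, mul_one] at h1
    exact ⟨rfl, h1⟩
  · rw [Pi.single_eq_of_ne e, mul_zero] at h1
    exact absurd h1 ha

theorem Mono.unique {g : GL I K} {σ τ : Equiv.Perm I} (h1 : Mono g σ) (h2 : Mono g τ) : σ = τ := by
  ext j : 1
  obtain ⟨a, ha, e1⟩ := h1 j
  obtain ⟨b, hb, e2⟩ := h2 j
  exact (smul_ev_inj ha (e1.symm.trans e2)).1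

theorem mono_of_dg {g : GL I K} (h : IsDg g) : Mono g 1 := fun j => ⟨dg g j, h.dg_ne j, by
  funext i
  rw [h.mulVec, Pi.smul_apply, Equiv.Perm.one_apply, smul_eq_mul]
  by_cases e : i = j
  · subst e; rfl
  · simp [ev, e]⟩

theorem Mono.isDg {g : GL I K} (h : Mono g 1) : IsDg g := fun i j hij => by
  obtain ⟨d, -, e⟩ := h j
  have := congrFun e i
  rw [Matrix.mulVec_single_one, Matrix.col_apply] at this
  rw [this]
  simp [ev, hij]

theorem Mono.pow_eq_one {g : GL I K} {σ : Equiv.Perm I} (hg : Mono g σ) {n : ℕ} (h : g ^ n = 1) : σ ^ n = 1 :=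
  ((h ▸ hg.pow n : Mono (1 : GL I K) (σ ^ n))).unique Mono.one

/-- Conjugation by a monomial element on diagonal entries. -/
theorem Mono.conj_dg {m a b : GL I K} {σ : Equiv.Perm I} (hm : Mono m σ) (ha : IsDg a) (hb : IsDg b)
    (h : m * a = b * m) (j : I) : dg b (σ j) = dg a j := by
  obtain ⟨d, hd, e⟩ := hm j
  have e1 := congrArg (fun g : GL I K => (g : Matrix I I K) *ᵥ ev K j) h
  simp only [Units.val_mul, ← Matrix.mulVec_mulVec] at e1
  obtain ⟨d1, -, ea⟩ := mono_of_dg ha j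
  have hda : dg a j = d1 := by
    have := congrFun ea j
    rw [ha.mulVec] at this
    simpa [ev] using this
  rw [ea, Matrix.mulVec_smul, Equiv.Perm.one_apply, e, Matrix.mulVec_smul, smul_smul] at e1
  have := congrFun e1 (σ j)
  simp only [Pi.smul_apply, hb.mulVec, ev, Pi.single_eq_same, smul_eq_mul, mul_one] at this
  rw [hda]
  exact mul_left_cancel₀ hd (by linear_combination -this)

theorem pol_ev (a z b : I) : pol (ev K a) (ev K z) (ev K b) ≠ 0 ↔ adj a b = true ∧ z = th a b := by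
  have h := pick_adj a b
  rw [pol_basis]
  by_cases hab : adj a b = true
  · rw [if_pos hab] at h
    have hne : pick a b ≠ [] := fun e => by rw [e] at h; cases h
    obtain ⟨ε, k, e, -, hε⟩ := exists_pick (F := K) hne
    rw [e] at h ⊢
    simp only [List.map_cons, List.map_nil, List.cons.injEq, and_true] at h
    subst h
    simp [ev, Pi.single_apply, hab, hε, eq_comm]
  · rw [if_neg hab, List.map_eq_nil_iff] at h
    simp [h, hab]

variable (hF : ∃ a : K, a ≠ 0 ∧ a ≠ 1)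
include hF

theorem Mono.pol_eq {g : GL I K} {σ : Equiv.Perm I} (hg : g ∈ img K) (hm : Mono g σ) {d : I → K}
    (hd : ∀ j, (g : Matrix I I K) *ᵥ ev K j = d j • ev K (σ j)) (a z b : I) :
    d a * d z * d b * pol (ev K (σ a)) (ev K (σ z)) (ev K (σ b)) = pol (ev K a) (ev K z) (ev K b) := by
  have h := pol_inv hF (fun v => pres_img hg v) (ev K a) (ev K z) (ev K b)
  rw [hd, hd, hd, pol_smul, pol_smul₃, pol_comm, pol_smul₃, pol_comm] at h
  linear_combination h

theorem Mono.pres {g : GL I K} {σ : Equiv.Perm I} (hg : g ∈ img K) (hm : Mono g σ) : Pres σ := by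
  choose d hd he using hm
  have key : ∀ a z b, (adj (σ a) (σ b) = true ∧ σ z = th (σ a) (σ b)) ↔ (adj a b = true ∧ z = th a b) := by
    intro a z b
    rw [← pol_ev (K := K), ← pol_ev (K := K), ← Mono.pol_eq hF hg (fun j => ⟨_, hd j, he j⟩) he a z b]
    simp [hd]
  intro a b
  have h2 : adj a b = true → adj (σ a) (σ b) = true ∧ th (σ a) (σ b) = σ (th a b) := fun hab => by
    obtain ⟨k1, k2⟩ := (key a (th a b) b).2 ⟨hab, rfl⟩
    exact ⟨k1, k2.symm⟩
  refine ⟨?_, fun hab => (h2 hab).2⟩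
  rw [Bool.eq_iff_iff]
  refine ⟨fun h => ?_, fun h => (h2 h).1⟩
  obtain ⟨z, hz⟩ := σ.surjective (th (σ a) (σ b))
  exact ((key a z b).1 ⟨h, hz⟩).1

/-- A diagonal element of the group has product one on monomials. -/
theorem dg_mul {g : GL I K} (hg : g ∈ img K) (hd : IsDg g) {x y : I} (h : adj x y = true) :
    dg g x * dg g y * dg g (th x y) = 1 := by
  have hm := mono_of_dg hd
  have he : ∀ j, (g : Matrix I I K) *ᵥ ev K j = dg g j • ev K ((1 : Equiv.Perm I) j) := fun j => by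
    funext i
    rw [hd.mulVec, Pi.smul_apply, Equiv.Perm.one_apply, smul_eq_mul]
    by_cases e : i = j
    · subst e; rfl
    · simp [ev, e]
  have e := Mono.pol_eq hF hg hm he x (th x y) y
  simp only [Equiv.Perm.one_apply] at e
  have hne : pol (ev K x) (ev K (th x y)) (ev K y) ≠ 0 := (pol_ev _ _ _).2 ⟨h, rfl⟩
  exact mul_right_cancel₀ hne (by linear_combination e)

omit hF
variable (hs5 : 5 ≤ s)
include hs hs5

/-- An element normalising `Ds` is monomial. -/
theorem mono_of_normal {ζ : Kˣ} (hζ : orderOf ζ = s) {g : GL I K}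
    (hg : ∀ d ∈ Ds K s, g⁻¹ * d * g ∈ Ds K s) : ∃ σ, Mono g σ := by
  classical
  have hsep : ∀ j i k, ((g : Matrix I I K) *ᵥ ev K j) i ≠ 0 → ((g : Matrix I I K) *ᵥ ev K j) k ≠ 0 → i = k := by
    intro j i k hi hk
    by_contra hne
    obtain ⟨d, hd, hdik⟩ := exists_sep hζ (by omega) hne
    obtain ⟨-, hd2, -⟩ := hg d hd
    obtain ⟨-, hd', -⟩ := hd
    obtain ⟨l, -, el⟩ := mono_of_dg hd2 j
    have e : (d : Matrix I I K) *ᵥ ((g : Matrix I I K) *ᵥ ev K j) = l • ((g : Matrix I I K) *ᵥ ev K j) := by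
      rw [← Matrix.mulVec_smul, ← (show _ = l • ev K j from el), Matrix.mulVec_mulVec, Matrix.mulVec_mulVec,
        ← Units.val_mul, ← Units.val_mul]
      congr 2
      group
    have key : ∀ i, ((g : Matrix I I K) *ᵥ ev K j) i ≠ 0 → dg d i = l := fun i hi => by
      have := congrFun e i
      rw [hd'.mulVec, Pi.smul_apply, smul_eq_mul] at this
      exact mul_right_cancel₀ hi this
    exact hdik ((key i hi).trans (key k hk).symm)
  have hinj := Matrix.mulVec_injective_iff_isUnit.2 g.isUnit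
  have hex : ∀ j, ∃ i, ((g : Matrix I I K) *ᵥ ev K j) i ≠ 0 := fun j => by
    by_contra h
    push Not at h
    have h1 : ev K j = 0 := hinj (by rw [Matrix.mulVec_zero]; exact funext h)
    simpa [ev] using congrFun h1 j
  choose f hf using hex
  have heq : ∀ j, (g : Matrix I I K) *ᵥ ev K j = ((g : Matrix I I K) *ᵥ ev K j) (f j) • ev K (f j) := fun j => by
    funext i
    by_cases e : i = f j
    · subst e; simp [ev]
    · have : ((g : Matrix I I K) *ᵥ ev K j) i = 0 := by_contra fun h => e (hsep j i _ h (hf j))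
      simp [ev, e, this]
  have hfi : Function.Injective f := fun a b hab => by
    set x := ((g : Matrix I I K) *ᵥ ev K a) (f a) with hx
    set y := ((g : Matrix I I K) *ᵥ ev K b) (f b) with hy
    have e : (g : Matrix I I K) *ᵥ (y • ev K a) = (g : Matrix I I K) *ᵥ (x • ev K b) := by
      rw [Matrix.mulVec_smul, Matrix.mulVec_smul, heq a, heq b, ← hx, ← hy, hab, smul_smul, smul_smul, mul_comm]
    exact (smul_ev_inj (hf b) (hinj e)).1
  exact ⟨Equiv.ofBijective f (Finite.injective_iff_bijective.1 hfi), fun j => ⟨_, hf j, heq j⟩⟩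

variable [Finite K]

include hF

/-- `Ds` is a Sylow subgroup of an overgroup in which no monomial `s`-element moves the coordinates. -/
theorem eq_Ds {ζ : Kˣ} (hζ : orderOf ζ = s) {P : Subgroup (GL I K)} (hP : IsPGroup s P) (hle : Ds K s ≤ P)
    (himg : P ≤ img K)
    (hσ : ∀ g ∈ P, ∀ σ : Equiv.Perm I, Mono g σ → Pres σ → (∃ e, σ ^ s ^ e = 1) → σ = 1) : P = Ds K s := by
  by_contra hne
  haveI : Group.IsNilpotent P := hP.isNilpotent
  have hlt : (Ds K s).subgroupOf P < ⊤ := lt_top_iff_ne_top.2 fun h =>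
    hne (le_antisymm (Subgroup.subgroupOf_eq_top.1 h) hle)
  obtain ⟨g, hgN, hgD⟩ := SetLike.exists_of_lt (Group.normalizerCondition_of_isNilpotent _ hlt)
  rw [Subgroup.mem_normalizer_iff''] at hgN
  obtain ⟨σ, hm⟩ := mono_of_normal hs5 hζ (g := (g : GL I K)) fun d hd => by
    have := (hgN ⟨d, hle hd⟩).1 (Subgroup.mem_subgroupOf.2 hd)
    simpa [Subgroup.mem_subgroupOf] using this
  obtain ⟨e, he⟩ := hP g
  have he' : (g : GL I K) ^ s ^ e = 1 := by
    have := congrArg Subtype.val he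
    simpa using this
  have h1 := hσ g g.2 σ hm (hm.pres hF (himg g.2)) ⟨e, hm.pow_eq_one he'⟩
  subst h1
  exact hgD (Subgroup.mem_subgroupOf.2 ⟨himg g.2, hm.isDg, e, he'⟩)

/-- Conjugacy into `Ds`. -/
theorem exists_conj_Ds {ζ : Kˣ} (hζ : orderOf ζ = s) {C : Subgroup (GL I K)} (hC : C ≤ img K)
    (hDC : Ds K s ≤ C)
    (hσ : ∀ g ∈ C, ∀ σ : Equiv.Perm I, Mono g σ → Pres σ → (∃ e, σ ^ s ^ e = 1) → σ = 1)
    {P : Subgroup (GL I K)} (hP : IsPGroup s P) (hPC : P ≤ C) :
    ∃ x ∈ C, ∀ g ∈ P, x * g * x⁻¹ ∈ Ds K s := by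
  obtain ⟨Q, hQ⟩ := (show IsPGroup s ((Ds K s).subgroupOf C) from
    (Ds_isPGroup s).of_equiv (Subgroup.subgroupOfEquivOfLe hDC).symm).exists_le_sylow
  obtain ⟨Q', hQ'⟩ := (show IsPGroup s (P.subgroupOf C) from
    hP.of_equiv (Subgroup.subgroupOfEquivOfLe hPC).symm).exists_le_sylow
  have hle : Ds K s ≤ (Q : Subgroup C).map C.subtype := fun d hd =>
    ⟨⟨d, hDC hd⟩, hQ (Subgroup.mem_subgroupOf.2 hd), rfl⟩
  have hQC : (Q : Subgroup C).map C.subtype ≤ C := Subgroup.map_subtype_le _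
  have heq := eq_Ds hF hs5 hζ (Q.isPGroup'.map _) hle (hQC.trans hC) fun g hg => hσ g (hQC hg)
  obtain ⟨x, hx⟩ := MulAction.exists_smul_eq C Q' Q
  refine ⟨x, x.2, fun g hg => ?_⟩
  rw [← heq, ← hx, Sylow.coe_subgroup_smul]
  exact ⟨x * ⟨g, hPC hg⟩ * x⁻¹, ⟨⟨g, hPC hg⟩, hQ' (Subgroup.mem_subgroupOf.2 hg), rfl⟩, rfl⟩

omit [Finite K] hF hs5

/-- The labelling of a diagonal element of order dividing `s`. -/
theorem exists_label {ζ : Kˣ} (hζ : orderOf ζ = s) {u : GL I K} (hu : IsDg u) (hus : u ^ s = 1) :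
    ∃ c : I → ZMod s, ∀ j, dg u j = (ζ : K) ^ (c j).val := by
  haveI : NeZero s := ⟨hs.out.ne_zero⟩
  have hprim : IsPrimitiveRoot (ζ : K) s :=
    IsPrimitiveRoot.coe_units_iff.2 (hζ ▸ IsPrimitiveRoot.orderOf ζ)
  have h : ∀ j, ∃ i < s, (ζ : K) ^ i = dg u j := fun j => by
    refine hprim.eq_pow_of_pow_eq_one ?_
    rw [← (hu.pow s).2, hus, dg_one]
  choose i hi he using h
  exact ⟨fun j => (i j : ZMod s), fun j => by rw [ZMod.val_natCast_of_lt (hi j), he]⟩

omit hs in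
theorem root_pow_inj [Fact s.Prime] {ζ : Kˣ} (hζ : orderOf ζ = s) {a b : ZMod s}
    (h : (ζ : K) ^ a.val = (ζ : K) ^ b.val) : a = b := by
  haveI : NeZero s := ⟨(Fact.out : s.Prime).ne_zero⟩
  have hprim : IsPrimitiveRoot (ζ : K) s :=
    IsPrimitiveRoot.coe_units_iff.2 (hζ ▸ IsPrimitiveRoot.orderOf ζ)
  exact ZMod.val_injective _ (hprim.pow_inj (ZMod.val_lt _) (ZMod.val_lt _) h)

omit hs in
theorem root_pow_add [Fact s.Prime] {ζ : Kˣ} (hζ : orderOf ζ = s) (a b : ZMod s) :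
    (ζ : K) ^ (a + b).val = (ζ : K) ^ a.val * (ζ : K) ^ b.val := by
  haveI : NeZero s := ⟨(Fact.out : s.Prime).ne_zero⟩
  rw [← pow_add, ZMod.val_add, ← Units.val_pow_eq_pow_val, ← Units.val_pow_eq_pow_val,
    show (a.val + b.val) % s = (a.val + b.val) % orderOf ζ by rw [hζ], pow_mod_orderOf]

include hF in
theorem label_monSum {ζ : Kˣ} (hζ : orderOf ζ = s) {u : GL I K} (hu : u ∈ img K) (hd : IsDg u)
    {c : I → ZMod s} (hc : ∀ j, dg u j = (ζ : K) ^ (c j).val) : MonSum c := fun x y h => by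
  refine root_pow_inj hζ ?_
  rw [root_pow_add hζ, root_pow_add hζ, ← hc, ← hc, ← hc, dg_mul hF hu hd h, ZMod.val_zero, pow_zero]

theorem label_dblInv {ζ : Kˣ} (hζ : orderOf ζ = s) (h2 : (2 : ZMod s) ≠ 0) {u g : GL I K} (hd : IsDg u)
    (hg : g * u * g⁻¹ = u ^ 2) {c : I → ZMod s} (hc : ∀ j, dg u j = (ζ : K) ^ (c j).val) : DblInv c := by
  classical
  have hu2 := hd.pow 2
  have he : Multiset.map (dg u) (Finset.univ : Finset I).val = Multiset.map (dg (u ^ 2)) Finset.univ.val := by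
    have h1 := congrArg (fun z : GL I K => (z : Matrix I I K).charpoly) hg
    simp only [Units.val_mul] at h1
    rw [Matrix.coe_units_inv, Matrix.charpoly_units_conj g] at h1
    rw [hd.eq_diag, hu2.1.eq_diag, Matrix.charpoly_diagonal, Matrix.charpoly_diagonal] at h1
    have h3 := congrArg Polynomial.roots h1
    rwa [Finset.prod_eq_multiset_prod, Finset.prod_eq_multiset_prod,
      ← Function.comp_def (fun a => Polynomial.X - Polynomial.C a) (dg u), ← Multiset.map_map,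
      Polynomial.roots_multiset_prod_X_sub_C,
      ← Function.comp_def (fun a => Polynomial.X - Polynomial.C a) (dg (u ^ 2)), ← Multiset.map_map,
      Polynomial.roots_multiset_prod_X_sub_C] at h3
  intro v
  have h := congrArg (Multiset.count ((ζ : K) ^ (2 * v).val)) he
  rw [Multiset.count_map, Multiset.count_map] at h
  change (Finset.univ.filter fun x => (ζ : K) ^ (2 * v).val = dg u x).card =
    (Finset.univ.filter fun x => (ζ : K) ^ (2 * v).val = dg (u ^ 2) x).card at h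
  have e1 : (Finset.univ.filter fun x => (ζ : K) ^ (2 * v).val = dg u x) = Finset.univ.filter fun x => c x = 2 * v := by
    ext x
    simp only [Finset.mem_filter, Finset.mem_univ, true_and, hc]
    exact ⟨fun e => (root_pow_inj hζ e).symm, fun e => by rw [e]⟩
  have e2 : (Finset.univ.filter fun x => (ζ : K) ^ (2 * v).val = dg (u ^ 2) x) =
      Finset.univ.filter fun x => c x = v := by
    ext x
    simp only [Finset.mem_filter, Finset.mem_univ, true_and]
    rw [hu2.2, hc, pow_two, ← root_pow_add hζ]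
    refine ⟨fun e => ?_, fun e => by subst e; rw [two_mul]⟩
    have e' := root_pow_inj hζ e
    exact (mul_left_cancel₀ h2 (by linear_combination e')).symm
  rw [e1, e2] at h
  exact h.symm

end Cfsg.Agent.AltE6
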