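/-
The Sylow subgroups for the prime five: diagonal by a group of order at most five.

* `Semi` : a 5-group with the diagonal 5-elements as a normal subgroup of index at most five;
* `exists_semi` : every 5-subgroup is conjugate into one.
-/
import Cfsg.Agent.Lib.AltE6.Mono

set_option autoImplicit false

namespace Cfsg.Agent.AltE6

open Cfsg.Agent.E6Cubic Matrix Function

attribute [local instance] fact_five

theorem omega_dual : ∀ t t' : Fin 6,
    ((omegaList.getD t.val []).map fun q => q.2 * lam (fI q.1) t').sum = if t = t' then 1 else 0 := by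
  decide +kernel

variable {K : Type} [Field K] [Finite K]

/-- The elements of order dividing five. -/
def E5 (K : Type) [Field K] : Subgroup (GL I K) where
  carrier := {g | g ∈ Ds K 5 ∧ g ^ 5 = 1}
  one_mem' := ⟨one_mem _, one_pow _⟩
  mul_mem' := by
    rintro a b ⟨ha, ha'⟩ ⟨hb, hb'⟩
    have : Commute a b := ha.2.1.comm hb.2.1
    exact ⟨mul_mem ha hb, by rw [this.mul_pow, ha', hb', one_mul]⟩
  inv_mem' := by
    rintro a ⟨ha, ha'⟩
    exact ⟨inv_mem ha, by rw [inv_pow, ha', inv_one]⟩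

variable {ζ : Kˣ} (hζ : orderOf ζ = 5)
include hζ

theorem card_E5 : 5 ^ 6 ≤ Nat.card (E5 K) := by
  have h : ∀ n : Fin 6 → ZMod 5, ∃ d : E5 K, ∀ j, dg (d : GL I K) j =
      ((ζ ^ (∑ t, lam j t * ((n t).val : ℤ)) : Kˣ) : K) := fun n => by
    obtain ⟨d, hd, hp, hv⟩ := exists_torus hζ fun t => ((n t).val : ℤ)
    exact ⟨⟨d, hd, hp⟩, hv⟩
  choose f hf using h
  have hinj : Injective f := by
    intro n n' e
    have h1 : ∀ j, ∑ t, (lam j t : ZMod 5) * (n t - n' t) = 0 := fun j => by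
      have e1 := hf n j
      rw [e, hf, Units.val_inj, zpow_eq_zpow_iff_modEq, hζ] at e1
      have e2 := (ZMod.intCast_eq_intCast_iff _ _ 5).2 e1
      push_cast at e2
      simp only [ZMod.natCast_zmod_val] at e2
      rw [Finset.sum_congr rfl fun t _ => mul_sub _ _ _, Finset.sum_sub_distrib, e2, sub_self]
    funext t
    refine sub_eq_zero.1 ?_
    calc n t - n' t = ∑ t', (if t = t' then (1 : ZMod 5) else 0) * (n t' - n' t') := by simp
      _ = ∑ t', (((omegaList.getD t.val []).map fun q => q.2 * lam (fI q.1) t').sum : ℤ) * (n t' - n' t') := by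
        refine Finset.sum_congr rfl fun t' _ => ?_
        rw [omega_dual]
        split_ifs <;> simp
      _ = 0 := by
        induction omegaList.getD t.val [] with
        | nil => simp
        | cons q l ih =>
          simp only [List.map_cons, List.sum_cons, Int.cast_add, Int.cast_mul, add_mul, Finset.sum_add_distrib,
            mul_assoc, ← Finset.mul_sum, h1, mul_zero, zero_add]
          exact ih
  have := Nat.card_le_card_of_injective f hinj
  simpa [Nat.card_eq_fintype_card] using this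

variable (hF : ∃ a : K, a ≠ 0 ∧ a ≠ 1)
include hF

/-- Diagonal elements of order five invariant under a nontrivial permutation. -/
theorem card_fix_le {σ : Equiv.Perm I} {f : ℕ} (hσ : Pres σ) (he : σ ^ 5 ^ f = 1) (hne : σ ≠ 1)
    {Z : Subgroup (GL I K)} (hZ : Z ≤ E5 K) (hfix : ∀ d ∈ Z, ∀ x, dg d (σ x) = dg d x) :
    Nat.card Z ≤ 625 := by
  obtain ⟨i, a, j, b, hdet⟩ := hσ.det_by_four he hne
  have h : ∀ d : Z, ∃ c : I → ZMod 5, ∀ x, dg (d : GL I K) x = (ζ : K) ^ (c x).val := fun d =>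
    exists_label hζ (hZ d.2).1.2.1 (hZ d.2).2
  choose c hc using h
  let f : Z → (ZMod 5 × ZMod 5) × (ZMod 5 × ZMod 5) := fun d => ((c d i, c d a), (c d j, c d b))
  have hinj : Injective f := by
    intro d d' e
    simp only [f, Prod.mk.injEq] at e
    obtain ⟨⟨e1, e2⟩, e3, e4⟩ := e
    have hu : ∀ d : Z, ∀ x, IsUnit (dg (d : GL I K) x) := fun d x => ((hZ d.2).1.2.1.dg_ne x).isUnit
    have key := hdet (M := Kˣ) (fun x => (hu d x).unit) (fun x => (hu d' x).unit)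
      (fun x => Units.ext (hfix d d.2 x)) (fun x => Units.ext (hfix d' d'.2 x))
      (fun x y h => Units.ext (dg_mul hF (hZ d.2).1.1 (hZ d.2).1.2.1 h))
      (fun x y h => Units.ext (dg_mul hF (hZ d'.2).1.1 (hZ d'.2).1.2.1 h))
      (Units.ext (by simp [IsUnit.unit_spec, hc, e1])) (Units.ext (by simp [IsUnit.unit_spec, hc, e2]))
      (Units.ext (by simp [IsUnit.unit_spec, hc, e3])) (Units.ext (by simp [IsUnit.unit_spec, hc, e4]))
    exact Subtype.ext ((hZ d.2).1.2.1.ext (hZ d'.2).1.2.1 fun x => congrArg Units.val (congrFun key x))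
  have := Nat.card_le_card_of_injective f hinj
  simpa using this

omit hF hζ

/-- A group of permutations preserving the monomials of order a power of five has order at most five. -/
theorem card_pres_le {Γ : Subgroup (Equiv.Perm I)} (hp : IsPGroup 5 Γ) (hpres : ∀ σ ∈ Γ, Pres σ) :
    Nat.card Γ ≤ 5 := by
  classical
  have hmod := hp.card_modEq_card_fixedPoints I
  have hne : (MulAction.fixedPoints Γ I).Nonempty := by
    by_contra h
    rw [Set.not_nonempty_iff_eq_empty.1 h] at hmod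
    simp [Nat.ModEq] at hmod
  obtain ⟨i, hi⟩ := hne
  rw [MulAction.mem_fixedPoints] at hi
  have hfix : ∀ σ ∈ Γ, σ i = i := fun σ hσ => hi ⟨σ, hσ⟩
  obtain ⟨a, ha⟩ : ∃ a, adj i a = true := by
    by_contra h
    push Not at h
    have := nbr_card i
    simp [h] at this
  have hpow : ∀ σ ∈ Γ, ∃ e, σ ^ 5 ^ e = 1 := fun σ hσ => by
    obtain ⟨e, he⟩ := hp ⟨σ, hσ⟩
    exact ⟨e, by simpa using congrArg Subtype.val he⟩
  have hinj : ∀ σ ∈ Γ, ∀ τ ∈ Γ, σ a = τ a → σ = τ := fun σ hσ τ hτ e => by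
    obtain ⟨f, hf⟩ := hpow _ (mul_mem (inv_mem hτ) hσ)
    have h1 := eq_one_of_adj (hpres _ (mul_mem (inv_mem hτ) hσ)) le_rfl hf (hfix _ (mul_mem (inv_mem hτ) hσ))
      (by rw [Equiv.Perm.mul_apply, e, Equiv.Perm.inv_def, Equiv.symm_apply_apply]) ha
    exact (inv_mul_eq_one.1 h1).symm
  let f : Γ ⊕ Γ → {x : I // adj i x = true} := Sum.elim
    (fun σ => ⟨σ.1 a, by rw [← hfix σ.1 σ.2, (hpres σ.1 σ.2 i a).1]; exact ha⟩)
    (fun σ => ⟨σ.1 (th i a), by
      have h := (hpres σ.1 σ.2 i (th i a)).1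
      rw [hfix σ.1 σ.2] at h
      exact h.trans (adj_th i a ha).2.1⟩)
  have hf : Injective f := by
    have cross : ∀ σ τ : Γ, σ.1 a ≠ τ.1 (th i a) := fun σ τ e => by
      set δ := τ.1⁻¹ * σ.1 with hδ
      have hδm : δ ∈ Γ := mul_mem (inv_mem τ.2) σ.2
      have hda : δ a = th i a := by
        rw [hδ, Equiv.Perm.mul_apply, e, Equiv.Perm.inv_def, Equiv.symm_apply_apply]
      obtain ⟨k, hk⟩ := hpow δ hδm
      obtain ⟨-, -, -, h4, -⟩ := adj_th i a ha
      refine orbit_partner (hpres δ hδm) le_rfl hk (hfix δ hδm) ha (by rw [hda]; exact h4) 1 ?_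
      simpa using hda
    rintro (σ | σ) (τ | τ) e <;> simp only [f, Sum.elim_inl, Sum.elim_inr, Subtype.mk.injEq] at e
    · exact congrArg Sum.inl (Subtype.ext (hinj _ σ.2 _ τ.2 e))
    · exact absurd e (cross σ τ)
    · exact absurd e.symm (cross τ σ)
    · refine congrArg Sum.inr (Subtype.ext (hinj _ σ.2 _ τ.2 ?_))
      have h1 := (hpres _ σ.2 i (th i a)).2 (adj_th i a ha).2.1
      have h2 := (hpres _ τ.2 i (th i a)).2 (adj_th i a ha).2.1
      rw [(adj_th i a ha).2.2.1, hfix _ σ.2] at h1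
      rw [(adj_th i a ha).2.2.1, hfix _ τ.2] at h2
      rw [← h1, ← h2, e]
  have h := Nat.card_le_card_of_injective f hf
  rw [Nat.card_sum, Nat.card_eq_fintype_card (α := {x : I // adj i x = true}), Fintype.card_subtype, nbr_card] at h
  omega

/-- The elements of `S` normalising the diagonal 5-elements. -/
def Nz (S : Subgroup (GL I K)) : Subgroup (GL I K) := S ⊓ Subgroup.normalizer (Ds K 5 : Set (GL I K))

omit [Finite K] in
theorem mem_Nz {S : Subgroup (GL I K)} {g : GL I K} :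
    g ∈ Nz S ↔ g ∈ S ∧ g ∈ Subgroup.normalizer (Ds K 5 : Set (GL I K)) := Subgroup.mem_inf

/-- A 5-group with the diagonal 5-elements of index at most five. -/
structure Semi (S : Subgroup (GL I K)) : Prop where
  isP : IsPGroup 5 S
  img_le : S ≤ img K
  comm : ∀ g ∈ S, ∀ h ∈ S, g * h * g⁻¹ * h⁻¹ ∈ Ds K 5
  pow : ∀ g ∈ S, g ^ 5 ∈ Ds K 5
  card : ∀ R ≤ S, Nat.card R ≤ 5 * Nat.card ↥(R ⊓ Ds K 5)
  mono : ∀ g ∈ S, g ∉ Ds K 5 → ∃ σ, Mono g σ ∧ Pres σ ∧ σ ≠ 1 ∧ ∃ e, σ ^ 5 ^ e = 1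

include hF hζ

theorem exists_perm_hom {S : Subgroup (GL I K)} (hS : IsPGroup 5 S) (himg : S ≤ img K) :
    ∃ ψ : ↥(Nz S) →* Equiv.Perm I,
      (∀ g : ↥(Nz S), Mono (g : GL I K) (ψ g)) ∧ (∀ g, Pres (ψ g)) ∧
      (∀ g : ↥(Nz S), ψ g = 1 ↔ (g : GL I K) ∈ Ds K 5) ∧
        IsPGroup 5 ψ.range ∧ Nat.card ψ.range ≤ 5 := by
  classical
  have hex : ∀ g : ↥(Nz S), ∃ σ, Mono (g : GL I K) σ := fun g =>
    mono_of_normal le_rfl hζ fun d hd => (Subgroup.mem_normalizer_iff''.1 (mem_Nz.1 g.2).2 d).1 hd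
  choose φ hφ using hex
  let ψ : ↥(Nz S) →* Equiv.Perm I :=
    { toFun := φ
      map_one' := (hφ 1).unique Mono.one
      map_mul' := fun g h => (hφ (g * h)).unique ((hφ g).mul (hφ h)) }
  have hpow : ∀ g : ↥(Nz S), ∃ e, g ^ 5 ^ e = 1 := fun g => by
    obtain ⟨e, he⟩ := hS ⟨g, (mem_Nz.1 g.2).1⟩
    exact ⟨e, Subtype.ext (by simpa using congrArg Subtype.val he)⟩
  have hΓp : IsPGroup 5 ψ.range := by
    rintro ⟨_, g, rfl⟩
    obtain ⟨e, he⟩ := hpow g
    refine ⟨e, Subtype.ext ?_⟩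
    rw [SubmonoidClass.coe_pow, ← map_pow, he, map_one]
    rfl
  have hpres : ∀ g, Pres (ψ g) := fun g => (hφ g).pres hF (himg (mem_Nz.1 g.2).1)
  refine ⟨ψ, hφ, hpres, fun g => ⟨fun h => ⟨himg (mem_Nz.1 g.2).1, (h ▸ hφ g : Mono (g : GL I K) 1).isDg, ?_⟩, fun h =>
    (hφ g).unique (mono_of_dg h.2.1)⟩, hΓp, card_pres_le hΓp fun σ hσ => ?_⟩
  · obtain ⟨e, he⟩ := hpow g
    exact ⟨e, by simpa using congrArg Subtype.val he⟩
  · obtain ⟨g, rfl⟩ := hσ
    exact hpres g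

omit hF hζ in
theorem card_range_comp {A B C : Type*} [Group A] [Group B] [Group C] [Finite C] (g : B →* C) (f : A →* B) :
    Nat.card (g.comp f).range ≤ Nat.card g.range :=
  Nat.card_le_card_of_injective
    (fun x : (g.comp f).range => (⟨x.1, by obtain ⟨a, ha⟩ := x.2; exact ⟨f a, ha⟩⟩ : g.range))
    fun _ _ e => Subtype.ext (congrArg Subtype.val e :)

omit hF hζ in
theorem normalizes_of_forall {D : Subgroup (GL I K)} {g : GL I K} (h : ∀ d ∈ D, g * d * g⁻¹ ∈ D) :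
    g ∈ Subgroup.normalizer (D : Set (GL I K)) := by
  refine Subgroup.mem_normalizer_iff.2 fun d => ⟨h d, fun hd => ?_⟩
  let c : D → D := fun d => ⟨_, h d d.2⟩
  have hc : Surjective c := Finite.injective_iff_surjective.1 fun a b e =>
    Subtype.ext (mul_left_cancel (mul_right_cancel (congrArg Subtype.val e :)))
  obtain ⟨d', hd'⟩ := hc ⟨_, hd⟩
  rw [← mul_left_cancel (mul_right_cancel (congrArg Subtype.val hd' :))]
  exact d'.2

/-- A Sylow 5-subgroup normalises the diagonal 5-elements. -/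
theorem le_normalizer_Ds {S : Subgroup (GL I K)} (hS : IsPGroup 5 S) (hle : Ds K 5 ≤ S) (himg : S ≤ img K) :
    S ≤ Subgroup.normalizer (Ds K 5 : Set (GL I K)) := by
  obtain ⟨ψ, hφ, hpres, hker, hΓp, hΓ⟩ := exists_perm_hom hζ hF hS himg
  have hDN : Ds K 5 ≤ Nz S := fun d hd => mem_Nz.2 ⟨hle hd, Subgroup.le_normalizer hd⟩
  by_contra hcon
  haveI : Group.IsNilpotent S := hS.isNilpotent
  have hlt : (Nz S).subgroupOf S < ⊤ := lt_top_iff_ne_top.2 fun h =>
    hcon fun x hx => (mem_Nz.1 (Subgroup.subgroupOf_eq_top.1 h hx)).2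
  obtain ⟨g, hgN, hgD⟩ := SetLike.exists_of_lt (Group.normalizerCondition_of_isNilpotent _ hlt)
  rw [Subgroup.mem_normalizer_iff] at hgN
  have hgN' : ∀ n : ↥(Nz S), (g : GL I K) * n * (g : GL I K)⁻¹ ∈ Nz S := fun n => by
    have := (hgN ⟨n, (mem_Nz.1 n.2).1⟩).1 (Subgroup.mem_subgroupOf.2 n.2)
    simpa [Subgroup.mem_subgroupOf] using this
  have hgN'' : ∀ n : ↥(Nz S), (g : GL I K)⁻¹ * n * (g : GL I K) ∈ Nz S := fun n => by
    have := (hgN (g⁻¹ * ⟨n, (mem_Nz.1 n.2).1⟩ * g)).2 (by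
      rw [show g * (g⁻¹ * (⟨n, (mem_Nz.1 n.2).1⟩ : S) * g) * g⁻¹ = ⟨n, (mem_Nz.1 n.2).1⟩ by group]
      exact Subgroup.mem_subgroupOf.2 n.2)
    simpa [Subgroup.mem_subgroupOf] using this
  obtain ⟨d₀, hd₀, hw⟩ : ∃ d₀ ∈ Ds K 5, (g : GL I K) * d₀ * (g : GL I K)⁻¹ ∉ Ds K 5 := by
    by_contra h
    push Not at h
    exact hgD (Subgroup.mem_subgroupOf.2 (mem_Nz.2 ⟨g.2, normalizes_of_forall h⟩))
  set w : ↥(Nz S) := ⟨_, hgN' ⟨d₀, hDN hd₀⟩⟩ with hwdef
  have hσ : ψ w ≠ 1 := fun h => hw ((hker w).1 h)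
  obtain ⟨f, hf⟩ := hΓp ⟨ψ w, w, rfl⟩
  let conjg : E5 K →* ↥(Nz S) :=
    { toFun := fun d => ⟨_, hgN'' ⟨d, hDN d.2.1⟩⟩
      map_one' := Subtype.ext (by simp)
      map_mul' := fun a b => Subtype.ext (by
        show (g : GL I K)⁻¹ * (a * b : GL I K) * g = _ * _
        simp [mul_assoc]) }
  set θ := ψ.comp conjg
  have hrange : Nat.card θ.range ≤ 5 := (card_range_comp ψ conjg).trans hΓ
  have hk : Nat.card θ.ker ≤ 625 := by
    rw [← Subgroup.card_map_of_injective (E5 K).subtype_injective]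
    refine card_fix_le hζ hF (σ := ψ w) (f := f) (hpres w) (by simpa using congrArg Subtype.val hf) hσ
      (Subgroup.map_subtype_le _) ?_
    rintro _ ⟨d, hd, rfl⟩ x
    have h1 : (g : GL I K)⁻¹ * d * g ∈ Ds K 5 := (hker _).1 hd
    refine (hφ w).conj_dg d.2.1.2.1 d.2.1.2.1 ?_ x
    have h2 : ((g : GL I K)⁻¹ * d * g) * d₀ = d₀ * ((g : GL I K)⁻¹ * d * g) := h1.2.1.comm hd₀.2.1
    show (g : GL I K) * d₀ * (g : GL I K)⁻¹ * d = d * ((g : GL I K) * d₀ * (g : GL I K)⁻¹)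
    calc _ = g * (d₀ * ((g : GL I K)⁻¹ * d * g)) * (g : GL I K)⁻¹ := by group
      _ = _ := by rw [← h2]; group
  have htot : Nat.card (E5 K) = Nat.card θ.ker * Nat.card θ.range := by
    rw [← θ.ker.card_mul_index, Subgroup.index_ker]
  have h6 := card_E5 hζ
  have := Nat.mul_le_mul hk hrange
  omega

theorem semi_of_sylow {S : Subgroup (GL I K)} (hS : IsPGroup 5 S) (hle : Ds K 5 ≤ S) (himg : S ≤ img K) :
    Semi S := by
  obtain ⟨ψ, hφ, hpres, hker, hΓp, hΓ⟩ := exists_perm_hom hζ hF hS himg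
  have hmem : ∀ g ∈ S, g ∈ Nz S := fun g hg => mem_Nz.2 ⟨hg, le_normalizer_Ds hζ hF hS hle himg hg⟩
  have hcyc : Nat.card ψ.range = 1 ∨ Nat.card ψ.range = 5 := by
    obtain ⟨n, hn⟩ := (IsPGroup.iff_card (p := 5)).1 hΓp
    rw [hn] at hΓ ⊢
    rcases n with _ | _ | n
    · exact Or.inl rfl
    · exact Or.inr rfl
    · exfalso
      have : 5 ^ 2 ≤ 5 ^ (n + 1 + 1) := Nat.pow_le_pow_right (by norm_num) (by omega)
      omega
  have hcomm : ∀ a b : ψ.range, a * b = b * a := by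
    rcases hcyc with h | h
    · haveI := (Nat.card_eq_one_iff_unique.1 h).1
      exact fun a b => Subsingleton.elim _ _
    · haveI := isCyclic_of_prime_card h
      exact fun a b => (IsCyclic.commGroup (α := ψ.range)).mul_comm a b
  have hpow : ∀ a : ψ.range, a ^ 5 = 1 := fun a => by
    rcases hcyc with h | h
    · haveI := (Nat.card_eq_one_iff_unique.1 h).1
      exact Subsingleton.elim _ _
    · have := pow_card_eq_one' (x := a)
      rwa [h] at this
  refine ⟨hS, himg, fun g hg h hh => ?_, fun g hg => ?_, fun R hR => ?_, fun g hg hgD => ?_⟩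
  · obtain ⟨a, ha⟩ : ∃ a : ↥(Nz S), (a : GL I K) = g := ⟨⟨g, hmem g hg⟩, rfl⟩
    obtain ⟨b, hb⟩ : ∃ b : ↥(Nz S), (b : GL I K) = h := ⟨⟨h, hmem h hh⟩, rfl⟩
    have h0 : ψ a * ψ b = ψ b * ψ a := congrArg Subtype.val (hcomm ⟨ψ a, a, rfl⟩ ⟨ψ b, b, rfl⟩)
    have h1 : ψ (a * b * a⁻¹ * b⁻¹) = 1 := by
      rw [map_mul, map_mul, map_mul, map_inv, map_inv, h0]
      group
    have h2 := (hker _).1 h1
    rw [Subgroup.coe_mul, Subgroup.coe_mul, Subgroup.coe_mul, Subgroup.coe_inv, Subgroup.coe_inv, ha, hb] at h2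
    exact h2
  · obtain ⟨a, ha⟩ : ∃ a : ↥(Nz S), (a : GL I K) = g := ⟨⟨g, hmem g hg⟩, rfl⟩
    have h0 : ψ a ^ 5 = 1 := congrArg Subtype.val (hpow ⟨ψ a, a, rfl⟩)
    have h2 := (hker (a ^ 5)).1 (by rw [map_pow]; exact h0)
    rw [SubmonoidClass.coe_pow, ha] at h2
    exact h2
  · let incl : R →* ↥(Nz S) :=
      Subgroup.inclusion fun g hg => hmem g (hR hg)
    have hrange : Nat.card (ψ.comp incl).range ≤ 5 := (card_range_comp ψ incl).trans hΓ
    have hk : (ψ.comp incl).ker.map R.subtype = R ⊓ Ds K 5 := by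
      ext g
      constructor
      · rintro ⟨r, hr, rfl⟩
        exact ⟨r.2, (hker (incl r)).1 hr⟩
      · rintro ⟨hgR, hgD⟩
        exact ⟨⟨g, hgR⟩, (hker (incl ⟨g, hgR⟩)).2 hgD, rfl⟩
    rw [← hk, Subgroup.card_map_of_injective R.subtype_injective, ← (ψ.comp incl).ker.card_mul_index,
      Subgroup.index_ker, mul_comm]
    exact Nat.mul_le_mul_right _ hrange
  · obtain ⟨e, he⟩ := hΓp ⟨ψ ⟨g, hmem g hg⟩, _, rfl⟩
    exact ⟨ψ ⟨g, hmem g hg⟩, hφ ⟨g, hmem g hg⟩, hpres _, fun h => hgD ((hker ⟨g, hmem g hg⟩).1 h), e,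
      congrArg Subtype.val he⟩

/-- Every 5-subgroup is conjugate into a group `Semi`. -/
theorem exists_semi {P : Subgroup (GL I K)} (hP : IsPGroup 5 P) (hle : P ≤ img K) :
    ∃ x ∈ img K, ∃ S, Semi S ∧ ∀ g ∈ P, x * g * x⁻¹ ∈ S := by
  have hD : Ds K 5 ≤ img K := fun g hg => hg.1
  obtain ⟨Q, hQ⟩ := (show IsPGroup 5 ((Ds K 5).subgroupOf (img K)) from
    (Ds_isPGroup 5).of_equiv (Subgroup.subgroupOfEquivOfLe hD).symm).exists_le_sylow
  obtain ⟨Q', hQ'⟩ := (show IsPGroup 5 (P.subgroupOf (img K)) from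
    hP.of_equiv (Subgroup.subgroupOfEquivOfLe hle).symm).exists_le_sylow
  obtain ⟨x, hx⟩ := MulAction.exists_smul_eq (img K) Q' Q
  refine ⟨x, x.2, _, semi_of_sylow hζ hF (Q.isPGroup'.map (img K).subtype)
    (fun d hd => ⟨⟨d, hD hd⟩, hQ (Subgroup.mem_subgroupOf.2 hd), rfl⟩) (Subgroup.map_subtype_le _), fun g hg => ?_⟩
  rw [← hx, Sylow.coe_subgroup_smul]
  exact ⟨x * ⟨g, hle hg⟩ * x⁻¹, ⟨⟨g, hle hg⟩, hQ' (Subgroup.mem_subgroupOf.2 hg), rfl⟩, rfl⟩

end Cfsg.Agent.AltE6
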