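/-
The Sylow 5-subgroup of the kernel of a minimal cover inside the group of the cubic form is central.

* `seven_commute` : 7-elements centralise the diagonal 5-subgroups they normalise;
* `Q_central`     : the main result.
-/
import Cfsg.Agent.Lib.AltE6.Five
import Cfsg.Agent.Lib.AltE6.Cover

set_option autoImplicit false

namespace Cfsg.Agent.AltE6

open Cfsg.Agent.E6Cubic Matrix
open scoped commutatorElement

attribute [local instance] fact_five

variable {K : Type} [Field K] [Finite K] {ζ : Kˣ} (hζ : orderOf ζ = 5) (hF : ∃ a : K, a ≠ 0 ∧ a ≠ 1)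

/-- Only trivial permutations come from 5-elements commuting with the set. -/
def Rigid (T : Set (GL I K)) : Prop :=
  ∀ g : GL I K, ∀ σ : Equiv.Perm I, Mono g σ → Pres σ → (∃ e, σ ^ 5 ^ e = 1) → (∀ a ∈ T, g * a = a * g) → σ = 1

omit [Finite K] in
theorem Special.unique {c : I → ZMod 5} (hc : MonSum c) {e e' : I} (he : Special c e) (he' : Special c e') : e' = e := by
  classical
  by_contra hne
  have h1 : adj e e' = true := he.2.2 e' he'.1 hne
  obtain ⟨x, hx⟩ : ((((zeros c).erase e).erase e').erase (th e e')).Nonempty := by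
    rw [← Finset.card_pos]
    have := Finset.pred_card_le_card_erase (s := ((zeros c).erase e).erase e') (a := th e e')
    have := Finset.pred_card_le_card_erase (s := (zeros c).erase e) (a := e')
    have := Finset.pred_card_le_card_erase (s := zeros c) (a := e)
    have := he.2.1
    omega
  simp only [zeros, Finset.mem_erase, Finset.mem_filter, Finset.mem_univ, true_and] at hx
  obtain ⟨hx1, hx2, hx3, hx4⟩ := hx
  exact hx1 (adj_triangle e e' h1 x (he.2.2 x hx4 hx3) (he'.2.2 x hx4 hx2))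

omit [Finite K] in
theorem special_fix {c : I → ZMod 5} (hc : MonSum c) {e : I} (he : Special c e) {σ : Equiv.Perm I} {f : ℕ}
    (hσ : Pres σ) (hpow : σ ^ 5 ^ f = 1) (hinv : ∀ x, c (σ x) = c x) : σ = 1 := by
  classical
  have hz : ∀ x, c x = 0 → c (σ⁻¹ x) = 0 := fun x hx => by
    rw [← hinv, Equiv.Perm.inv_def, Equiv.apply_symm_apply]
    exact hx
  have he' : Special c (σ e) := by
    refine ⟨by rw [hinv]; exact he.1, he.2.1, fun x hx hne => ?_⟩
    have h1 : σ⁻¹ x ≠ e := fun h => hne (by rw [← h, Equiv.Perm.inv_def, Equiv.apply_symm_apply])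
    have h2 := he.2.2 _ (hz x hx) h1
    have h3 := (hσ e (σ⁻¹ x)).1
    rw [Equiv.Perm.inv_def, Equiv.apply_symm_apply] at h3
    rw [h3, ← Equiv.Perm.inv_def]
    exact h2
  have hfix : σ e = e := Special.unique hc he he'
  set M := (zeros c).erase e with hM
  have hmem : ∀ x, x ∈ M ↔ x ≠ e ∧ c x = 0 := fun x => by simp [hM, zeros]
  have hcard : M.card = 6 := by
    rw [hM, Finset.card_erase_of_mem (by simp [zeros, he.1]), he.2.1]
  have hadj : ∀ x ∈ M, adj e x = true := fun x hx => he.2.2 x ((hmem x).1 hx).2 ((hmem x).1 hx).1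
  obtain ⟨a, ha⟩ : M.Nonempty := Finset.card_pos.1 (by omega)
  refine eq_one_of_adj hσ le_rfl hpow hfix (fix_nbrs hσ le_rfl hpow hfix hadj ?_ ?_ (by omega) a ha) (hadj a ha)
  · intro x hx
    rw [hmem] at hx ⊢
    exact ⟨fun h => hx.1 (σ.injective (h.trans hfix.symm)), by rw [hinv]; exact hx.2⟩
  · intro x hx
    have h1 := hadj x hx
    rw [hmem] at hx ⊢
    obtain ⟨-, -, -, -, -, -, h7⟩ := adj_th e x h1
    refine ⟨h7, ?_⟩
    have := hc e x h1
    rwa [he.1, hx.2, zero_add, zero_add] at this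

include hζ hF

/-- The labelling of a rational diagonal element of order five. -/
theorem rational_label {u : GL I K} (hu : u ∈ Ds K 5) (h5 : u ^ 5 = 1) (hne : u ≠ 1) {g : GL I K}
    (hg : g * u * g⁻¹ = u ^ 2) :
    ∃ c : I → ZMod 5, (∀ j, dg u j = (ζ : K) ^ (c j).val) ∧ MonSum c ∧ ∃ e, Special c e := by
  obtain ⟨c, hc⟩ := exists_label hζ hu.2.1 h5
  have hm := label_monSum hF hζ hu.1 hu.2.1 hc
  refine ⟨c, hc, hm, five_special hm (label_dblInv hζ (by decide) hu.2.1 hg hc) ?_⟩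
  by_contra h
  push Not at h
  exact hne (hu.2.1.ext isDg_one fun j => by rw [hc, h, dg_one, ZMod.val_zero, pow_zero])

theorem rigid_of_rational {u : GL I K} (hu : u ∈ Ds K 5) (h5 : u ^ 5 = 1) (hne : u ≠ 1) {g₀ : GL I K}
    (hg₀ : g₀ * u * g₀⁻¹ = u ^ 2) {T : Set (GL I K)} (huT : u ∈ T) : Rigid T := by
  obtain ⟨c, hc, hm, e, he⟩ := rational_label hζ hF hu h5 hne hg₀
  intro g σ hg hσ ⟨f, hf⟩ hcomm
  exact special_fix hm he hσ hf fun x => root_pow_inj hζ (by
    rw [← hc, ← hc]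
    exact hg.conj_dg hu.2.1 hu.2.1 (hcomm u huT) x)

variable {H : Type} [Group H] [Finite H] {f : H →* GL I K} (hinj : Function.Injective f) (himg : ∀ h, f h ∈ img K)
include hinj himg

/-- A 7-element centralises a rigid diagonal 5-subgroup which it normalises. -/
theorem seven_commute {X : Subgroup H} (hX : ∀ a ∈ X, f a ∈ Ds K 5) (hr : Rigid (f '' (X : Set H))) {n : H} {a : ℕ}
    (hn : n ^ 7 ^ a = 1) (hnX : ∀ t ∈ X, n * t * n⁻¹ ∈ X) : ∀ t ∈ X, n * t = t * n := by
  haveI : Fact (Nat.Prime 7) := ⟨by norm_num⟩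
  set C := img K ⊓ Subgroup.centralizer (f '' (X : Set H)) with hC
  have hDC : Ds K 5 ≤ C := fun d hd => Subgroup.mem_inf.2 ⟨hd.1, Subgroup.mem_centralizer_iff.2 (by
    rintro _ ⟨t, ht, rfl⟩
    exact (hX t ht).2.1.comm hd.2.1)⟩
  have hnX' : ∀ t ∈ X, n⁻¹ * t * n ∈ X := fun t ht => by
    have hpow : ∀ k : ℕ, n ^ k * t * (n ^ k)⁻¹ ∈ X := fun k => by
      induction k with
      | zero => simpa using ht
      | succ k ih => simpa [pow_succ', mul_assoc] using hnX _ ih
    have e : n ^ (orderOf n - 1) = n⁻¹ := eq_inv_of_mul_eq_one_left (by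
      rw [← pow_succ, Nat.sub_add_cancel (orderOf_pos n), pow_orderOf_eq_one])
    simpa [e] using hpow (orderOf n - 1)
  have hPC : (Ds K 5).map (MulAut.conj (f n)).toMonoidHom ≤ C := by
    rintro _ ⟨d, hd, rfl⟩
    refine Subgroup.mem_inf.2 ⟨mul_mem (mul_mem (himg n) hd.1) (inv_mem (himg n)), Subgroup.mem_centralizer_iff.2 ?_⟩
    rintro _ ⟨t, ht, rfl⟩
    have h1 := (hX _ (hnX' t ht)).2.1.comm hd.2.1
    rw [map_mul, map_mul, map_inv] at h1
    show f t * (f n * d * (f n)⁻¹) = f n * d * (f n)⁻¹ * f t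
    calc _ = f n * ((f n)⁻¹ * f t * f n * d) * (f n)⁻¹ := by group
      _ = _ := by rw [h1]; group
  obtain ⟨c, hc, hconj⟩ := exists_conj_Ds hF le_rfl hζ inf_le_left hDC (fun g hg σ hm hσ he =>
    hr g σ hm hσ he fun b hb => (Subgroup.mem_centralizer_iff.1 (Subgroup.mem_inf.1 hg).2 b hb).symm)
    ((Ds_isPGroup 5).map _) hPC
  have hnorm : ∀ d ∈ Ds K 5, c * f n * d * (c * f n)⁻¹ ∈ Ds K 5 := fun d hd => by
    have := hconj _ ⟨d, hd, rfl⟩
    simpa [mul_assoc] using this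
  obtain ⟨σ, hσ⟩ := mono_of_normal le_rfl hζ fun d hd =>
    (Subgroup.mem_normalizer_iff''.1 (normalizes_of_forall hnorm) d).1 hd
  have hpres := hσ.pres hF (mul_mem (Subgroup.mem_inf.1 hc).1 (himg n))
  obtain ⟨b, r, h7r, hord⟩ :=
    Nat.exists_eq_pow_mul_and_not_dvd (orderOf_pos σ).ne' 7 (by norm_num : (7 : ℕ) ≠ 1)
  have hcop : Nat.Coprime r (orderOf n) := by
    refine Nat.Coprime.coprime_dvd_right (orderOf_dvd_of_pow_eq_one hn) (Nat.Coprime.pow_right _ ?_)
    exact ((Nat.Prime.coprime_iff_not_dvd (by norm_num)).2 h7r).symm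
  obtain ⟨j, hj⟩ := exists_pow_eq_self_of_coprime hcop
  have hs1 : σ ^ (r * j) = 1 := by
    refine (hpres.pow _).eq_one_of_large (s := 7) (e := b) (Or.inl rfl) ?_
    rw [← pow_mul, show r * j * 7 ^ b = orderOf σ * j by rw [hord]; ring, pow_mul, pow_orderOf_eq_one, one_pow]
  have hdg : IsDg ((c * f n) ^ (r * j)) := (hs1 ▸ hσ.pow (r * j) : Mono ((c * f n) ^ (r * j)) 1).isDg
  have hact : ∀ k : ℕ, ∀ t ∈ X,
      n ^ k * t * (n ^ k)⁻¹ ∈ X ∧ (c * f n) ^ k * f t = f (n ^ k * t * (n ^ k)⁻¹) * (c * f n) ^ k := by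
    intro k
    induction k with
    | zero => intro t ht; simp [ht]
    | succ k ih =>
      intro t ht
      obtain ⟨h1, h2⟩ := ih _ (hnX t ht)
      have e1 : c * f n * f t = f (n * t * n⁻¹) * (c * f n) := by
        have h3 := Subgroup.mem_centralizer_iff.1 (Subgroup.mem_inf.1 hc).2 _ ⟨_, hnX t ht, rfl⟩
        rw [← mul_assoc, h3, map_mul, map_mul, map_inv]
        group
      have e2 : n ^ (k + 1) * t * (n ^ (k + 1))⁻¹ = n ^ k * (n * t * n⁻¹) * (n ^ k)⁻¹ := by
        rw [pow_succ]; group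
      rw [e2]
      refine ⟨h1, ?_⟩
      rw [pow_succ, mul_assoc ((c * f n) ^ k), e1, ← mul_assoc, h2, mul_assoc]
  intro t ht
  obtain ⟨h1, h2⟩ := hact (r * j) t ht
  have hnk : n ^ (r * j) = n := by rw [pow_mul]; exact hj
  rw [hnk] at h1 h2
  rw [hdg.comm (hX t ht).2.1] at h2
  have h3 := hinj (mul_right_cancel h2)
  calc n * t = n * t * n⁻¹ * n := by group
    _ = t * n := by rw [← h3]

variable {A : Type} [Group A] [hA : IsSimpleGroup A] {π : H →* A} (hmin : MinCover π) (h7 : 7 ∣ Nat.card A)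
  (hbig : 5040 < Nat.card A)
include hmin h7 hbig

omit hζ hF hinj himg hbig in
theorem central_of_seven {X : Subgroup H}
    (h : ∀ n : H, ∀ a : ℕ, n ^ 7 ^ a = 1 → ∀ t ∈ X, n * t = t * n) : X ≤ Subgroup.center H := by
  haveI : Fact (Nat.Prime 7) := ⟨by norm_num⟩
  have hle : Subgroup.closure {x : H | ∃ e : ℕ, x ^ 7 ^ e = 1} ≤ Subgroup.centralizer (X : Set H) := by
    rw [Subgroup.closure_le]
    rintro n ⟨a, ha⟩
    exact Subgroup.mem_centralizer_iff.2 fun t ht => (h n a ha t ht).symm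
  rw [hmin.closure_top h7] at hle
  exact fun t ht => Subgroup.mem_center_iff.2 fun g =>
    (Subgroup.mem_centralizer_iff.1 (hle (Subgroup.mem_top g)) t ht).symm

omit h7 hζ hF himg in
theorem central_of_few {N : Subgroup H} [N.Normal] (hN : ∀ a ∈ N, f a ∈ Ds K 5)
    (hfew : (Set.range fun j (a : N) => dg (f a) j).ncard ≤ 7) : N ≤ Subgroup.center H := by
  classical
  set χ : I → N → K := fun j a => dg (f a) j with hχ
  let cj : H → N → N := fun h a => ⟨h⁻¹ * a * h, by
    simpa using Subgroup.Normal.conj_mem inferInstance (a : H) a.2 h⁻¹⟩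
  have hcm : ∀ g h : H, ∀ a, cj h (cj g a) = cj (g * h) a := fun g h a => Subtype.ext (by
    show h⁻¹ * (g⁻¹ * a * g) * h = (g * h)⁻¹ * a * (g * h)
    group)
  have hc1 : ∀ a, cj 1 a = a := fun a => Subtype.ext (by
    show (1 : H)⁻¹ * a * 1 = a
    group)
  have hmem : ∀ h : H, ∀ x ∈ Set.range χ, (fun a => x (cj h a)) ∈ Set.range χ := by
    rintro h _ ⟨j, rfl⟩
    obtain ⟨k, hk⟩ : ∃ k, ((f h : Matrix I I K) *ᵥ ev K j) k ≠ 0 := by
      by_contra hcon
      push Not at hcon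
      have h1 : ev K j = 0 := Matrix.mulVec_injective_iff_isUnit.2 (f h).isUnit
        (by rw [Matrix.mulVec_zero]; exact funext hcon)
      simpa [ev] using congrFun h1 j
    refine ⟨k, funext fun a => ?_⟩
    have e : (f (a : H) : Matrix I I K) *ᵥ ((f h : Matrix I I K) *ᵥ ev K j) =
        dg (f (cj h a : H)) j • ((f h : Matrix I I K) *ᵥ ev K j) := by
      have h2 : f (a : H) * f h = f h * f (cj h a : H) := by
        rw [← map_mul, ← map_mul]
        congr 1
        show _ = h * (h⁻¹ * a * h)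
        group
      rw [Matrix.mulVec_mulVec, ← Units.val_mul, h2, Units.val_mul, ← Matrix.mulVec_mulVec, ← Matrix.mulVec_smul]
      congr 1
      funext i
      rw [(hN _ (cj h a).2).2.1.mulVec, Pi.smul_apply, smul_eq_mul]
      by_cases hi : i = j
      · subst hi; rfl
      · simp [ev, hi]
    have := congrFun e k
    rw [(hN a a.2).2.1.mulVec, Pi.smul_apply, smul_eq_mul] at this
    exact mul_right_cancel₀ hk this
  let act : H → Set.range χ → Set.range χ := fun h x => ⟨fun a => x.1 (cj h a), hmem h x x.2⟩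
  have act_mul : ∀ g h x, act (g * h) x = act g (act h x) := fun g h x => Subtype.ext (funext fun a => by
    show x.1 (cj (g * h) a) = x.1 (cj h (cj g a))
    rw [hcm])
  have act_one : ∀ x, act 1 x = x := fun x => Subtype.ext (funext fun a => by
    show x.1 (cj 1 a) = x.1 a
    rw [hc1])
  let φ : H →* Equiv.Perm (Set.range χ) :=
    { toFun := fun h => ⟨act h, act h⁻¹, fun x => by rw [← act_mul, inv_mul_cancel, act_one],
        fun x => by rw [← act_mul, mul_inv_cancel, act_one]⟩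
      map_one' := Equiv.ext act_one
      map_mul' := fun g h => Equiv.ext (act_mul g h) }
  have hsmall : Nat.card (Equiv.Perm (Set.range χ)) < Nat.card A := by
    rw [Nat.card_perm, Nat.card_coe_set_eq]
    refine lt_of_le_of_lt ((Nat.factorial_le hfew).trans ?_) hbig
    norm_num [Nat.factorial]
  intro a ha
  rw [Subgroup.mem_center_iff]
  intro h
  have key : h⁻¹ * a * h = a := by
    refine hinj ((hN _ (cj h ⟨a, ha⟩).2).2.1.ext (hN a ha).2.1 fun j => ?_)
    have h1 := congrArg (fun p : Equiv.Perm (Set.range χ) => (p ⟨χ j, j, rfl⟩).1 ⟨a, ha⟩)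
      (hmin.hom_small_eq_one hsmall φ h)
    exact h1
  calc h * a = h * (h⁻¹ * a * h) := by rw [key]
    _ = a * h := by group

/-- A normal diagonal 5-subgroup is central. -/
theorem toral_central {N : Subgroup H} [N.Normal] (hN : ∀ a ∈ N, f a ∈ Ds K 5) : N ≤ Subgroup.center H := by
  classical
  by_cases hr : Rigid (f '' (N : Set H))
  · refine central_of_seven hmin h7 fun n a hn => seven_commute hζ hF hinj himg hN hr hn fun t ht => ?_
    exact Subgroup.Normal.conj_mem inferInstance t ht n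
  simp only [Rigid, not_forall] at hr
  obtain ⟨g, σ, hg, hσ, ⟨e, he⟩, hcomm, hne⟩ := hr
  refine central_of_few hinj hmin hbig hN ?_
  have hinv : ∀ x, (fun a : N => dg (f a) (σ x)) = fun a : N => dg (f a) x := fun x => funext fun a =>
    hg.conj_dg (hN a a.2).2.1 (hN a a.2).2.1 (hcomm _ ⟨a, a.2, rfl⟩) x
  have h := hσ.card_values he hne (fun j (a : N) => dg (f a) j) hinv
  rwa [← Set.ncard_coe_finset, Finset.coe_image, Finset.coe_univ, Set.image_univ] at h

omit hinj hmin h7 hbig in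
/-- A subgroup of exponent five commuting with a nondiagonal element is small on the diagonal. -/
theorem card_inf_le {T : Subgroup (GL I K)} (hT : ∀ t ∈ T, t ^ 5 = 1) {g : GL I K} {σ : Equiv.Perm I} {e : ℕ}
    (hg : Mono g σ) (hσ : Pres σ) (he : σ ^ 5 ^ e = 1) (hne : σ ≠ 1) (hcomm : ∀ t ∈ T, g * t = t * g) :
    Nat.card ↥(T ⊓ Ds K 5) ≤ 625 :=
  card_fix_le hζ hF hσ he hne (fun t ht => ⟨(Subgroup.mem_inf.1 ht).2, hT t (Subgroup.mem_inf.1 ht).1⟩)
    fun t ht x => hg.conj_dg (Subgroup.mem_inf.1 ht).2.2.1 (Subgroup.mem_inf.1 ht).2.2.1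
      (hcomm t (Subgroup.mem_inf.1 ht).1) x

omit hζ hF hmin h7 hbig himg in
theorem card_exp_le (n : ℕ) (hn : n ≤ 5 ^ 5) {p : ℕ} (hp : ∃ k, p = 5 ^ k) (h : p ≤ n) :
    ∃ k ≤ 5, p = 5 ^ k := by
  obtain ⟨k, rfl⟩ := hp
  exact ⟨k, (Nat.pow_le_pow_iff_right (by norm_num)).1 (h.trans hn), rfl⟩

/-- An abelian normal 5-subgroup inside `Semi`. -/
theorem abelian_central {S : Subgroup (GL I K)} (hS : Semi S) {N : Subgroup H} [hN : N.Normal]
    (hNS : ∀ a ∈ N, f a ∈ S) (hab : ∀ a ∈ N, ∀ b ∈ N, a * b = b * a) : N ≤ Subgroup.center H := by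
  by_cases hD : ∀ a ∈ N, f a ∈ Ds K 5
  · exact toral_central hζ hF hinj himg hmin h7 hbig hD
  push Not at hD
  obtain ⟨w, hw, hwD⟩ := hD
  obtain ⟨σ, hσm, hσp, hσne, e, he⟩ := hS.mono (f w) (hNS w hw) hwD
  let N5 : Subgroup H :=
    { carrier := {a | a ∈ N ∧ a ^ 5 = 1}
      one_mem' := ⟨one_mem _, one_pow _⟩
      mul_mem' := fun {a b} ha hb => ⟨mul_mem ha.1 hb.1, by
        rw [(show Commute a b from hab a ha.1 b hb.1).mul_pow, ha.2, hb.2, one_mul]⟩
      inv_mem' := fun {a} ha => ⟨inv_mem ha.1, by rw [inv_pow, ha.2, inv_one]⟩ }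
  have hNp : IsPGroup 5 N := fun a => by
    obtain ⟨k, hk⟩ := hS.isP ⟨f a, hNS a a.2⟩
    exact ⟨k, Subtype.ext (hinj (by simpa using congrArg Subtype.val hk))⟩
  have hN5n : N5.Normal := ⟨fun a ha g => ⟨hN.conj_mem a ha.1 g, by
    rw [conj_pow, ha.2, mul_one, mul_inv_cancel]⟩⟩
  have hcard : Nat.card N5 ≤ 5 ^ 5 := by
    rw [← Subgroup.card_map_of_injective hinj]
    refine (hS.card _ ?_).trans ?_
    · rintro _ ⟨a, ha, rfl⟩
      exact hNS a ha.1
    refine le_trans (Nat.mul_le_mul_left 5 (card_inf_le hζ hF himg ?_ hσm hσp he hσne ?_)) (by norm_num)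
    · rintro _ ⟨a, ha, rfl⟩
      rw [← map_pow, ha.2, map_one]
    · rintro _ ⟨a, ha, rfl⟩
      rw [← map_mul, ← map_mul, hab w hw a ha.1]
  refine central_of_seven hmin h7 fun n a hn t ht => ?_
  have h7' : (MulAut.conjNormal n : MulAut N5) ^ 7 ^ a = 1 := by rw [← map_pow, hn, map_one]
  obtain ⟨k, hk5, hk⟩ := card_exp_le hinj (5 ^ 5) le_rfl
    ((IsPGroup.iff_card (p := 5)).1 (hNp.to_le (fun x hx => hx.1 : N5 ≤ N))) hcard
  have hfix := aut_fix_small hk hk5 h7'
  have hfix5 : ∀ z ∈ N, z ^ 5 = 1 → n * z = z * n := fun z hz hz5 => by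
    have := congrArg Subtype.val (DFunLike.congr_fun hfix ⟨z, hz, hz5⟩)
    rw [MulAut.conjNormal_apply, MulAut.one_apply] at this
    exact mul_inv_eq_iff_eq_mul.1 this
  have key : ∀ k : ℕ, ∀ z ∈ N, z ^ 5 ^ k = 1 → n * z = z * n := by
    intro k
    induction k with
    | zero => intro z _ hz; simp only [pow_zero, pow_one] at hz; simp [hz]
    | succ k ih =>
      intro z hz hzk
      have h1 : n * z ^ 5 = z ^ 5 * n := ih _ (pow_mem hz 5) (by rw [← pow_mul, ← pow_succ']; exact hzk)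
      set d := z⁻¹ * (n * z * n⁻¹) with hd
      have hdN : d ∈ N := mul_mem (inv_mem hz) (hN.conj_mem z hz n)
      have hd5 : d ^ 5 = 1 := by
        rw [(show Commute z⁻¹ (n * z * n⁻¹) from hab _ (inv_mem hz) _ (hN.conj_mem z hz n)).mul_pow, conj_pow, h1,
          mul_inv_cancel_right, inv_pow, inv_mul_cancel]
      have h2 := hfix5 d hdN hd5
      have h3 : ∀ i : ℕ, n ^ i * z * (n ^ i)⁻¹ = z * d ^ i := by
        intro i
        induction i with
        | zero => simp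
        | succ i ihi =>
          have h4 : n * d ^ i * n⁻¹ = d ^ i := by
            rw [← conj_pow, h2, mul_inv_cancel_right]
          calc n ^ (i + 1) * z * (n ^ (i + 1))⁻¹ = n * (n ^ i * z * (n ^ i)⁻¹) * n⁻¹ := by rw [pow_succ']; group
            _ = n * z * n⁻¹ * (n * d ^ i * n⁻¹) := by rw [ihi]; group
            _ = z * d ^ (i + 1) := by
              rw [h4, pow_succ', ← mul_assoc z d, show z * d = n * z * n⁻¹ by rw [hd, mul_inv_cancel_left]]
      have h4 := h3 (7 ^ a)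
      rw [hn, one_mul, inv_one, mul_one, left_eq_mul] at h4
      have hd1 : d = 1 := by
        have := Nat.dvd_gcd (orderOf_dvd_of_pow_eq_one h4) (orderOf_dvd_of_pow_eq_one hd5)
        rw [show Nat.gcd (7 ^ a) 5 = 1 from Nat.Coprime.pow_left a (by norm_num)] at this
        exact orderOf_eq_one_iff.1 (Nat.dvd_one.1 this)
      rw [hd, inv_mul_eq_one] at hd1
      exact (eq_mul_inv_iff_mul_eq.1 hd1).symm
  obtain ⟨k', hk'⟩ := hNp ⟨t, ht⟩
  exact key k' t ht (by simpa using congrArg Subtype.val hk')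

/-- A normal 5-subgroup is central. -/
theorem semi_central {S : Subgroup (GL I K)} (hS : Semi S) {Q : Subgroup H} [hQ : Q.Normal]
    (hQS : ∀ a ∈ Q, f a ∈ S) : Q ≤ Subgroup.center H := by
  classical
  by_cases hD : ∀ a ∈ Q, f a ∈ Ds K 5
  · exact toral_central hζ hF hinj himg hmin h7 hbig hD
  push Not at hD
  obtain ⟨w, hw, hwD⟩ := hD
  obtain ⟨σ, hσm, hσp, hσne, e, he⟩ := hS.mono (f w) (hQS w hw) hwD
  have hQp : IsPGroup 5 Q := fun a => by
    obtain ⟨k, hk⟩ := hS.isP ⟨f a, hQS a a.2⟩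
    exact ⟨k, Subtype.ext (hinj (by simpa using congrArg Subtype.val hk))⟩
  -- commutators
  have hcomm : ⁅Q, Q⁆ ≤ Subgroup.center H := by
    refine toral_central hζ hF hinj himg hmin h7 hbig fun a ha => ?_
    have : ⁅Q, Q⁆ ≤ (Ds K 5).comap f := Subgroup.commutator_le.2 fun x hx y hy => by
      show f ⁅x, y⁆ ∈ Ds K 5
      rw [commutatorElement_def, map_mul, map_mul, map_mul, map_inv, map_inv]
      exact hS.comm _ (hQS x hx) _ (hQS y hy)
    exact this ha
  -- the centre of `Q`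
  set Z := Q ⊓ Subgroup.centralizer (Q : Set H) with hZ
  have hZc : Z ≤ Subgroup.center H := by
    haveI : Z.Normal := Subgroup.normal_inf_normal _ _
    refine abelian_central hζ hF hinj himg hmin h7 hbig hS (fun a ha => hQS a (Subgroup.mem_inf.1 ha).1)
      fun a ha b hb => ?_
    exact (Subgroup.mem_centralizer_iff.1 (Subgroup.mem_inf.1 ha).2 b (Subgroup.mem_inf.1 hb).1).symm
  set Q0 := Q ⊓ (Ds K 5).comap f with hQ0
  have hc : ∀ x ∈ Q, ∀ y ∈ Q, x * y * x⁻¹ * y⁻¹ ∈ Subgroup.center H := fun x hx y hy =>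
    hcomm (by rw [← commutatorElement_def]; exact Subgroup.commutator_mem_commutator hx hy)
  let δ : Q0 →* H :=
    { toFun := fun x => (x : H) * w * (x : H)⁻¹ * w⁻¹
      map_one' := by simp
      map_mul' := fun x y => by
        have h1 := Subgroup.mem_center_iff.1 (hc (y : H) (Subgroup.mem_inf.1 y.2).1 w hw)
        show (x : H) * y * w * ((x : H) * y)⁻¹ * w⁻¹ =
          (x : H) * w * (x : H)⁻¹ * w⁻¹ * ((y : H) * w * (y : H)⁻¹ * w⁻¹)
        calc _ = (x : H) * ((y : H) * w * (y : H)⁻¹ * w⁻¹) * (w * (x : H)⁻¹ * w⁻¹) := by group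
          _ = ((y : H) * w * (y : H)⁻¹ * w⁻¹) * ((x : H) * (w * (x : H)⁻¹ * w⁻¹)) := by
            rw [h1 (x : H), mul_assoc]
          _ = _ := by rw [← h1]; group }
  have hδ : ∀ x : Q0, δ x ∈ Subgroup.center H ∧ δ x ^ 5 = 1 ∧ δ x ∈ Q ∧ f (δ x) ∈ Ds K 5 := by
    intro x
    have hx := (Subgroup.mem_inf.1 x.2).1
    have h1 := hc (x : H) hx w hw
    refine ⟨h1, ?_, mul_mem (mul_mem (mul_mem hx hw) (inv_mem hx)) (inv_mem hw), ?_⟩
    · show ((x : H) * w * (x : H)⁻¹ * w⁻¹) ^ 5 = 1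
      set c := (x : H) * w * (x : H)⁻¹ * w⁻¹ with hcdef
      have h2 : (x : H) * w * (x : H)⁻¹ = c * w := by rw [hcdef, inv_mul_cancel_right]
      have h3 : (x : H) * w ^ 5 * (x : H)⁻¹ = w ^ 5 := by
        refine hinj ?_
        have : f (x : H) * f (w ^ 5) = f (w ^ 5) * f (x : H) := by
          rw [map_pow]
          exact (Subgroup.mem_inf.1 x.2).2.2.1.comm (hS.pow _ (hQS w hw)).2.1
        rw [map_mul, map_mul, map_inv, this, mul_inv_cancel_right]
      rw [← conj_pow, h2, (show Commute c w from (Subgroup.mem_center_iff.1 h1 w).symm).mul_pow] at h3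
      exact mul_eq_right.1 h3
    · show f ((x : H) * w * (x : H)⁻¹ * w⁻¹) ∈ Ds K 5
      rw [map_mul, map_mul, map_mul, map_inv, map_inv]
      exact hS.comm _ (hQS _ hx) _ (hQS w hw)
  have hrange : Nat.card δ.range ≤ 625 := by
    rw [← Subgroup.card_map_of_injective hinj]
    have hle : δ.range.map f ≤ Ds K 5 := by
      rintro _ ⟨_, ⟨x, rfl⟩, rfl⟩
      exact (hδ x).2.2.2
    rw [← inf_of_le_left hle]
    refine card_inf_le hζ hF himg ?_ hσm hσp he hσne ?_
    · rintro _ ⟨_, ⟨x, rfl⟩, rfl⟩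
      rw [← map_pow, (hδ x).2.1, map_one]
    · rintro _ ⟨_, ⟨x, rfl⟩, rfl⟩
      rw [← map_mul, ← map_mul, Subgroup.mem_center_iff.1 (hδ x).1 w]
  have hQQ0 : Nat.card Q ≤ 5 * Nat.card Q0 := by
    rw [← Subgroup.card_map_of_injective hinj]
    refine (hS.card _ ?_).trans (Nat.mul_le_mul_left 5 ?_)
    · rintro _ ⟨a, ha, rfl⟩
      exact hQS a ha
    rw [← Subgroup.card_map_of_injective (K := Q0) hinj]
    refine Subgroup.card_le_of_le ?_
    rintro z hz
    obtain ⟨⟨a, ha, rfl⟩, hzD⟩ := Subgroup.mem_inf.1 hz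
    exact ⟨a, Subgroup.mem_inf.2 ⟨ha, hzD⟩, rfl⟩
  have hkerZ : δ.ker.map Q0.subtype ≤ Z := by
    rintro _ ⟨x, hx, rfl⟩
    have hxQ := (Subgroup.mem_inf.1 x.2).1
    refine Subgroup.mem_inf.2 ⟨hxQ, Subgroup.mem_centralizer_iff.2 ?_⟩
    set C := Q ⊓ Subgroup.centralizer ({(x : H)} : Set H) with hC
    have h0 : Q0 ≤ C := fun y hy => Subgroup.mem_inf.2 ⟨(Subgroup.mem_inf.1 hy).1,
      Subgroup.mem_centralizer_singleton_iff.2 (hinj (by
        rw [map_mul, map_mul]
        exact (Subgroup.mem_inf.1 hy).2.2.1.comm (Subgroup.mem_inf.1 x.2).2.2.1))⟩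
    have hwC : w ∈ C := Subgroup.mem_inf.2 ⟨hw, Subgroup.mem_centralizer_singleton_iff.2 (by
      have hx' : (x : H) * w * (x : H)⁻¹ * w⁻¹ = 1 := hx
      rw [mul_inv_eq_one, mul_inv_eq_iff_eq_mul] at hx'
      exact hx'.symm)⟩
    have hlt : Nat.card Q0 < Nat.card C := Set.ncard_lt_ncard (s := (Q0 : Set H)) (t := (C : Set H))
      ⟨h0, fun h => hwD (Subgroup.mem_inf.1 (h hwC)).2⟩
    have hCQ : C = Q := by
      refine Subgroup.eq_of_le_of_card_ge inf_le_left ?_
      obtain ⟨i, hi⟩ := (IsPGroup.iff_card (p := 5)).1 (hQp.to_le (h0.trans inf_le_left))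
      obtain ⟨j, hj⟩ := (IsPGroup.iff_card (p := 5)).1 (hQp.to_le (inf_le_left : C ≤ Q))
      refine hQQ0.trans ?_
      rw [hi, hj] at hlt ⊢
      rw [← pow_succ']
      exact Nat.pow_le_pow_right (by norm_num) ((Nat.pow_lt_pow_iff_right (by norm_num)).1 hlt)
    intro y hy
    have := Subgroup.mem_inf.1 (show y ∈ C by rw [hCQ]; exact hy)
    exact Subgroup.mem_centralizer_singleton_iff.1 this.2
  have hindex : (Z.subgroupOf Q).index ≤ 5 ^ 5 := by
    have h1 : Nat.card Q = Nat.card (Z.subgroupOf Q) * (Z.subgroupOf Q).index := (Subgroup.card_mul_index _).symm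
    have h2 : Nat.card Q0 = Nat.card δ.ker * Nat.card δ.range := by
      rw [← δ.ker.card_mul_index, Subgroup.index_ker]
    have h3 : Nat.card δ.ker ≤ Nat.card (Z.subgroupOf Q) := by
      rw [Nat.card_congr (Subgroup.subgroupOfEquivOfLe (inf_le_left : Z ≤ Q)).toEquiv,
        ← Subgroup.card_map_of_injective Q0.subtype_injective]
      exact Subgroup.card_le_of_le hkerZ
    refine Nat.le_of_mul_le_mul_left ?_ (Nat.card_pos (α := Z.subgroupOf Q))
    rw [← h1]
    calc Nat.card Q ≤ 5 * (Nat.card δ.ker * Nat.card δ.range) := h2 ▸ hQQ0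
      _ ≤ 5 * (Nat.card (Z.subgroupOf Q) * 625) := Nat.mul_le_mul_left _ (Nat.mul_le_mul h3 hrange)
      _ = _ := by ring
  refine central_of_seven hmin h7 fun n a hn t ht => ?_
  set Z' := Z.subgroupOf Q with hZ'
  set α : MulAut Q := MulAut.conjNormal n with hα
  have hα7 : α ^ 7 ^ a = 1 := by rw [hα, ← map_pow, hn, map_one]
  have hfixZ : ∀ z ∈ Z', α z = z := fun z hz => Subtype.ext (by
    rw [hα, MulAut.conjNormal_apply, Subgroup.mem_center_iff.1 (hZc (Subgroup.mem_subgroupOf.1 hz)) n, mul_inv_cancel_right])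
  haveI : Z'.Normal := ⟨fun z hz g => by
    have e : g * z * g⁻¹ = z := Subtype.ext (by
      show (g : H) * z * (g : H)⁻¹ = z
      rw [Subgroup.mem_center_iff.1 (hZc (Subgroup.mem_subgroupOf.1 hz)) g, mul_inv_cancel_right])
    rwa [e]⟩
  have hmap : Z'.map (α : Q ≃* Q).toMonoidHom = Z' := by
    ext z
    exact ⟨by rintro ⟨y, hy, rfl⟩; exact (hfixZ y hy).symm ▸ hy, fun hz => ⟨z, hz, hfixZ z hz⟩⟩
  let β : MulAut (Q ⧸ Z') := QuotientGroup.congr Z' Z' α hmap
  have hβ : ∀ i : ℕ, ∀ y : Q, (β ^ i) (QuotientGroup.mk y) = QuotientGroup.mk ((α ^ i) y) := fun i => by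
    induction i with
    | zero => intro y; simp
    | succ i ih => intro y; rw [pow_succ', pow_succ', MulAut.mul_apply, MulAut.mul_apply, ih]; rfl
  have hβ7 : β ^ 7 ^ a = 1 := MulEquiv.ext fun y => QuotientGroup.induction_on y fun y => by
    rw [hβ, hα7]
    rfl
  obtain ⟨k, hk5, hk⟩ := card_exp_le hinj (5 ^ 5) le_rfl ((IsPGroup.iff_card (p := 5)).1 (hQp.to_quotient Z'))
    hindex
  have hfix := aut_fix_small hk hk5 hβ7
  have h1 : α = 1 := aut_fix_of_quot hQp hα7 hfixZ fun y => by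
    rw [← QuotientGroup.eq]
    have := DFunLike.congr_fun hfix (QuotientGroup.mk y)
    exact this.symm
  have h2 := congrArg Subtype.val (DFunLike.congr_fun h1 ⟨t, ht⟩)
  rw [hα, MulAut.conjNormal_apply, MulAut.one_apply] at h2
  exact mul_inv_eq_iff_eq_mul.1 h2

/-- The Sylow 5-subgroup of the kernel is central. -/
theorem Q_central {Q : Subgroup H} [Q.Normal] (hQ : IsPGroup 5 Q) : Q ≤ Subgroup.center H := by
  obtain ⟨x, hx, S, hS, hxQ⟩ := exists_semi hζ hF (hQ.map f) (by rintro _ ⟨a, -, rfl⟩; exact himg a)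
  exact semi_central (f := (MulAut.conj x).toMonoidHom.comp f) hζ hF ((MulAut.conj x).injective.comp hinj)
    (fun h => mul_mem (mul_mem hx (himg h)) (inv_mem hx)) hmin h7 hbig hS fun a ha => hxQ _ ⟨a, ha, rfl⟩

end Cfsg.Agent.AltE6
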