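/-
A lift of a five-cycle in a minimal cover of the alternating group of degree twelve is diagonalisable.

* `exists_boot` : the diagonal 5-subgroup over a five-cycle;
* `exists_centralizing_cover` : covers of the subgroup on seven points centralising it.
-/
import Cfsg.Agent.Lib.AltE6.Kernel
import Cfsg.Agent.Lib.AltE6.Alt12

set_option autoImplicit false

namespace Cfsg.Agent.AltE6

open Cfsg.Agent.E6Cubic Matrix

attribute [local instance] fact_five

section groups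

variable {H A : Type} [Group H] [Group A] (π : H →* A)

theorem zpowers_isP {p : ℕ} {x : A} (hx : x ^ p = 1) : IsPGroup p (Subgroup.zpowers x) := by
  rintro ⟨_, i, rfl⟩
  refine ⟨1, Subtype.ext ?_⟩
  show (x ^ i) ^ p ^ 1 = 1
  rw [pow_one, ← zpow_natCast, ← _root_.zpow_mul, mul_comm, _root_.zpow_mul, zpow_natCast, hx, _root_.one_zpow]

theorem le_normalizer_of_commute {X Y : Subgroup H} (h : ∀ x ∈ X, ∀ y ∈ Y, x * y = y * x) :
    X ≤ Subgroup.normalizer (Y : Set H) := by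
  intro x hx
  rw [Subgroup.mem_normalizer_iff]
  intro y
  constructor
  · intro hy
    rwa [h x hx y hy, mul_inv_cancel_right]
  · intro hy
    have h1 := h x hx _ hy
    have h2 : x * y * x⁻¹ = y := mul_left_cancel (a := x) (h1.trans (inv_mul_cancel_right (x * y) x))
    rwa [h2] at hy

variable {Q X : Subgroup H} {p : ℕ}

theorem ker_mem (hX : IsPGroup p X) (hQ : ∀ R : Subgroup H, IsPGroup p R → R ≤ π.ker → R ≤ Q) :
    ∀ t ∈ X, π t = 1 → t ∈ Q := fun _ ht h1 =>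
  hQ (X ⊓ π.ker) (hX.to_le inf_le_left) inf_le_right (Subgroup.mem_inf.2 ⟨ht, MonoidHom.mem_ker.2 h1⟩)

theorem abelian_of_cyclic (hQc : Q ≤ Subgroup.center H) (hX : IsPGroup p X)
    (hQ : ∀ R : Subgroup H, IsPGroup p R → R ≤ π.ker → R ≤ Q) {x : A} (hmap : X.map π = Subgroup.zpowers x) :
    ∀ a ∈ X, ∀ b ∈ X, a * b = b * a := by
  obtain ⟨v, hv, hvx⟩ := hmap.ge (Subgroup.mem_zpowers x)
  have hdec : ∀ t ∈ X, ∃ i : ℤ, ∃ q ∈ Q, t = v ^ i * q := fun t ht => by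
    obtain ⟨i, hi⟩ := Subgroup.mem_zpowers_iff.1 (hmap.le ⟨t, ht, rfl⟩)
    refine ⟨i, (v ^ i)⁻¹ * t, ker_mem π hX hQ _ (mul_mem (inv_mem (zpow_mem hv i)) ht) ?_,
      (mul_inv_cancel_left _ _).symm⟩
    rw [map_mul, map_inv, map_zpow, hvx, hi, inv_mul_cancel]
  intro a ha b hb
  obtain ⟨i, q, hq, rfl⟩ := hdec a ha
  obtain ⟨j, r, hr, rfl⟩ := hdec b hb
  have c1 : ∀ g, g * q = q * g := Subgroup.mem_center_iff.1 (hQc hq)
  have c2 : ∀ g, g * r = r * g := Subgroup.mem_center_iff.1 (hQc hr)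
  calc v ^ i * q * (v ^ j * r) = v ^ i * (v ^ j * r) * q := by rw [mul_assoc, ← c1, ← mul_assoc]
    _ = v ^ j * (v ^ i * r) * q := by rw [← mul_assoc, ← _root_.zpow_add, add_comm, _root_.zpow_add, mul_assoc (v ^ j)]
    _ = v ^ j * r * (v ^ i * q) := by rw [c2 (v ^ i)]; group

end groups

variable {K : Type} [Field K] [Finite K] {ζ : Kˣ} (hζ : orderOf ζ = 5) (hF : ∃ a : K, a ≠ 0 ∧ a ≠ 1)
variable {H : Type} [Group H] [Finite H] {π : H →* A12} (hmin : MinCover π)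
variable {f : H →* GL I K} (hinj : Function.Injective f) (himg : ∀ h, f h ∈ img K)
include hζ hF hinj himg

omit himg in
theorem rigid_image {X : Subgroup H} (hX : ∀ a ∈ X, f a ∈ Ds K 5) {u g : H} (hu : u ∈ X) (hu5 : u ^ 5 = 1)
    (hu1 : u ≠ 1) (hgu : g * u * g⁻¹ = u ^ 2) : Rigid (f '' (X : Set H)) := by
  refine rigid_of_rational hζ hF (hX u hu) (by rw [← map_pow, hu5, map_one]) (fun h => hu1 (hinj ?_))
    (g₀ := f g) (by rw [← map_inv, ← map_mul, ← map_mul, hgu, map_pow]) ⟨u, hu, rfl⟩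
  rw [h, map_one]

/-- A 5-group commuting with a rational diagonal element can be made diagonal. -/
theorem conj_of_commute {W : Subgroup H} (hW : IsPGroup 5 W) {u g : H} (hu : f u ∈ Ds K 5) (hu5 : u ^ 5 = 1)
    (hu1 : u ≠ 1) (hgu : g * u * g⁻¹ = u ^ 2) (hWu : ∀ a ∈ W, a * u = u * a) :
    ∃ z ∈ img K, ∀ a ∈ W, z * f a * z⁻¹ ∈ Ds K 5 := by
  have hr : Rigid ({f u} : Set (GL I K)) := by
    refine rigid_of_rational hζ hF hu (by rw [← map_pow, hu5, map_one]) (fun h => hu1 (hinj ?_))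
      (g₀ := f g) (by rw [← map_inv, ← map_mul, ← map_mul, hgu, map_pow]) (Set.mem_singleton _)
    rw [h, map_one]
  set C := img K ⊓ Subgroup.centralizer ({f u} : Set (GL I K)) with hC
  obtain ⟨z, hz, hzW⟩ := exists_conj_Ds hF le_rfl hζ (C := C) inf_le_left
    (fun d hd => Subgroup.mem_inf.2 ⟨hd.1, Subgroup.mem_centralizer_singleton_iff.2 (hd.2.1.comm hu.2.1)⟩)
    (fun g hg σ hm hσ he => hr g σ hm hσ he fun a ha => by
      rw [Set.mem_singleton_iff] at ha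
      subst ha
      exact Subgroup.mem_centralizer_singleton_iff.1 (Subgroup.mem_inf.1 hg).2)
    (hW.map f) (by
      rintro _ ⟨a, ha, rfl⟩
      refine Subgroup.mem_inf.2 ⟨himg a, Subgroup.mem_centralizer_singleton_iff.2 ?_⟩
      rw [← map_mul, ← map_mul, hWu a ha])
  exact ⟨z, (Subgroup.mem_inf.1 hz).1, fun a ha => hzW _ ⟨a, ha, rfl⟩⟩

include hmin

/-- Covers of a simple group centralising `x` inside the centraliser of a diagonal lift of `x`. -/
theorem exists_centralizing_cover {Q X : Subgroup H}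
    (hQmax : ∀ R : Subgroup H, IsPGroup 5 R → R ≤ π.ker → R ≤ Q) (hQX : Q ≤ X) (hXp : IsPGroup 5 X) {x : A12}
    (hmap : X.map π = Subgroup.zpowers x) (hX : ∀ a ∈ X, f a ∈ Ds K 5) {u g : H} (hu : u ∈ X) (hu5 : u ^ 5 = 1)
    (hu1 : u ≠ 1) (hgu : g * u * g⁻¹ = u ^ 2) {T : Subgroup A12} [IsSimpleGroup T] (h7 : 7 ∣ Nat.card T)
    (hT : ∀ σ ∈ T, σ * x = x * σ) :
    ∃ (L : Subgroup H) (ψ : L →* T), L ≤ Subgroup.centralizer (X : Set H) ∧ MinCover ψ ∧
      ∀ y : L, (ψ y : A12) = π y := by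
  haveI : Fact (Nat.Prime 7) := ⟨by norm_num⟩
  have hr := rigid_image hζ hF hinj hX hu hu5 hu1 hgu
  obtain ⟨L, ψ, hLN, hψ, hval⟩ := exists_cover π (Subgroup.normalizer (X : Set H)) (T := T) fun σ hσ => by
    obtain ⟨g₁, -, hg₁, hg₁X⟩ := exists_norm_lift π (N := ⊤) hQmax hQX le_top hXp
      (a := σ) (by rw [Subgroup.map_top_of_surjective π hmin.surj]; exact Subgroup.mem_top _) (by
      intro e he
      rw [hmap] at he ⊢
      obtain ⟨i, rfl⟩ := Subgroup.mem_zpowers_iff.1 he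
      rw [(show Commute σ x from hT σ hσ).zpow_right i, mul_inv_cancel_right]
      exact zpow_mem (Subgroup.mem_zpowers x) i)
    refine ⟨g₁, Subgroup.mem_normalizer_iff.2 fun t => ⟨hg₁X t, fun ht => ?_⟩, hg₁⟩
    let c : X → X := fun t => ⟨_, hg₁X t t.2⟩
    have hc : Function.Surjective c := Finite.injective_iff_surjective.1 fun a b e =>
      Subtype.ext (mul_left_cancel (mul_right_cancel (congrArg Subtype.val e :)))
    obtain ⟨t', ht'⟩ := hc ⟨_, ht⟩
    rw [← mul_left_cancel (mul_right_cancel (congrArg Subtype.val ht' :))]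
    exact t'.2
  refine ⟨L, ψ, ?_, hψ, hval⟩
  have hle : Subgroup.closure {y : L | ∃ e : ℕ, y ^ 7 ^ e = 1} ≤
      (Subgroup.centralizer (X : Set H)).subgroupOf L := by
    rw [Subgroup.closure_le]
    rintro y ⟨e, he⟩
    refine Subgroup.mem_subgroupOf.2 (Subgroup.mem_centralizer_iff.2 fun t ht => ?_)
    have he' : (y : H) ^ 7 ^ e = 1 := by
      have := congrArg Subtype.val he
      simpa using this
    exact (seven_commute hζ hF hinj himg hX hr he'
      (fun s hs => (Subgroup.mem_normalizer_iff.1 (hLN y.2) s).1 hs) t ht).symm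
  rw [hψ.closure_top h7] at hle
  exact fun y hy => Subgroup.mem_subgroupOf.1 (hle (Subgroup.mem_top ⟨y, hy⟩))

omit hinj himg hζ hF hmin in
theorem y5_not_mem : y5 ∉ Subgroup.zpowers x5 := by
  intro h
  have h1 : xP * hP = hP * xP := by decide +kernel
  obtain ⟨i, hi⟩ := Subgroup.mem_zpowers_iff.1 h
  have h2 : Commute gy y5 := by
    rw [← hi]
    exact Commute.zpow_right (show Commute gy x5 from Subtype.ext h1.symm) i
  have h3 := alt_facts.2.2.2.2.2.2.1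
  rw [h2.eq, mul_inv_cancel_right] at h3
  have h4 : y5 = 1 := by
    rw [pow_two] at h3
    exact (left_eq_mul.1 h3)
  exact alt_facts.2.2.2.1 h4

/-- A diagonal 5-group over the first five-cycle with a rational element. -/
theorem exists_boot {Q : Subgroup H} [Q.Normal] (hQp : IsPGroup 5 Q) (hQk : Q ≤ π.ker)
    (hQmax : ∀ R : Subgroup H, IsPGroup 5 R → R ≤ π.ker → R ≤ Q) (hQc : Q ≤ Subgroup.center H) :
    ∃ z ∈ img K, ∃ (X : Subgroup H) (u g : H), Q ≤ X ∧ IsPGroup 5 X ∧ X.map π = Subgroup.zpowers x5 ∧ u ∈ X ∧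
      u ^ 5 = 1 ∧ u ≠ 1 ∧ g * u * g⁻¹ = u ^ 2 ∧ ∀ a ∈ X, z * f a * z⁻¹ ∈ Ds K 5 := by
  obtain ⟨hx5, hy5, hx1, hy1, hxy, hgx, hgy, hgxy, hgyx, hsx, hsy⟩ := alt_facts
  set E := Subgroup.zpowers x5 ⊔ Subgroup.zpowers y5 with hE
  have hEp : IsPGroup 5 E := (zpowers_isP hx5).to_sup_of_normal_right' (zpowers_isP hy5)
    (le_normalizer_of_commute fun a ha b hb => by
      obtain ⟨i, rfl⟩ := Subgroup.mem_zpowers_iff.1 ha
      obtain ⟨j, rfl⟩ := Subgroup.mem_zpowers_iff.1 hb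
      exact ((show Commute x5 y5 from hxy).zpow_left i).zpow_right j)
  obtain ⟨P, -, hQP, hPp, hPmap⟩ := exists_over π (N := ⊤) hQp hQk le_top hEp
    (by rw [Subgroup.map_top_of_surjective π hmin.surj]; exact le_top)
  obtain ⟨v, hv, hvx⟩ := hPmap.ge (Subgroup.mem_sup_left (Subgroup.mem_zpowers x5))
  obtain ⟨v', hv', hvy⟩ := hPmap.ge (Subgroup.mem_sup_right (Subgroup.mem_zpowers y5))
  have hker := ker_mem π hPp hQmax
  have hconjE : ∀ a : A12, a * x5 * a⁻¹ ∈ E → a * y5 * a⁻¹ ∈ E → ∀ e ∈ E, a * e * a⁻¹ ∈ E := by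
    intro a h1 h2 e he
    have hle : E ≤ E.comap (MulAut.conj a).toMonoidHom := sup_le (Subgroup.zpowers_le.2 h1) (Subgroup.zpowers_le.2 h2)
    exact hle he
  -- the commutator of the two lifts
  set c := v * v' * v⁻¹ * v'⁻¹ with hcdef
  have hcP : c ∈ P := mul_mem (mul_mem (mul_mem hv hv') (inv_mem hv)) (inv_mem hv')
  have hcQ : c ∈ Q := hker c hcP (by rw [hcdef, map_mul, map_mul, map_mul, map_inv, map_inv, hvx, hvy, hxy]; group)
  have hc1 : c = 1 := by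
    obtain ⟨g, -, hg, hgP⟩ := exists_norm_lift π (N := ⊤) hQmax hQP le_top hPp
      (a := sxy) (by rw [Subgroup.map_top_of_surjective π hmin.surj]; exact Subgroup.mem_top _) (by
      rw [hPmap]
      exact hconjE _ (by rw [hsx]; exact Subgroup.mem_sup_right (Subgroup.mem_zpowers _))
        (by rw [hsy]; exact Subgroup.mem_sup_left (Subgroup.mem_zpowers _)))
    have e1 : ∃ q ∈ Q, g * v * g⁻¹ = v' * q :=
      ⟨v'⁻¹ * (g * v * g⁻¹), hker _ (mul_mem (inv_mem hv') (hgP v hv))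
        (by rw [map_mul, map_inv, map_mul, map_mul, map_inv, hg, hvx, hvy, hsx, inv_mul_cancel]),
        (mul_inv_cancel_left _ _).symm⟩
    have e2 : ∃ q ∈ Q, g * v' * g⁻¹ = v * q :=
      ⟨v⁻¹ * (g * v' * g⁻¹), hker _ (mul_mem (inv_mem hv) (hgP v' hv'))
        (by rw [map_mul, map_inv, map_mul, map_mul, map_inv, hg, hvx, hvy, hsy, inv_mul_cancel]),
        (mul_inv_cancel_left _ _).symm⟩
    obtain ⟨q, hq, e1⟩ := e1
    obtain ⟨r, hr, e2⟩ := e2
    have cq : ∀ y, y * q = q * y := Subgroup.mem_center_iff.1 (hQc hq)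
    have cr : ∀ y, y * r = r * y := Subgroup.mem_center_iff.1 (hQc hr)
    have h2 : g * c * g⁻¹ = c⁻¹ := by
      have h3 : g * c * g⁻¹ = (g * v * g⁻¹) * (g * v' * g⁻¹) * (g * v * g⁻¹)⁻¹ * (g * v' * g⁻¹)⁻¹ := by
        rw [hcdef]; group
      rw [h3, e1, e2, _root_.mul_inv_rev, _root_.mul_inv_rev, hcdef]
      calc v' * q * (v * r) * (q⁻¹ * v'⁻¹) * (r⁻¹ * v⁻¹)
          = v' * (q * v) * (r * q⁻¹) * v'⁻¹ * r⁻¹ * v⁻¹ := by group
        _ = v' * (v * q) * (q⁻¹ * r) * v'⁻¹ * r⁻¹ * v⁻¹ := by rw [← cq v, ← cr q⁻¹]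
        _ = v' * v * (r * v'⁻¹) * r⁻¹ * v⁻¹ := by group
        _ = v' * v * (v'⁻¹ * r) * r⁻¹ * v⁻¹ := by rw [← cr v'⁻¹]
        _ = _ := by group
    have h4 : c ^ 2 = 1 := by
      rw [Subgroup.mem_center_iff.1 (hQc hcQ) g, mul_inv_cancel_right] at h2
      rw [pow_two]
      nth_rewrite 2 [h2]
      rw [mul_inv_cancel]
    obtain ⟨k, hk⟩ := hQp ⟨c, hcQ⟩
    have hk' : c ^ 5 ^ k = 1 := by
      have := congrArg Subtype.val hk
      simpa using this
    have := Nat.dvd_gcd (orderOf_dvd_of_pow_eq_one h4) (orderOf_dvd_of_pow_eq_one hk')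
    rw [show Nat.gcd 2 (5 ^ k) = 1 from Nat.Coprime.pow_right k (by norm_num)] at this
    exact orderOf_eq_one_iff.1 (Nat.dvd_one.1 this)
  have hvv' : v * v' = v' * v := by
    rw [hcdef, mul_inv_eq_one, mul_inv_eq_iff_eq_mul] at hc1
    exact hc1
  -- `P` is abelian
  have hPab : ∀ a ∈ P, ∀ b ∈ P, a * b = b * a := by
    set W := Subgroup.zpowers v ⊔ Subgroup.zpowers v' ⊔ Q with hW
    have hPW : P ≤ W := fun t ht => by
      have h1 : π t ∈ (Subgroup.zpowers v ⊔ Subgroup.zpowers v').map π := by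
        rw [Subgroup.map_sup, MonoidHom.map_zpowers, MonoidHom.map_zpowers, hvx, hvy]
        exact hPmap.le ⟨t, ht, rfl⟩
      obtain ⟨w, hw, e⟩ := h1
      have hwP : w ∈ P := sup_le (Subgroup.zpowers_le.2 hv) (Subgroup.zpowers_le.2 hv') hw
      rw [← mul_inv_cancel_left w t]
      exact mul_mem (Subgroup.mem_sup_left hw) (Subgroup.mem_sup_right (hker _ (mul_mem (inv_mem hwP) ht)
        (by rw [map_mul, map_inv, e, inv_mul_cancel])))
    have hone : ∀ w, (v * w = w * v) → (v' * w = w * v') → W ≤ Subgroup.centralizer ({w} : Set H) := fun w h1 h2 =>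
      sup_le (sup_le (Subgroup.zpowers_le.2 (Subgroup.mem_centralizer_singleton_iff.2 h1))
        (Subgroup.zpowers_le.2 (Subgroup.mem_centralizer_singleton_iff.2 h2))) fun q hq =>
        Subgroup.mem_centralizer_singleton_iff.2 (Subgroup.mem_center_iff.1 (hQc hq) w).symm
    intro a ha b hb
    have h2 : ∀ w, (v * w = w * v) → (v' * w = w * v') → ∀ y ∈ W, y * w = w * y := fun w h1 h2 y hy =>
      Subgroup.mem_centralizer_singleton_iff.1 (hone w h1 h2 hy)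
    exact h2 b ((h2 v rfl hvv'.symm b (hPW hb)).symm) ((h2 v' hvv' rfl b (hPW hb)).symm) a (hPW ha)
  -- rational lifts of the two cycles
  have hγx : gx * gy * x5 * (gx * gy)⁻¹ = x5 ^ 2 := by
    rw [_root_.mul_inv_rev, show gx * gy * x5 * (gy⁻¹ * gx⁻¹) = gx * (gy * x5 * gy⁻¹) * gx⁻¹ by group, hgyx, hgx]
  have hγy : gx * gy * y5 * (gx * gy)⁻¹ = y5 ^ 2 := by
    rw [_root_.mul_inv_rev, show gx * gy * y5 * (gy⁻¹ * gx⁻¹) = gx * (gy * y5 * gy⁻¹) * gx⁻¹ by group, hgy, ← conj_pow,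
      hgxy]
  obtain ⟨γ, -, hγ, hγP⟩ := exists_norm_lift π (N := ⊤) hQmax hQP le_top hPp (a := gx * gy)
    (by rw [Subgroup.map_top_of_surjective π hmin.surj]; exact Subgroup.mem_top _) (by
      rw [hPmap]
      exact hconjE _ (by rw [hγx]; exact Subgroup.mem_sup_left (pow_mem (Subgroup.mem_zpowers _) 2))
        (by rw [hγy]; exact Subgroup.mem_sup_right (pow_mem (Subgroup.mem_zpowers _) 2)))
  have hγQ : ∀ q ∈ Q, γ * q = q * γ := fun q hq => Subgroup.mem_center_iff.1 (hQc hq) γ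
  obtain ⟨ux, hux, huxπ, hux2, hux5⟩ := rational_lift π hPab hker hγP hγQ hQP hv
    (by rw [hγ, hvx]; exact hγx) (by rw [hvx]; exact hx5)
  obtain ⟨uy, huy, huyπ, huy2, huy5⟩ := rational_lift π hPab hker hγP hγQ hQP hv'
    (by rw [hγ, hvy]; exact hγy) (by rw [hvy]; exact hy5)
  rw [hvx] at huxπ
  rw [hvy] at huyπ
  -- a rational diagonal element
  obtain ⟨z₁, hz₁, S, hS, hPS⟩ := exists_semi hζ hF (hPp.map f) (by rintro _ ⟨a, -, rfl⟩; exact himg a)
  set f₁ := (MulAut.conj z₁).toMonoidHom.comp f with hf₁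
  have hinj₁ : Function.Injective f₁ := (MulAut.conj z₁).injective.comp hinj
  have himg₁ : ∀ h, f₁ h ∈ img K := fun h => mul_mem (mul_mem hz₁ (himg h)) (inv_mem hz₁)
  let R : Subgroup H :=
    { carrier := {a | a ∈ P ∧ a ^ 5 = 1 ∧ γ * a * γ⁻¹ = a ^ 2}
      one_mem' := ⟨one_mem _, one_pow _, by group⟩
      mul_mem' := fun {a b} ha hb => ⟨mul_mem ha.1 hb.1, by
        rw [(show Commute a b from hPab a ha.1 b hb.1).mul_pow, ha.2.1, hb.2.1, one_mul], by
        rw [(show Commute a b from hPab a ha.1 b hb.1).mul_pow, ← ha.2.2, ← hb.2.2]; group⟩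
      inv_mem' := fun {a} ha => ⟨inv_mem ha.1, by rw [inv_pow, ha.2.1, inv_one], by
        rw [inv_pow, ← ha.2.2]; group⟩ }
  have hER : E ≤ R.map π := sup_le (Subgroup.zpowers_le.2 ⟨ux, ⟨hux, hux5, hux2⟩, huxπ⟩)
    (Subgroup.zpowers_le.2 ⟨uy, ⟨huy, huy5, huy2⟩, huyπ⟩)
  have h25 : 25 ≤ Nat.card R := by
    have h1 : Nat.card E ≤ Nat.card R :=
      (Subgroup.card_le_of_le hER).trans (Nat.le_of_dvd Nat.card_pos (R.card_map_dvd π))
    obtain ⟨k, hk⟩ := (IsPGroup.iff_card (p := 5)).1 hEp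
    have h5 : Nat.card (Subgroup.zpowers x5) = 5 := by
      rw [Nat.card_zpowers]
      exact orderOf_eq_prime hx5 hx1
    have hlt : Nat.card (Subgroup.zpowers x5) < Nat.card E := Set.ncard_lt_ncard
      (s := (Subgroup.zpowers x5 : Set A12)) (t := (E : Set A12))
      ⟨(le_sup_left : Subgroup.zpowers x5 ≤ E), fun h => y5_not_mem (h (Subgroup.mem_sup_right (Subgroup.mem_zpowers y5)))⟩
    rw [h5, hk] at hlt
    have : 1 < k := (Nat.pow_lt_pow_iff_right (a := 5) (by norm_num)).1 (by rw [pow_one]; exact hlt)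
    calc 25 = 5 ^ 2 := rfl
      _ ≤ 5 ^ k := Nat.pow_le_pow_right (by norm_num) this
      _ ≤ _ := hk ▸ h1
  have hRS : R.map f₁ ≤ S := by
    rintro _ ⟨a, ha, rfl⟩
    exact hPS _ ⟨a, ha.1, rfl⟩
  obtain ⟨_, hrD, hr1⟩ : ∃ y ∈ R.map f₁ ⊓ Ds K 5, y ≠ 1 := by
    by_contra h
    push Not at h
    have h1 := hS.card _ hRS
    rw [(Subgroup.eq_bot_iff_forall _).2 h, Subgroup.card_bot, Subgroup.card_map_of_injective hinj₁] at h1
    omega
  obtain ⟨⟨r, hr, rfl⟩, hrD⟩ := Subgroup.mem_inf.1 hrD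
  obtain ⟨z₂, hz₂, hz₂P⟩ := conj_of_commute hζ hF hinj₁ himg₁ hPp hrD hr.2.1 (fun h => hr1 (by rw [h, map_one]))
    hr.2.2 fun a ha => hPab a ha r hr.1
  refine ⟨z₂ * z₁, mul_mem hz₂ hz₁, P ⊓ (Subgroup.zpowers x5).comap π, ux, γ,
    le_inf hQP fun q hq => ?_, hPp.to_le inf_le_left, le_antisymm ((Subgroup.map_mono inf_le_right).trans
      (Subgroup.map_comap_le _ _)) (Subgroup.zpowers_le.2 ⟨v, ⟨hv, ?_⟩, hvx⟩), ⟨hux, ?_⟩, hux5,
    fun h => hx1 (by rw [← huxπ, h, map_one]), hux2, fun a ha => ?_⟩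
  · show π q ∈ Subgroup.zpowers x5
    rw [MonoidHom.mem_ker.1 (hQk hq)]
    exact one_mem _
  · show π v ∈ Subgroup.zpowers x5
    rw [hvx]; exact Subgroup.mem_zpowers _
  · show π ux ∈ Subgroup.zpowers x5
    rw [huxπ]; exact Subgroup.mem_zpowers _
  · have := hz₂P a (Subgroup.mem_inf.1 ha).1
    simpa [hf₁, mul_assoc] using this

end Cfsg.Agent.AltE6
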