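/-
The fixed space of a rational element of order five.

* `line_of_fixed` : the special coordinate line is preserved;
* `block_of_fixed`: and so is the six-dimensional complement.
-/
import Cfsg.Agent.Lib.AltE6.Mono

set_option autoImplicit false

namespace Cfsg.Agent.AltE6

open Cfsg.Agent.E6Cubic Matrix

variable {K : Type} [Field K]

/-- The image of a coordinate vector. -/
def col (h : GL I K) (j : I) : I → K := (h : Matrix I I K) *ᵥ ev K j

theorem col_apply (h : GL I K) (j i : I) : col h j i = (h : Matrix I I K) i j := by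
  rw [col, Matrix.mulVec_single_one, Matrix.col_apply]

theorem col_mul (g h : GL I K) (j : I) : col (g * h) j = (g : Matrix I I K) *ᵥ col h j := by
  rw [col, col, Units.val_mul, Matrix.mulVec_mulVec]

theorem col_one (j : I) : col (1 : GL I K) j = ev K j := by rw [col, Units.val_one, Matrix.one_mulVec]

theorem col_ne (h : GL I K) (j : I) : ∃ k, col h j k ≠ 0 := by
  by_contra hcon
  push Not at hcon
  have h1 : ev K j = 0 := Matrix.mulVec_injective_iff_isUnit.2 h.isUnit
    (by rw [Matrix.mulVec_zero]; exact funext hcon)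
  simpa [ev] using congrFun h1 j

/-- The coordinates of `Z` are preserved. -/
def Pres0 (Z : Finset I) (h : GL I K) : Prop := ∀ j ∈ Z, ∀ k ∉ Z, col h j k = 0

/-- An element commuting with a diagonal element up to a power preserves its zeros. -/
theorem pres0_of_conj {s : ℕ} [Fact s.Prime] {ζ : Kˣ} (hζ : orderOf ζ = s) {u h : GL I K} (hu : IsDg u)
    {c : I → ZMod s} (hc : ∀ j, dg u j = (ζ : K) ^ (c j).val) {m : ℕ} (hm : (m : ZMod s) ≠ 0)
    (he : u ^ m * h = h * u) {Z : Finset I} (hZ : ∀ j, j ∈ Z ↔ c j = 0) : Pres0 Z h := by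
  intro j hj k hk
  by_contra hne
  have h1 : col (u ^ m * h) j k = col (h * u) j k := by rw [he]
  rw [col_mul, (hu.pow m).1.mulVec, (hu.pow m).2] at h1
  have h2 : col (h * u) j k = dg u j * col h j k := by
    rw [col_apply, col_apply, Units.val_mul, hu.eq_diag, Matrix.mul_diagonal, mul_comm]
  rw [h2, hc j, (hZ j).1 hj, ZMod.val_zero, pow_zero, one_mul] at h1
  have h3 : dg u k ^ m = 1 := mul_right_cancel₀ hne (h1.trans (one_mul _).symm)
  rw [hc, ← pow_mul] at h3
  have hs : NeZero s := ⟨(Fact.out : s.Prime).ne_zero⟩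
  have h4 : ((c k).val * m) % s = 0 := by
    rw [← Units.val_pow_eq_pow_val, Units.val_eq_one, ← orderOf_dvd_iff_pow_eq_one, hζ] at h3
    exact Nat.dvd_iff_mod_eq_zero.1 h3
  have h5 : c k * (m : ZMod s) = 0 := by
    have := congrArg (fun n : ℕ => (n : ZMod s)) h4
    simpa using this
  exact hk ((hZ k).2 ((mul_eq_zero.1 h5).resolve_right hm))

theorem pol_expand (x z v : I → K) : pol x z v = ∑ k, v k * pol x z (ev K k) := by
  simp only [pol_eq]
  induction mons with
  | nil => simp
  | cons m l ih =>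
    rw [List.map_cons, List.sum_cons, ih]
    simp only [List.map_cons, List.sum_cons, mul_add, Finset.sum_add_distrib]
    congr 1
    simp only [ev, Pi.single_apply, mul_ite, ite_mul, mul_one, mul_zero, zero_mul, one_mul,
      Finset.sum_add_distrib, Finset.sum_ite_eq, Finset.mem_univ, if_true]
    ring

theorem pol_add₂ (x z z' y : I → K) (a b : K) :
    pol x (a • z + b • z') y = a * pol x z y + b * pol x z' y := by
  simp only [pol_eq]
  induction mons with
  | nil => simp
  | cons m l ih =>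
    rw [List.map_cons, List.sum_cons, ih]
    simp only [List.map_cons, List.sum_cons, Pi.add_apply, Pi.smul_apply, smul_eq_mul]
    ring

theorem pol_swap (x z y : I → K) : pol x z y = pol z x y := by
  simp only [pol_eq]
  exact congrArg List.sum (List.map_congr_left fun m _ => by ring)

/-- The value of the polar form on three coordinates. -/
theorem pol_ev_zero {a z b : I} (h : ¬ (adj a b = true ∧ z = th a b)) :
    pol (ev K a) (ev K z) (ev K b) = 0 := not_not.1 fun h' => h ((pol_ev a z b).1 h')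

theorem qy_adj : ∀ y : I, ∀ p ∈ qy y, adj y p.2.1 = true ∧ th y p.2.1 = p.2.2 := by decide +kernel

theorem qy_count' : ∀ y e : I, adj y e = true → ∃ q ∈ qy y,
    ((qy y).filter fun p => decide (p.2.1 = e ∧ p.2.2 = th y e ∨ p.2.1 = th y e ∧ p.2.2 = e)) = [q] ∧
    (q.1 = 1 ∨ q.1 = -1) ∧ (q.2.1 = e ∧ q.2.2 = th y e ∨ q.2.1 = th y e ∧ q.2.2 = e) := by
  decide +kernel

theorem adj_th' {a b : I} (h : adj a b = true) : th b a = th a b := (adj_th a b h).2.2.2.2.1

theorem qy_count (y e i : I) (h : adj e y = true) (hi : th e y = i) : ∃ q : ℤ × I × I,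
    ((qy y).filter fun p => decide (p.2.1 = e ∧ p.2.2 = i ∨ p.2.1 = i ∧ p.2.2 = e)) = [q] ∧
    (q.1 = 1 ∨ q.1 = -1) ∧ (q.2.1 = e ∧ q.2.2 = i ∨ q.2.1 = i ∧ q.2.2 = e) := by
  obtain ⟨q, -, h1, h2, h3⟩ := qy_count' y e ((adj_symm y e).trans h)
  rw [adj_th' h, hi] at h1 h3
  exact ⟨q, h1, h2, h3⟩

/-- A coordinate and six further ones forming three pairs with it. -/
structure Frame (Z : Finset I) (e : I) : Prop where
  mem : e ∈ Z
  card : Z.card = 7
  adj : ∀ x ∈ Z, x ≠ e → AltE6.adj e x = true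
  th : ∀ x ∈ Z, x ≠ e → AltE6.th e x ∈ Z

namespace Frame

variable {Z : Finset I} {e : I} (hf : Frame Z e)
include hf

theorem th_facts {x : I} (hx : x ∈ Z) (hne : x ≠ e) :
    AltE6.th e x ∈ Z ∧ AltE6.th e x ≠ e ∧ AltE6.th e x ≠ x ∧ AltE6.th e (AltE6.th e x) = x := by
  obtain ⟨-, -, h3, h4, -, -, h7⟩ := adj_th e x (hf.adj x hx hne)
  exact ⟨hf.th x hx hne, h7, h4, h3⟩

theorem triangle {a b : I} (ha : a ∈ Z) (hae : a ≠ e) (hb : b ∈ Z) (hbe : b ≠ e) (hab : AltE6.adj a b = true) :
    AltE6.th a b = e := by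
  have h := adj_triangle e a (hf.adj a ha hae) b (hf.adj b hb hbe) hab
  obtain ⟨h1, -, -, -, h5, -, -⟩ := adj_th e a (hf.adj a ha hae)
  obtain ⟨-, -, k3, -⟩ := adj_th a e h1
  rw [h, ← h5]
  exact k3

variable (hF : ∃ a : K, a ≠ 0 ∧ a ≠ 1) {h : GL I K} (hh : h ∈ img K) (hp : Pres0 Z h)
include hF hh hp

theorem col_cases {j : I} (hj : j ∈ Z) :
    col h j = col h j e • ev K e ∨ col h j e = 0 := by
  by_cases hwe : col h j e = 0
  · exact Or.inr hwe
  refine Or.inl (funext fun i => ?_)
  by_cases hie : i = e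
  · subst hie; simp [ev]
  simp only [Pi.smul_apply, ev, Pi.single_eq_of_ne hie, smul_zero]
  by_cases hiZ : i ∈ Z
  swap
  · exact hp j hj i hiZ
  obtain ⟨m1, m2, m3, m4⟩ := hf.th_facts hiZ hie
  set w := col h j with hw
  -- the derivative of the form at `w`
  have h0 : pd w (ev K (AltE6.th e i)) = 0 := pd_col hF (fun v => pres_img hh v) j _
  rw [pd_single] at h0
  have hpick : pick e (AltE6.th e i) ≠ [] := by
    have := pick_adj e (AltE6.th e i)
    rw [if_pos (hf.adj _ m1 m2)] at this
    exact fun e0 => by rw [e0] at this; cases this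
  have hq : ∀ y : I, ((qy y).map fun p => (p.1 : K) * w p.2.1 * w p.2.2).sum =
      (((qy y).filter fun p : ℤ × I × I => decide (p.2.1 ∈ Z ∧ p.2.2 ∈ Z)).map
        fun p : ℤ × I × I => (p.1 : K) * w p.2.1 * w p.2.2).sum := by
    intro y
    induction qy y with
    | nil => simp
    | cons p l ih =>
      by_cases hpz : p.2.1 ∈ Z ∧ p.2.2 ∈ Z
      · simp [hpz, ih]
      · simp only [List.map_cons, List.sum_cons, ih, List.filter_cons, hpz, decide_false, Bool.false_eq_true,
          if_false]
        rcases not_and_or.1 hpz with h1 | h1 <;> simp [hw, hp j hj _ h1]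
  have hsub : ∀ p ∈ qy (AltE6.th e i), p.2.1 ∈ Z → p.2.2 ∈ Z →
      (p.2.1 = e ∧ p.2.2 = i) ∨ (p.2.1 = i ∧ p.2.2 = e) := by
    intro p hp' h1 h2
    obtain ⟨k1, k2⟩ := qy_adj _ p hp'
    by_cases e1 : p.2.1 = e
    · left
      refine ⟨e1, ?_⟩
      rw [← k2, e1, adj_th' (hf.adj _ m1 m2), m4]
    · by_cases e2 : p.2.2 = e
      · right
        refine ⟨?_, e2⟩
        have k3 := (adj_th (AltE6.th e i) p.2.1 k1)
        rw [k2, e2] at k3
        rw [← k3.2.2.1, adj_th' (hf.adj _ m1 m2), m4]
      · exact absurd (k2.symm.trans (hf.triangle m1 m2 h1 e1 k1)) e2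
  rw [hq] at h0
  have hlen := qy_count (AltE6.th e i) e i (hf.adj _ m1 m2) (by rw [m4])
  obtain ⟨ε, hε, hflt⟩ : ∃ ε : ℤ, (ε : K) ≠ 0 ∧
      (((qy (AltE6.th e i)).filter fun p => decide (p.2.1 ∈ Z ∧ p.2.2 ∈ Z)).map
        fun p => (p.1 : K) * w p.2.1 * w p.2.2).sum = (ε : K) * w e * w i := by
    have hfeq : ((qy (AltE6.th e i)).filter fun p => decide (p.2.1 ∈ Z ∧ p.2.2 ∈ Z)) =
        (qy (AltE6.th e i)).filter fun p => decide (p.2.1 = e ∧ p.2.2 = i ∨ p.2.1 = i ∧ p.2.2 = e) := by
      refine List.filter_congr fun p hp' => ?_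
      simp only [decide_eq_decide]
      refine ⟨fun h => hsub p hp' h.1 h.2, ?_⟩
      rintro (⟨a, b⟩ | ⟨a, b⟩) <;> simp [a, b, hiZ, hf.mem]
    rw [hfeq]
    obtain ⟨q, hq1, hq2⟩ := hlen
    rw [hq1]
    refine ⟨q.1, unit_ne_zero hq2.1, ?_⟩
    rcases hq2.2 with ⟨a, b⟩ | ⟨a, b⟩ <;> simp [a, b] <;> ring
  rw [hflt] at h0
  exact (mul_eq_zero.1 h0).resolve_left (mul_ne_zero hε hwe)

variable (hp' : Pres0 Z h⁻¹)
include hp'

/-- The special line is preserved. -/
theorem line_of_fixed : ∃ χ : K, χ ≠ 0 ∧ col h e = χ • ev K e := by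
  classical
  rcases hf.col_cases hF hh hp hf.mem with h1 | h1
  · refine ⟨_, fun h0 => ?_, h1⟩
    obtain ⟨k, hk⟩ := col_ne h e
    rw [h1, h0, zero_smul] at hk
    exact hk rfl
  exfalso
  set w := col h e with hw
  -- the polar form at `e` determines its argument up to a multiple of `e`
  have hker : ∀ z : I → K, (∀ k ∉ Z, z k = 0) → (∀ y ∈ Z, pol (ev K e) z (ev K y) = 0) →
      ∀ k, k ≠ e → z k = 0 := by
    intro z hz hy k hk
    by_cases hkZ : k ∈ Z
    swap
    · exact hz k hkZ
    obtain ⟨m1, m2, m3, m4⟩ := hf.th_facts hkZ hk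
    have h2 := hy _ m1
    rw [pol_basis] at h2
    have hne : pick e (AltE6.th e k) ≠ [] := by
      have := pick_adj e (AltE6.th e k)
      rw [if_pos (hf.adj _ m1 m2)] at this
      exact fun e0 => by rw [e0] at this; cases this
    obtain ⟨ε, i, hpk, -, hε⟩ := exists_pick (F := K) hne
    have := pick_adj e (AltE6.th e k)
    rw [if_pos (hf.adj _ m1 m2), hpk, m4] at this
    simp only [List.map_cons, List.map_nil, List.cons.injEq, and_true] at this
    rw [hpk, this] at h2
    simpa [hε] using h2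
  -- hence the polar form at `w` determines its argument up to a multiple of `w`
  have hkerw : ∀ z : I → K, (∀ k ∉ Z, z k = 0) → (∀ y ∈ Z, pol w z (ev K y) = 0) → ∃ l : K, z = l • w := by
    intro z hz hy
    set z0 := ((h⁻¹ : GL I K) : Matrix I I K) *ᵥ z with hz0
    have hback : (h : Matrix I I K) *ᵥ z0 = z := by
      rw [hz0, Matrix.mulVec_mulVec, ← Units.val_mul, mul_inv_cancel, Units.val_one, Matrix.one_mulVec]
    have hzsupp : ∀ k ∉ Z, z0 k = 0 := fun k hk => by
      rw [hz0]
      show ∑ j, ((h⁻¹ : GL I K) : Matrix I I K) k j * z j = 0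
      refine Finset.sum_eq_zero fun j _ => ?_
      by_cases hj : j ∈ Z
      · rw [← col_apply, hp' j hj k hk, zero_mul]
      · rw [hz j hj, mul_zero]
    have h2 : ∀ y ∈ Z, pol (ev K e) z0 (ev K y) = 0 := fun y hy' => by
      rw [← pol_inv hF (fun v => pres_img hh v), hback, pol_expand]
      refine Finset.sum_eq_zero fun k _ => ?_
      by_cases hk : k ∈ Z
      · rw [show (h : Matrix I I K) *ᵥ ev K e = w from rfl, hy k hk, mul_zero]
      · rw [show ((h : Matrix I I K) *ᵥ ev K y) k = col h y k from rfl, hp y hy' k hk, zero_mul]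
    refine ⟨z0 e, ?_⟩
    have hz0e : z0 = z0 e • ev K e := funext fun k => by
      by_cases hk : k = e
      · subst hk; simp [ev]
      · simp [ev, hk, hker z0 hzsupp h2 k hk]
    rw [← hback]
    conv_lhs => rw [hz0e]
    rw [Matrix.mulVec_smul]
    rfl
  have hwz : ∀ k ∉ Z, w k = 0 := hp e hf.mem
  -- the polar form at `w` on two coordinates
  have hval : ∀ s ∈ Z, s ≠ e → ∀ y ∈ Z, y ≠ e → pol w (ev K s) (ev K y) = 0 := by
    intro s hs hse y hy hye
    rw [pol_swap, pol_basis]
    have := pick_adj s y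
    by_cases hsy : AltE6.adj s y = true
    · rw [if_pos hsy, hf.triangle hs hse hy hye hsy] at this
      obtain ⟨ε, i, hpk, -, -⟩ := exists_pick (F := K) (s := s) (a := y) (fun e0 => by rw [e0] at this; cases this)
      rw [hpk] at this
      simp only [List.map_cons, List.map_nil, List.cons.injEq, and_true] at this
      rw [hpk, this]
      simp [h1]
    · rw [if_neg hsy, List.map_eq_nil_iff] at this
      simp [this]
  have hB : ∀ s ∈ Z, s ≠ e → (pol w (ev K s) (ev K e) = 0 ↔ w (AltE6.th e s) = 0) := by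
    intro s hs hse
    rw [pol_swap, pol_basis]
    have hadj : AltE6.adj s e = true := (adj_th e s (hf.adj s hs hse)).1
    have := pick_adj s e
    rw [if_pos hadj, (adj_th e s (hf.adj s hs hse)).2.2.2.2.1] at this
    obtain ⟨ε, i, hpk, -, hε⟩ := exists_pick (F := K) (s := s) (a := e) (fun e0 => by rw [e0] at this; cases this)
    rw [hpk] at this
    simp only [List.map_cons, List.map_nil, List.cons.injEq, and_true] at this
    rw [hpk, this]
    simp [hε]
  have hsingle : ∀ s ∈ Z, s ≠ e → w (AltE6.th e s) = 0 → ∃ l : K, ev K s = l • w := fun s hs hse h0 => by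
    refine hkerw _ (fun k hk => by simp [ev, show k ≠ s from fun e0 => hk (e0 ▸ hs)]) fun y hy => ?_
    by_cases hye : y = e
    · subst hye; exact (hB s hs hse).2 h0
    · exact hval s hs hse y hy hye
  obtain ⟨a, hwa⟩ := col_ne h e
  rw [← hw] at hwa
  have haZ : a ∈ Z := by_contra fun h0 => hwa (hwz a h0)
  have hae : a ≠ e := fun e0 => hwa (e0 ▸ h1)
  -- no coordinate of `w` in the complement vanishes
  have hall : ∀ s ∈ Z, s ≠ e → w s ≠ 0 := by
    intro t ht hte h0
    obtain ⟨m1, m2, m3, m4⟩ := hf.th_facts ht hte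
    obtain ⟨l, hl⟩ := hsingle _ m1 m2 (by rw [m4]; exact h0)
    have hla := congrFun hl a
    simp only [Pi.smul_apply, smul_eq_mul] at hla
    have hl0 : l ≠ 0 := fun e0 => by
      have := congrFun hl (AltE6.th e t)
      simp [ev, e0] at this
    have hat : a = AltE6.th e t := by
      by_contra hne
      rw [ev, Pi.single_eq_of_ne hne] at hla
      exact (mul_ne_zero hl0 hwa) hla.symm
    -- now `w` is a single coordinate `a`; a third pair gives a contradiction
    obtain ⟨s, hs⟩ : ((Z.erase e).erase a).erase (AltE6.th e a) |>.Nonempty := by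
      rw [← Finset.card_pos]
      have := Finset.pred_card_le_card_erase (s := (Z.erase e).erase a) (a := AltE6.th e a)
      have := Finset.pred_card_le_card_erase (s := Z.erase e) (a := a)
      have := Finset.pred_card_le_card_erase (s := Z) (a := e)
      have := hf.card
      omega
    simp only [Finset.mem_erase] at hs
    obtain ⟨hs1, hs2, hs3, hs4⟩ := hs
    obtain ⟨n1, n2, n3, n4⟩ := hf.th_facts hs4 hs3
    have hne : AltE6.th e s ≠ a := fun e0 => hs1 (by rw [← e0, n4])
    have hw0 : w (AltE6.th e s) = 0 := by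
      have := congrFun hl (AltE6.th e s)
      rw [ev, Pi.single_eq_of_ne (by rw [← hat]; exact hne)] at this
      exact (mul_eq_zero.1 this.symm).resolve_left hl0
    obtain ⟨l', hl'⟩ := hsingle s hs4 hs3 hw0
    have := congrFun hl' a
    simp only [Pi.smul_apply, smul_eq_mul, ev, Pi.single_eq_of_ne (Ne.symm hs2)] at this
    rcases mul_eq_zero.1 this.symm with h2 | h2
    · have := congrFun hl' s
      simp [ev, h2] at this
    · exact hwa h2
  obtain ⟨t, ht⟩ : ((Z.erase e).erase a).Nonempty := by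
    rw [← Finset.card_pos]
    have := Finset.pred_card_le_card_erase (s := Z.erase e) (a := a)
    have := Finset.pred_card_le_card_erase (s := Z) (a := e)
    have := hf.card
    omega
  obtain ⟨s, hs⟩ : (((Z.erase e).erase a).erase t).Nonempty := by
    rw [← Finset.card_pos]
    have := Finset.pred_card_le_card_erase (s := (Z.erase e).erase a) (a := t)
    have := Finset.pred_card_le_card_erase (s := Z.erase e) (a := a)
    have := Finset.pred_card_le_card_erase (s := Z) (a := e)
    have := hf.card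
    omega
  simp only [Finset.mem_erase] at ht hs
  obtain ⟨ht1, ht2, ht3⟩ := ht
  obtain ⟨hs1, hs2, hs3, hs4⟩ := hs
  set A := pol w (ev K a) (ev K e)
  set B := pol w (ev K t) (ev K e)
  obtain ⟨m1, m2, -, -⟩ := hf.th_facts haZ hae
  have hAne : A ≠ 0 := fun h0 => hall _ m1 m2 ((hB a haZ hae).1 h0)
  obtain ⟨l, hl⟩ := hkerw (B • ev K a + (-A) • ev K t) (fun k hk => by
    simp [ev, show k ≠ a from fun e0 => hk (e0 ▸ haZ), show k ≠ t from fun e0 => hk (e0 ▸ ht3)]) fun y hy => by
    rw [pol_add₂]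
    by_cases hye : y = e
    · subst hye
      show B * A + -A * B = 0
      ring
    · rw [hval a haZ hae y hy hye, hval t ht3 ht2 y hy hye]
      ring
  have hls := congrFun hl s
  simp only [Pi.add_apply, Pi.smul_apply, smul_eq_mul, ev, Pi.single_eq_of_ne hs1, Pi.single_eq_of_ne hs2,
    mul_zero, add_zero] at hls
  have hlt := congrFun hl t
  simp only [Pi.add_apply, Pi.smul_apply, smul_eq_mul, ev, Pi.single_eq_same, Pi.single_eq_of_ne ht1,
    mul_zero, zero_add, mul_one, (mul_eq_zero.1 hls.symm).resolve_right (hall s hs4 hs3), zero_mul] at hlt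
  exact hAne (neg_eq_zero.1 hlt)

/-- The complement is preserved. -/
theorem block_of_fixed {j : I} (hj : j ∈ Z) (hje : j ≠ e) : col h j e = 0 := by
  rcases hf.col_cases hF hh hp hj with h1 | h1
  swap
  · exact h1
  exfalso
  obtain ⟨χ, hχ, he⟩ := hf.line_of_fixed hF hh hp hp'
  have h2 : (h : Matrix I I K) *ᵥ (χ • ev K j) = (h : Matrix I I K) *ᵥ (col h j e • ev K e) := by
    rw [Matrix.mulVec_smul, Matrix.mulVec_smul, show (h : Matrix I I K) *ᵥ ev K j = col h j from rfl,
      show (h : Matrix I I K) *ᵥ ev K e = col h e from rfl, he, h1]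
    simp only [smul_smul, Pi.smul_apply, ev, Pi.single_eq_same, smul_eq_mul, mul_one]
    rw [mul_comm]
  exact hje (smul_ev_inj hχ (Matrix.mulVec_injective_iff_isUnit.2 h.isUnit h2)).1

end Frame

end Cfsg.Agent.AltE6
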