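/-
Two commuting rational elements of order five with different special lines.

* `det_neg` : an element squaring one and fixing the other acts on the complement with determinant `-1`.
-/
import Cfsg.Agent.Lib.AltE6.Fix
import Cfsg.Agent.Lib.AltE6.Kernel

set_option autoImplicit false

namespace Cfsg.Agent.AltE6

open Cfsg.Agent.E6Cubic Matrix

attribute [local instance] fact_five

variable {K : Type} [Field K]

theorem frame_of_special {c : I → ZMod 5} (hc : MonSum c) {e : I} (he : Special c e) : Frame (zeros c) e where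
  mem := by simp [zeros, he.1]
  card := he.2.1
  adj x hx hne := he.2.2 x (by simpa [zeros] using hx) hne
  th x hx hne := by
    have hx' : c x = 0 := by simpa [zeros] using hx
    have := hc e x (he.2.2 x hx' hne)
    rw [he.1, hx', zero_add, zero_add] at this
    simpa [zeros] using this

theorem mem_zeros {A : Type*} [Zero A] [DecidableEq A] {c : I → A} {x : I} : x ∈ zeros c ↔ c x = 0 := by
  simp [zeros]

/-- The monomial matrix of a four-cycle and two fixed points. -/
theorem det_pattern (R : Matrix (Fin 6) (Fin 6) K) (k : Fin 6 → K)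
    (hR : ∀ i j, R i j = if i = ![1, 2, 3, 0, 4, 5] j then k j else 0) :
    R.det = -(k 0 * k 1 * k 2 * k 3 * k 4 * k 5) := by
  let σ : Equiv.Perm (Fin 6) := ⟨![1, 2, 3, 0, 4, 5], ![3, 0, 1, 2, 4, 5], by decide, by decide⟩
  have hRd : R = (Matrix.diagonal fun i => k (σ.symm i)).submatrix id σ := by
    ext i j
    rw [hR, Matrix.submatrix_apply, Matrix.diagonal_apply]
    show (if i = σ j then k j else 0) = if i = σ j then k (σ.symm i) else 0
    split_ifs with h
    · rw [h, Equiv.symm_apply_apply]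
    · rfl
  rw [hRd, Matrix.det_permute', Matrix.det_diagonal, Equiv.prod_comp σ.symm k]
  rw [show Equiv.Perm.sign σ = -1 by decide +kernel, Fin.prod_univ_six]
  simp

theorem pol_three {h : GL I K} (hF : ∃ a : K, a ≠ 0 ∧ a ≠ 1) (hh : h ∈ img K) {a z b a' z' b' : I} {ka kz kb : K}
    (ea : col h a = ka • ev K a') (ez : col h z = kz • ev K z') (eb : col h b = kb • ev K b') :
    ka * kz * kb * pol (ev K a') (ev K z') (ev K b') = pol (ev K a) (ev K z) (ev K b) := by
  have h1 := pol_inv hF (fun v => pres_img hh v) (ev K a) (ev K z) (ev K b)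
  rw [show (h : Matrix I I K) *ᵥ ev K a = col h a from rfl, show (h : Matrix I I K) *ᵥ ev K z = col h z from rfl,
    show (h : Matrix I I K) *ᵥ ev K b = col h b from rfl, ea, ez, eb, pol_smul, pol_smul₃, pol_comm, pol_smul₃,
    pol_comm] at h1
  linear_combination h1

/-- The determinant on the complement. -/
theorem det_neg (hF : ∃ a : K, a ≠ 0 ∧ a ≠ 1) {ζ : Kˣ} (hζ : orderOf ζ = 5) {c c' : I → ZMod 5} (hc : MonSum c)
    (hc' : MonSum c') {e e' : I} (hfe : Special c e) (hfe' : Special c' e') (hne : e' ≠ e) (he' : c e' = 0)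
    (he : c' e = 0) {u u' h : GL I K} (hu : IsDg u) (hu' : IsDg u') (hlab : ∀ j, dg u j = (ζ : K) ^ (c j).val)
    (hlab' : ∀ j, dg u' j = (ζ : K) ^ (c' j).val) (hh : h ∈ img K) (hcomm : h * u = u * h)
    (hrat : h * u' * h⁻¹ = u' ^ 2) (hfix : col h e = ev K e) :
    ∃ ι : Fin 6 → I, Function.Injective ι ∧ (∀ k, k ∈ zeros c ∧ k ≠ e ↔ ∃ t, ι t = k) ∧
      ((h : Matrix I I K).submatrix ι ι).det = -1 := by
  classical
  set Z := zeros c with hZ
  set Z' := zeros c' with hZ'
  have hf := frame_of_special hc hfe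
  have hf' := frame_of_special hc' hfe'
  -- the zeros are preserved
  have p1 : Pres0 Z h := pres0_of_conj hζ hu hlab (m := 1) (by decide) (by rw [pow_one, hcomm]) fun j => mem_zeros
  have p1i : Pres0 Z h⁻¹ := pres0_of_conj hζ hu hlab (m := 1) (by decide) (by
    rw [pow_one, eq_comm, inv_mul_eq_iff_eq_mul, ← mul_assoc, hcomm, mul_inv_cancel_right]) fun j => mem_zeros
  have hsq : h * u' = u' ^ 2 * h := by rw [← hrat, inv_mul_cancel_right]
  have p2 : Pres0 Z' h := pres0_of_conj hζ hu' hlab' (m := 2) (by decide) hsq.symm fun j => mem_zeros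
  have hu5 : u' ^ 5 = 1 := (hu'.pow 5).1.ext isDg_one fun i => by
    rw [(hu'.pow 5).2, hlab', dg_one, ← pow_mul, mul_comm, pow_mul]
    have : (ζ : K) ^ 5 = 1 := by
      rw [← Units.val_pow_eq_pow_val, ← hζ, pow_orderOf_eq_one, Units.val_one]
    rw [this, one_pow]
  have p2i : Pres0 Z' h⁻¹ := pres0_of_conj hζ hu' hlab' (m := 3) (by decide) (by
    have h3 : h * u' ^ 3 * h⁻¹ = u' := by
      rw [← conj_pow, hrat, ← pow_mul, show 2 * 3 = 5 + 1 from rfl, pow_succ, hu5, one_mul]
    rw [eq_inv_mul_iff_mul_eq, ← mul_assoc, h3]) fun j => mem_zeros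
  obtain ⟨χ', hχ', hl'⟩ := hf'.line_of_fixed hF hh p2 p2i
  have he'Z : e' ∈ Z := mem_zeros.2 he'
  obtain ⟨b1, b2, b3, b4⟩ := hf.th_facts he'Z hne
  set b := AltE6.th e e' with hb
  have hadj : AltE6.adj e e' = true := hf.adj e' he'Z hne
  have hcb : c' b = 0 := by
    have := hc' e e' hadj
    rwa [he, hfe'.1, zero_add, zero_add] at this
  have hblock : ∀ j ∈ Z, j ≠ e → col h j e = 0 := fun j hj hje => hf.block_of_fixed hF hh p1 p1i hj hje
  -- supports of the images
  have hsupp : ∀ j ∈ Z, j ≠ e → ∀ k, col h j k ≠ 0 → k ∈ Z ∧ k ≠ e ∧ c' k = 3 * c' j := by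
    intro j hj hje k hk
    refine ⟨by_contra fun h0 => hk (p1 j hj k h0), fun h0 => hk (h0 ▸ hblock j hj hje), ?_⟩
    have h1 : col (u' ^ 2 * h) j k = col (h * u') j k := by rw [hsq]
    rw [col_mul, (hu'.pow 2).1.mulVec, (hu'.pow 2).2] at h1
    have h2 : col (h * u') j k = dg u' j * col h j k := by
      rw [col_apply, col_apply, Units.val_mul, hu'.eq_diag, Matrix.mul_diagonal, mul_comm]
    rw [h2] at h1
    have h3 := mul_right_cancel₀ hk h1
    rw [hlab', hlab', pow_two, ← root_pow_add hζ] at h3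
    have h4 := root_pow_inj hζ h3
    rw [← h4]
    have : (6 : ZMod 5) = 1 := by decide
    linear_combination (-(c' k)) * this
  obtain ⟨a, ha⟩ : ((Z.erase e).erase e').erase b |>.Nonempty := by
    rw [← Finset.card_pos]
    have := Finset.pred_card_le_card_erase (s := (Z.erase e).erase e') (a := b)
    have := Finset.pred_card_le_card_erase (s := Z.erase e) (a := e')
    have := Finset.pred_card_le_card_erase (s := Z) (a := e)
    have := hfe.2.1
    rw [hZ] at *
    omega
  simp only [Finset.mem_erase] at ha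
  obtain ⟨ha1, ha2, ha3, ha4⟩ := ha
  have hca : c' a ≠ 0 := fun h0 => by
    have h1 := hfe'.2.2 a h0 ha2
    exact ha1 (adj_triangle e e' hadj a (hf.adj a ha4 ha3) h1)
  obtain ⟨k, hk⟩ := col_ne h a
  obtain ⟨hk1, hk2, hck⟩ := hsupp a ha4 ha3 k hk
  obtain ⟨a1, a2, a3, a4⟩ := hf.th_facts ha4 ha3
  obtain ⟨k1, k2, k3, k4⟩ := hf.th_facts hk1 hk2
  have hneg : ∀ x ∈ Z, x ≠ e → c' (AltE6.th e x) = -c' x := fun x hx hxe => by
    have := hc' e x (hf.adj x hx hxe)
    rw [he, zero_add] at this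
    exact eq_neg_of_add_eq_zero_right this
  have hca' := hneg a ha4 ha3
  have hck' : c' (AltE6.th e k) = 2 * c' a := by
    rw [hneg k hk1 hk2, hck]
    have : (5 : ZMod 5) = 0 := by decide
    linear_combination (-(c' a)) * this
  set ι : Fin 6 → I := ![a, k, AltE6.th e a, AltE6.th e k, e', b] with hι
  have hlabels : ∀ t, c' (ι t) = ![1, 3, -1, 2, 0, 0] t * c' a := by
    intro t
    fin_cases t <;> simp [hι, hck, hca', hck', hfe'.1, hcb]
  have hmemι : ∀ t, ι t ∈ Z ∧ ι t ≠ e := by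
    intro t
    fin_cases t
    exacts [⟨ha4, ha3⟩, ⟨hk1, hk2⟩, ⟨a1, a2⟩, ⟨k1, k2⟩, ⟨he'Z, hne⟩, ⟨b1, b2⟩]
  have hinj : Function.Injective ι := by
    intro s t hst
    have h1 := congrArg c' hst
    rw [hlabels, hlabels] at h1
    have h2 := mul_right_cancel₀ hca h1
    have key : ∀ s t : Fin 6, (![1, 3, -1, 2, 0, 0] s : ZMod 5) = ![1, 3, -1, 2, 0, 0] t →
        s = t ∨ (s = 4 ∧ t = 5) ∨ (s = 5 ∧ t = 4) := by decide
    rcases key s t h2 with h3 | ⟨rfl, rfl⟩ | ⟨rfl, rfl⟩
    · exact h3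
    · exact absurd hst (Ne.symm b3)
    · exact absurd hst b3
  have hrange : ∀ x, x ∈ Z ∧ x ≠ e ↔ ∃ t, ι t = x := by
    intro x
    refine ⟨fun hx => ?_, fun ⟨t, ht⟩ => ht ▸ hmemι t⟩
    have hsub : Finset.univ.image ι ⊆ Z.erase e := fun y hy => by
      obtain ⟨t, -, rfl⟩ := Finset.mem_image.1 hy
      exact Finset.mem_erase.2 ⟨(hmemι t).2, (hmemι t).1⟩
    have heq := Finset.eq_of_subset_of_card_le hsub (by
      rw [Finset.card_image_of_injective _ hinj, Finset.card_erase_of_mem hf.mem, hf.card]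
      rfl)
    obtain ⟨t, -, ht⟩ := Finset.mem_image.1 (heq ▸ Finset.mem_erase.2 ⟨hx.2, hx.1⟩)
    exact ⟨t, ht⟩
  -- the images of the six coordinates
  have hcol : ∀ t : Fin 6, ∃ κ : K, κ ≠ 0 ∧ col h (ι t) = κ • ev K (ι (![1, 2, 3, 0, 4, 5] t)) := by
    intro t
    suffices hs : ∀ x, col h (ι t) x ≠ 0 → x = ι (![1, 2, 3, 0, 4, 5] t) by
      obtain ⟨x, hx⟩ := col_ne h (ι t)
      refine ⟨_, hx, funext fun i => ?_⟩
      rw [← hs x hx]
      by_cases hi : i = x
      · subst hi; simp [ev]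
      · simp only [Pi.smul_apply, ev, Pi.single_eq_of_ne hi, smul_zero]
        exact by_contra fun h0 => hi ((hs i h0).trans (hs x hx).symm)
    intro x hx
    by_cases ht : t = 5
    · subst ht
      change col h b x ≠ 0 at hx
      obtain ⟨x1, x2, x3⟩ := hsupp b b1 b2 x hx
      rw [hcb, mul_zero] at x3
      obtain ⟨s, rfl⟩ := (hrange x).1 ⟨x1, x2⟩
      rw [hlabels] at x3
      have key : ∀ s : Fin 6, (![1, 3, -1, 2, 0, 0] s : ZMod 5) = 0 → s = 4 ∨ s = 5 := by decide
      rcases key s ((mul_eq_zero.1 x3).resolve_right hca) with rfl | rfl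
      swap
      · rfl
      exfalso
      rcases hf'.col_cases hF hh p2 (mem_zeros.2 hcb) with h1 | h1
      · have h2 : (h : Matrix I I K) *ᵥ (χ' • ev K b) = (h : Matrix I I K) *ᵥ (col h b e' • ev K e') := by
          rw [Matrix.mulVec_smul, Matrix.mulVec_smul, show (h : Matrix I I K) *ᵥ ev K b = col h b from rfl,
            show (h : Matrix I I K) *ᵥ ev K e' = col h e' from rfl, hl', h1]
          simp only [smul_smul, Pi.smul_apply, ev, Pi.single_eq_same, smul_eq_mul, mul_one]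
          rw [mul_comm]
        exact b3 (smul_ev_inj hχ' (Matrix.mulVec_injective_iff_isUnit.2 h.isUnit h2)).1
      · exact hx h1
    by_cases ht4 : t = 4
    · subst ht4
      change col h e' x ≠ 0 at hx
      rw [hl'] at hx
      exact by_contra fun h0 => hx (by simp [ev, show x ≠ e' from h0])
    obtain ⟨x1, x2, x3⟩ := hsupp _ (hmemι t).1 (hmemι t).2 x hx
    obtain ⟨s, rfl⟩ := (hrange x).1 ⟨x1, x2⟩
    rw [hlabels, hlabels, ← mul_assoc] at x3
    have key : ∀ s t : Fin 6, t ≠ 4 → t ≠ 5 →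
        (![1, 3, -1, 2, 0, 0] s : ZMod 5) = 3 * ![1, 3, -1, 2, 0, 0] t → s = ![1, 2, 3, 0, 4, 5] t := by decide
    rw [key s t ht4 ht (mul_right_cancel₀ hca x3)]
  choose κ hκ0 hκ using hcol
  refine ⟨ι, hinj, hrange, ?_⟩
  rw [det_pattern _ κ fun i j => by
    rw [Matrix.submatrix_apply, ← col_apply, hκ j]
    simp only [Pi.smul_apply, ev, Pi.single_apply, smul_eq_mul, mul_ite, mul_one, mul_zero, hinj.eq_iff]]
  have hfix1 : col h e = (1 : K) • ev K e := by rw [one_smul]; exact hfix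
  have hP : ∀ x ∈ Z, x ≠ e → pol (ev K e) (ev K x) (ev K (AltE6.th e x)) ≠ 0 := fun x hx hxe => by
    obtain ⟨m1, m2, m3, m4⟩ := hf.th_facts hx hxe
    exact (pol_ev _ _ _).2 ⟨hf.adj _ m1 m2, m4.symm⟩
  set Pa := pol (ev K e) (ev K a) (ev K (AltE6.th e a))
  set Pk := pol (ev K e) (ev K k) (ev K (AltE6.th e k))
  set Pb := pol (ev K e) (ev K e') (ev K b)
  have r1 : κ 0 * κ 2 * Pk = Pa := by
    have := pol_three hF hh hfix1 (hκ 0) (hκ 2)
    simp only [hι, Matrix.cons_val] at this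
    linear_combination this
  have r2 : κ 1 * κ 3 * Pa = Pk := by
    have := pol_three hF hh hfix1 (hκ 1) (hκ 3)
    simp only [hι, Matrix.cons_val] at this
    rw [pol_comm (ev K e) (ev K (AltE6.th e a))] at this
    linear_combination this
  have r3 : κ 4 * κ 5 * Pb = Pb := by
    have := pol_three hF hh hfix1 (hκ 4) (hκ 5)
    simp only [hι, Matrix.cons_val] at this
    linear_combination this
  have e1 : κ 4 * κ 5 = 1 := mul_right_cancel₀ (hP e' he'Z hne) (r3.trans (one_mul _).symm)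
  have e2 : κ 0 * κ 1 * κ 2 * κ 3 = 1 := by
    refine mul_right_cancel₀ (hP k hk1 hk2) ?_
    linear_combination (κ 1 * κ 3) * r1 + r2
  linear_combination (-(κ 4 * κ 5)) * e2 - e1

end Cfsg.Agent.AltE6
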