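/-
No section isomorphic to the alternating group of degree thirteen away from characteristic eleven.

* `no_A13` : the main result.
-/
import Cfsg.Agent.Lib.AltE6.Mono
import Cfsg.Agent.Lib.AltE6.Cover
import Cfsg.Agent.Lib.ToralSection.Lift

set_option autoImplicit false
set_option maxRecDepth 100000

namespace Cfsg.Agent.AltE6

open Cfsg.Agent.E6Cubic Equiv

attribute [local instance] fact_eleven

/-- An eleven-cycle and an even permutation squaring it. -/
theorem thirteen_elements : ∃ x a : alternatingGroup (Fin 13), orderOf x = 11 ∧ a * x * a⁻¹ = x ^ 2 := by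
  let X : Perm (Fin 13) := ⟨![1, 2, 3, 4, 5, 6, 7, 8, 9, 10, 0, 11, 12], ![10, 0, 1, 2, 3, 4, 5, 6, 7, 8, 9, 11, 12],
    by decide, by decide⟩
  let A : Perm (Fin 13) := ⟨![0, 2, 4, 6, 8, 10, 1, 3, 5, 7, 9, 12, 11], ![0, 6, 1, 7, 2, 8, 3, 9, 4, 10, 5, 12, 11],
    by decide, by decide⟩
  refine ⟨⟨X, by rw [Equiv.Perm.mem_alternatingGroup]; decide +kernel⟩,
    ⟨A, by rw [Equiv.Perm.mem_alternatingGroup]; decide +kernel⟩, orderOf_eq_prime ?_ ?_, ?_⟩
  · exact Subtype.ext (show X ^ 11 = 1 by decide +kernel)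
  · intro e
    have h1 : X = 1 := congrArg Subtype.val e
    exact absurd (DFunLike.congr_fun h1 0) (by decide)
  · exact Subtype.ext (show A * X * A⁻¹ = X ^ 2 by decide +kernel)

variable {K : Type} [Field K] [Finite K]

theorem no_A13 {ζ : Kˣ} (hζ : orderOf ζ = 11) (hF : ∃ a : K, a ≠ 0 ∧ a ≠ 1) {H : Type} [Group H] [Finite H]
    (π : H →* alternatingGroup (Fin 13)) (hπ : Function.Surjective π) (f : H →* GL I K) (hinj : Function.Injective f)
    (himg : ∀ h, f h ∈ img K) : False := by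
  obtain ⟨x, a, hx, hax⟩ := thirteen_elements
  obtain ⟨P, hP, hPmap, hnorm⟩ := ToralSection.exists_lift π hx (hπ x)
  obtain ⟨g, hg, hgP⟩ := hnorm a (hπ a) (hax ▸ pow_mem (Subgroup.mem_zpowers x) 2)
  obtain ⟨z, hz, hzP⟩ := exists_conj_Ds hF (by norm_num) hζ (C := img K) le_rfl (fun d hd => hd.1)
    (fun g _ σ _ hσ ⟨e, he⟩ => hσ.eq_one_of_large (Or.inr rfl) he) (hP.map f)
    (by rintro _ ⟨t, -, rfl⟩; exact himg t)
  set f' := (MulAut.conj z).toMonoidHom.comp f with hf'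
  have hinj' : Function.Injective f' := (MulAut.conj z).injective.comp hinj
  have hD : ∀ t ∈ P, f' t ∈ Ds K 11 := fun t ht => hzP _ ⟨t, ht, rfl⟩
  have hab : ∀ s ∈ P, ∀ t ∈ P, s * t = t * s := fun s hs t ht => hinj' (by
    rw [map_mul, map_mul]
    exact (hD s hs).2.1.comm (hD t ht).2.1)
  obtain ⟨v, hv, hvx⟩ := hPmap.ge (Subgroup.mem_zpowers x)
  have hx1 : x ≠ 1 := fun e => by rw [e, orderOf_one] at hx; norm_num at hx
  obtain ⟨y, hy, hy1, hgy⟩ := exists_squared π hab hgP (fun t ht => by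
    obtain ⟨i, hi⟩ := Subgroup.mem_zpowers_iff.1 (hPmap.le ⟨t, ht, rfl⟩)
    rw [map_mul, map_mul, map_inv, hg, ← hi, ← conj_zpow, hax]
    rw [← zpow_natCast, ← zpow_natCast, ← zpow_mul, ← zpow_mul, mul_comm]) hv (by rw [hvx]; exact hx1)
  obtain ⟨k, hk⟩ := (IsPGroup.iff_orderOf (p := 11)).1 hP ⟨y, hy⟩
  rw [Subgroup.orderOf_mk] at hk
  rcases k with _ | k
  · rw [pow_zero, orderOf_eq_one_iff] at hk
    exact hy1 hk
  set u := y ^ 11 ^ k with hu
  have hu11 : u ^ 11 = 1 := by rw [hu, ← pow_mul, ← pow_succ, ← hk, pow_orderOf_eq_one]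
  have hu1 : u ≠ 1 := fun h => by
    have h1 := Nat.le_of_dvd (pow_pos (by norm_num) k) (orderOf_dvd_of_pow_eq_one h)
    rw [hk] at h1
    exact absurd h1 (not_le.2 (Nat.pow_lt_pow_right (by norm_num) (Nat.lt_succ_self k)))
  have hgu : g * u * g⁻¹ = u ^ 2 := by rw [hu, ← conj_pow, hgy, ← pow_mul, ← pow_mul, mul_comm]
  have hDu : f' u ∈ Ds K 11 := hD u (pow_mem hy _)
  obtain ⟨c, hc⟩ := exists_label hζ hDu.2.1 (by rw [← map_pow, hu11, map_one])
  have hzero := eleven_zero (label_monSum hF hζ hDu.1 hDu.2.1 hc)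
    (label_dblInv hζ (by decide) hDu.2.1 (g := f' g) (by rw [← map_inv, ← map_mul, ← map_mul, hgu, map_pow]) hc)
  refine hu1 (hinj' ?_)
  rw [map_one]
  exact hDu.2.1.ext isDg_one fun j => by rw [hc, hzero, dg_one, ZMod.val_zero, pow_zero]

end Cfsg.Agent.AltE6
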