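/-
The group of the cubic form has no section isomorphic to the alternating group of degree twelve
in characteristic prime to thirty.

* `no_A12` : the main result.
-/
import Cfsg.Agent.Lib.AltE6.Bootstrap
import Cfsg.Agent.Lib.AltE6.Geometry
import Cfsg.Agent.Lib.AltDeg.Reduce

set_option autoImplicit false

namespace Cfsg.Agent.AltE6

open Cfsg.Agent.E6Cubic Matrix

attribute [local instance] fact_five

variable {K : Type} [Field K]

/-- Multiplicativity on a set of coordinates that is invariant. -/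
theorem submatrix_mul_of_block {ι : Type*} [Fintype ι] (v : ι → I) (hv : Function.Injective v) (g h : GL I K)
    (hcol : ∀ t, ∀ k, (∀ s, v s ≠ k) → col h (v t) k = 0) :
    ((g * h : GL I K) : Matrix I I K).submatrix v v =
      (g : Matrix I I K).submatrix v v * (h : Matrix I I K).submatrix v v := by
  classical
  ext a b
  rw [Matrix.submatrix_apply, Units.val_mul, Matrix.mul_apply, Matrix.mul_apply]
  simp only [Matrix.submatrix_apply]
  rw [← Finset.sum_subset (Finset.subset_univ (Finset.univ.image v)) fun k _ hk => ?_,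
    Finset.sum_image fun x _ y _ e => hv e]
  rw [show (h : Matrix I I K) k (v b) = 0 from ?_, mul_zero]
  rw [← col_apply]
  exact hcol b k fun s e => hk (Finset.mem_image.2 ⟨s, Finset.mem_univ _, e⟩)

variable [Finite K] {ζ : Kˣ} (hζ : orderOf ζ = 5) (hF : ∃ a : K, a ≠ 0 ∧ a ≠ 1)
variable {H : Type} [Group H] [Finite H] {π : H →* A12} (hmin : MinCover π)
variable {f : H →* GL I K} (hinj : Function.Injective f) (himg : ∀ h, f h ∈ img K)
include hζ hF hinj himg

omit hinj himg in
theorem label_zero_of_line {u g : GL I K} (hu : IsDg u) {c : I → ZMod 5} (hc : ∀ j, dg u j = (ζ : K) ^ (c j).val)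
    (hgu : g * u * g⁻¹ = u ^ 2) {j : I} {χ : K} (hχ : χ ≠ 0) (hg : col g j = χ • ev K j) : c j = 0 := by
  have h1 : col (u ^ 2 * g) j j = col (g * u) j j := by rw [← hgu, inv_mul_cancel_right]
  rw [col_mul, (hu.pow 2).1.mulVec, (hu.pow 2).2] at h1
  have h2 : col (g * u) j j = dg u j * col g j j := by
    rw [col_apply, col_apply, Units.val_mul, hu.eq_diag, Matrix.mul_diagonal, mul_comm]
  have hjj : col g j j ≠ 0 := by
    rw [hg]
    simp [ev, hχ]
  rw [h2] at h1
  have h3 := mul_right_cancel₀ hjj h1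
  rw [hc, pow_two, ← root_pow_add hζ] at h3
  have h4 := root_pow_inj hζ h3
  linear_combination h4

theorem pres0_commute {u : H} (hu : IsDg (f u)) {c : I → ZMod 5} (hc : ∀ j, dg (f u) j = (ζ : K) ^ (c j).val)
    {y : H} (hy : y * u = u * y) : Pres0 (zeros c) (f y) ∧ Pres0 (zeros c) (f y)⁻¹ := by
  have h1 : f y * f u = f u * f y := by rw [← map_mul, ← map_mul, hy]
  exact ⟨pres0_of_conj hζ hu hc (m := 1) (by decide) (by rw [pow_one, h1]) fun j => mem_zeros,
    pres0_of_conj hζ hu hc (m := 1) (by decide) (by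
      rw [pow_one, eq_comm, inv_mul_eq_iff_eq_mul, ← mul_assoc, h1, mul_inv_cancel_right]) fun j => mem_zeros⟩

/-- A perfect group centralising a rational element fixes its special vector. -/
theorem cover_fix_line {u : H} (hu : IsDg (f u)) {c : I → ZMod 5} (hc : ∀ j, dg (f u) j = (ζ : K) ^ (c j).val)
    (hm : MonSum c) {e : I} (he : Special c e) {T : Subgroup A12} (hT : IsSimpleGroup T)
    (hTc : ¬ ∀ a b : T, a * b = b * a) {L : Subgroup H} {ψ : L →* T} (hψ : MinCover ψ)
    (hL : ∀ y ∈ L, y * u = u * y) : ∀ y ∈ L, col (f y) e = ev K e := by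
  have hf := frame_of_special hm he
  have hline : ∀ y : L, ∃ χ : K, χ ≠ 0 ∧ col (f y) e = χ • ev K e := fun y => by
    obtain ⟨p1, p2⟩ := pres0_commute hζ hF hinj himg hu hc (hL y y.2)
    exact hf.line_of_fixed hF (himg y) p1 p2
  choose χ hχ0 hχ using hline
  have hmul : ∀ y z : L, χ (y * z) = χ y * χ z := fun y z => by
    have h1 : col (f ((y * z : L) : H)) e = (χ y * χ z) • ev K e := by
      rw [Subgroup.coe_mul, map_mul, col_mul, hχ z, Matrix.mulVec_smul,
        show (f (y : H) : Matrix I I K) *ᵥ ev K e = col (f y) e from rfl, hχ y, smul_smul, mul_comm]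
    exact (smul_ev_inj (hχ0 _) ((hχ (y * z)).symm.trans h1)).2
  let φ : L →* Kˣ :=
    { toFun := fun y => Units.mk0 (χ y) (hχ0 y)
      map_one' := Units.ext (by
        show χ 1 = 1
        have := hmul 1 1
        rw [one_mul] at this
        exact (mul_eq_left₀ (hχ0 1)).1 this.symm)
      map_mul' := fun y z => Units.ext (hmul y z) }
  intro y hy
  have h1 : χ ⟨y, hy⟩ = 1 := congrArg Units.val (hψ.hom_comm_eq_one hT hTc φ ⟨y, hy⟩)
  have h2 := hχ ⟨y, hy⟩
  rwa [h1, one_smul] at h2

include hmin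

/-- If a common vector is fixed by everything, the neighbours give a representation of degree ten. -/
theorem not_all_fix (h12 : (12 : K) ≠ 0) {c : I → ZMod 5} {e : I} (hc : Special c e) {u : H} (hu : IsDg (f u))
    (hlab : ∀ j, dg (f u) j = (ζ : K) ^ (c j).val) (hfix : ∀ y : H, col (f y) e = ev K e) : False := by
  classical
  obtain ⟨hA, -, -, -⟩ := A12_simple
  haveI := hA
  -- the coordinates off the neighbourhood do not reach it
  have hblock : ∀ y : H, ∀ j, adj e j = false → ∀ k, adj e k = true → col (f y) j k = 0 := by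
    intro y j hj k hk
    obtain ⟨m1, m2, m3, m4, -⟩ := adj_th e k hk
    have hpk := pick_adj e (th e k)
    rw [if_pos m2, m3] at hpk
    obtain ⟨ε, i, hp, -, hε⟩ := exists_pick (F := K) (s := e) (a := th e k)
      (fun e0 => by rw [e0] at hpk; cases hpk)
    rw [hp] at hpk
    simp only [List.map_cons, List.map_nil, List.cons.injEq, and_true] at hpk
    have h2 : pol (ev K e) (col (f y) j) (ev K (th e k)) = (ε : K) * col (f y) j k := by
      rw [pol_basis, hp, hpk]
      simp
    have h3 : pol (ev K e) (col (f y) j) (ev K (th e k)) = 0 := by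
      have h4 := pol_inv hF (fun v => pres_img (himg y) v) (ev K e) (ev K j)
        (((f y)⁻¹ : GL I K) *ᵥ ev K (th e k) : I → K)
      rw [show (f y : Matrix I I K) *ᵥ ev K e = ev K e from hfix y, Matrix.mulVec_mulVec, ← Units.val_mul,
        mul_inv_cancel, Units.val_one, Matrix.one_mulVec] at h4
      rw [show col (f y) j = (f y : Matrix I I K) *ᵥ ev K j from rfl, h4]
      refine pol_eq_zero (fun a ha => ?_) _
      have h5 := pick_adj e a
      by_cases hja : a = j
      · subst hja
        rw [hj] at h5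
        exact absurd (List.map_eq_nil_iff.1 h5) ha
      · simp [ev, hja]
    exact (mul_eq_zero.1 (h2.symm.trans h3)).resolve_left hε
  let val : {x : I // adj e x = true} → I := Subtype.val
  let R : H →* Matrix {x : I // adj e x = true} {x : I // adj e x = true} K :=
    { toFun := fun y => (f y : Matrix I I K).submatrix val val
      map_one' := by rw [map_one, Units.val_one]; exact Matrix.submatrix_one val Subtype.val_injective
      map_mul' := fun y z => by
        rw [map_mul]
        ext a b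
        rw [Matrix.submatrix_apply, Units.val_mul, Matrix.mul_apply, Matrix.mul_apply]
        simp only [Matrix.submatrix_apply]
        rw [← Finset.sum_subset (Finset.subset_univ (Finset.univ.image val)) fun k _ hk => ?_,
          Finset.sum_image fun x _ y _ e => Subtype.val_injective e]
        have hka : adj e k = false := by
          rw [Bool.eq_false_iff]
          exact fun h => hk (Finset.mem_image.2 ⟨⟨k, h⟩, Finset.mem_univ _, rfl⟩)
        rw [← col_apply (f y), hblock y k hka (val a) a.2, zero_mul] }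
  let L := AlgebraicClosure K
  let ρ : H →* (Module.End L ({x : I // adj e x = true} → L))ˣ :=
    (Matrix.GeneralLinearGroup.toLin (n := {x : I // adj e x = true}) (R := L)).toMonoidHom.comp
      ((Matrix.GeneralLinearGroup.map (algebraMap K L)).comp R.toHomUnits)
  obtain ⟨a, ha, hca⟩ : ∃ a, adj e a = true ∧ c a ≠ 0 := by
    by_contra h
    push Not at h
    have h1 : (Finset.univ.filter fun x => adj e x = true) ⊆ zeros c := fun x hx => by
      simp only [Finset.mem_filter, Finset.mem_univ, true_and] at hx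
      exact mem_zeros.2 (h x hx)
    have := Finset.card_le_card h1
    rw [nbr_card, hc.2.1] at this
    omega
  have hker : ρ.ker ≤ π.ker := by
    intro y hy
    by_contra hne
    have htop := hmin.top_of_normal ρ.ker hy hne
    have hu1 : ρ u = 1 := MonoidHom.mem_ker.1 (htop ▸ Subgroup.mem_top u)
    have hu2 : Matrix.GeneralLinearGroup.map (algebraMap K L) (R.toHomUnits u) = 1 :=
      (Matrix.GeneralLinearGroup.toLin (n := {x : I // adj e x = true}) (R := L)).injective
        (by rw [map_one]; exact hu1)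
    have h1 := congrArg (fun g : GL {x : I // adj e x = true} L =>
      (g : Matrix {x : I // adj e x = true} {x : I // adj e x = true} L) ⟨a, ha⟩ ⟨a, ha⟩) hu2
    simp only [Units.val_one, Matrix.one_apply_eq] at h1
    change algebraMap K L ((f u : Matrix I I K) a a) = 1 at h1
    rw [← map_one (algebraMap K L)] at h1
    have h2 := (algebraMap K L).injective h1
    change dg (f u) a = 1 at h2
    rw [hlab] at h2
    exact hca (root_pow_inj hζ (by rw [h2, ZMod.val_zero, pow_zero]))
  have hb := AltDeg.altBound_of_section (r := 12) (k := L) (by norm_num) π hmin.surj ρ hker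
  have h10 : Module.finrank L ({x : I // adj e x = true} → L) = 10 := by
    rw [Module.finrank_pi, Fintype.card_subtype, nbr_card]
  have h12' : ((12 : ℕ) : L) ≠ 0 := by
    rw [← map_natCast (algebraMap K L) 12]
    exact (map_ne_zero (algebraMap K L)).2 (by exact_mod_cast h12)
  have := hb.2 h12'
  omega

/-- The two special vectors coincide or the characteristic is two. -/
theorem no_A12 (h2 : (2 : K) ≠ 0) (h12 : (12 : K) ≠ 0) : False := by
  classical
  obtain ⟨hA, hA7, hAbig, -⟩ := A12_simple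
  haveI := hA
  obtain ⟨Q, hQn, hQp, hQk, hQmax⟩ := hmin.exists_kerSylow 5
  haveI := hQn
  have hQc : Q ≤ Subgroup.center H := Q_central hζ hF hinj himg hmin hA7 hAbig hQp
  obtain ⟨z, hz, X, u₀, g₀, hQX, hXp, hXmap, hu₀, hu₀5, hu₀1, hg₀, hXD⟩ :=
    exists_boot hζ hF hmin hinj himg hQp hQk hQmax hQc
  set f₁ := (MulAut.conj z).toMonoidHom.comp f with hf₁
  have hinj₁ : Function.Injective f₁ := (MulAut.conj z).injective.comp hinj
  have himg₁ : ∀ h, f₁ h ∈ img K := fun h => mul_mem (mul_mem hz (himg h)) (inv_mem hz)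
  obtain ⟨hTl, hTl7, hTlc⟩ := Tl_simple
  obtain ⟨hTr, hTr7, hTrc⟩ := Tr_simple
  haveI := hTl
  haveI := hTr
  obtain ⟨hx5, hy5, hx1, hy1, -, hgx, hgy, -⟩ := alt_facts
  obtain ⟨hyTl, hgyTl, hxTr, hgxTr⟩ := y5_mem
  obtain ⟨L, ψ, hLX, hψ, hψval⟩ := exists_centralizing_cover hζ hF hmin hinj₁ himg₁ hQmax hQX hXp hXmap hXD hu₀
    hu₀5 hu₀1 hg₀ hTl7 fun σ hσ => Tl_commute hσ
  have hLmap : ∀ σ ∈ Tl, σ ∈ L.map π := fun σ hσ => by
    obtain ⟨y, hy⟩ := hψ.surj ⟨σ, hσ⟩
    exact ⟨y, y.2, (hψval y).symm.trans (congrArg Subtype.val hy)⟩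
  set N := L ⊔ Q with hN
  have hNmap : ∀ σ ∈ Tl, σ ∈ N.map π := fun σ hσ => Subgroup.map_mono le_sup_left (hLmap σ hσ)
  have hNX : N ≤ Subgroup.centralizer (X : Set H) := sup_le hLX (hQc.trans (Subgroup.center_le_centralizer _))
  obtain ⟨X', hX'N, hQX', hX'p, hX'map⟩ := exists_over π (N := N) hQp hQk le_sup_right (zpowers_isP hy5)
    (Subgroup.zpowers_le.2 (hNmap y5 hyTl))
  have hX'ab := abelian_of_cyclic π hQc hX'p hQmax hX'map
  have hXab := abelian_of_cyclic π hQc hXp hQmax hXmap
  have hcross : ∀ a ∈ X, ∀ b ∈ X', a * b = b * a := fun a ha b hb =>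
    Subgroup.mem_centralizer_iff.1 (hNX (hX'N hb)) a ha
  have hW : IsPGroup 5 ↥(X ⊔ X') := hXp.to_sup_of_normal_right' hX'p (le_normalizer_of_commute hcross)
  have hWu : ∀ a ∈ X ⊔ X', a * u₀ = u₀ * a := by
    have hle : X ⊔ X' ≤ Subgroup.centralizer ({u₀} : Set H) := sup_le
      (fun a ha => Subgroup.mem_centralizer_singleton_iff.2 (hXab a ha u₀ hu₀))
      fun a ha => Subgroup.mem_centralizer_singleton_iff.2 (hcross u₀ hu₀ a ha).symm
    exact fun a ha => Subgroup.mem_centralizer_singleton_iff.1 (hle ha)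
  obtain ⟨z', hz', hWD⟩ := conj_of_commute hζ hF hinj₁ himg₁ hW (hXD u₀ hu₀) hu₀5 hu₀1 hg₀ hWu
  set f₂ := (MulAut.conj z').toMonoidHom.comp f₁ with hf₂
  have hinj₂ : Function.Injective f₂ := (MulAut.conj z').injective.comp hinj₁
  have himg₂ : ∀ h, f₂ h ∈ img K := fun h => mul_mem (mul_mem hz' (himg₁ h)) (inv_mem hz')
  have hD : ∀ a ∈ X, f₂ a ∈ Ds K 5 := fun a ha => hWD a (Subgroup.mem_sup_left ha)
  have hD' : ∀ a ∈ X', f₂ a ∈ Ds K 5 := fun a ha => hWD a (Subgroup.mem_sup_right ha)
  -- an element of `L` squaring a lift of `y5`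
  obtain ⟨g, hgN, hgπ, hgX'⟩ := exists_norm_lift π hQmax hQX' hX'N hX'p (a := gy) (hNmap gy hgyTl) (by
    intro e he
    rw [hX'map] at he ⊢
    obtain ⟨i, rfl⟩ := Subgroup.mem_zpowers_iff.1 he
    rw [← conj_zpow, hgy]
    exact zpow_mem (pow_mem (Subgroup.mem_zpowers _) 2) i)
  obtain ⟨τ, hτ, q, hq, rfl⟩ := Subgroup.mem_sup_of_normal_right.1 hgN
  have hqc : ∀ y : H, y * q = q * y := Subgroup.mem_center_iff.1 (hQc hq)
  have hτπ : π τ = gy := by
    rw [map_mul, MonoidHom.mem_ker.1 (hQk hq), mul_one] at hgπ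
    exact hgπ
  have hτX' : ∀ t ∈ X', τ * t * τ⁻¹ ∈ X' := fun t ht => by
    have h1 := hgX' t ht
    have e : τ * q * t * (τ * q)⁻¹ = τ * (q * t) * q⁻¹ * τ⁻¹ := by group
    rw [e, ← hqc t] at h1
    simpa [mul_assoc] using h1
  obtain ⟨v', hv', hv'π⟩ := hX'map.ge (Subgroup.mem_zpowers y5)
  obtain ⟨u', hu', hu'π, hu'2, hu'5⟩ := rational_lift π hX'ab (ker_mem π hX'p hQmax) hτX'
    (fun r hr => Subgroup.mem_center_iff.1 (hQc hr) τ) hQX' hv' (by rw [hτπ, hv'π]; exact hgy)
    (by rw [hv'π]; exact hy5)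
  have hu'1 : u' ≠ 1 := fun h => hy1 (by rw [← hv'π, ← hu'π, h, map_one])
  -- the second cover
  obtain ⟨L', ψ', hL'X', hψ', hψ'val⟩ := exists_centralizing_cover hζ hF hmin hinj₂ himg₂ hQmax hQX' hX'p hX'map
    hD' hu' hu'5 hu'1 hu'2 hTr7 fun σ hσ => Tr_commute hσ
  have hL'map : ∀ σ ∈ Tr, σ ∈ L'.map π := fun σ hσ => by
    obtain ⟨y, hy⟩ := hψ'.surj ⟨σ, hσ⟩
    exact ⟨y, y.2, (hψ'val y).symm.trans (congrArg Subtype.val hy)⟩
  have hXX' : X ≤ Subgroup.centralizer (X' : Set H) := fun a ha =>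
    Subgroup.mem_centralizer_iff.2 fun b hb => (hcross a ha b hb).symm
  obtain ⟨τ', hτ'N, hτ'π, hτ'X⟩ := exists_norm_lift π hQmax hQX hXX' hXp (a := gx)
    (Subgroup.map_mono hL'X' (hL'map gx hgxTr)) (by
    intro e he
    rw [hXmap] at he ⊢
    obtain ⟨i, rfl⟩ := Subgroup.mem_zpowers_iff.1 he
    rw [← conj_zpow, hgx]
    exact zpow_mem (pow_mem (Subgroup.mem_zpowers _) 2) i)
  obtain ⟨v, hv, hvπ⟩ := hXmap.ge (Subgroup.mem_zpowers x5)
  obtain ⟨u, hu, huπ, hu2, hu5⟩ := rational_lift π hXab (ker_mem π hXp hQmax) hτ'X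
    (fun r hr => Subgroup.mem_center_iff.1 (hQc hr) τ') hQX hv (by rw [hτ'π, hvπ]; exact hgx)
    (by rw [hvπ]; exact hx5)
  have hu1 : u ≠ 1 := fun h => hx1 (by rw [← hvπ, ← huπ, h, map_one])
  have hL_u : ∀ y ∈ L, y * u = u * y := fun y hy => (Subgroup.mem_centralizer_iff.1 (hLX hy) u hu).symm
  have hL'_u : ∀ y ∈ L', y * u' = u' * y := fun y hy => (Subgroup.mem_centralizer_iff.1 (hL'X' hy) u' hu').symm
  -- labels
  obtain ⟨c, hc, hcm, e, he⟩ := rational_label hζ hF (hD u hu) (by rw [← map_pow, hu5, map_one])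
    (fun h => hu1 (hinj₂ (by rw [h, map_one]))) (g := f₂ τ') (by rw [← map_inv, ← map_mul, ← map_mul, hu2, map_pow])
  obtain ⟨c', hc', hcm', e', he'⟩ := rational_label hζ hF (hD' u' hu') (by rw [← map_pow, hu'5, map_one])
    (fun h => hu'1 (hinj₂ (by rw [h, map_one]))) (g := f₂ τ) (by rw [← map_inv, ← map_mul, ← map_mul, hu'2, map_pow])
  have hdu := (hD u hu).2.1
  have hdu' := (hD' u' hu').2.1
  have hLfix := cover_fix_line hζ hF hinj₂ himg₂ hdu hc hcm he hTl hTlc hψ hL_u
  have hL'fix := cover_fix_line hζ hF hinj₂ himg₂ hdu' hc' hcm' he' hTr hTrc hψ' hL'_u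
  by_cases hee : e' = e
  · -- everything fixes the vector
    subst hee
    let S : Subgroup H :=
      { carrier := {y | col (f₂ y) e' = ev K e'}
        one_mem' := by show col (f₂ 1) e' = _; rw [map_one, col_one]
        mul_mem' := fun {a b} ha hb => by
          show col (f₂ (a * b)) e' = _
          rw [map_mul, col_mul, show col (f₂ b) e' = ev K e' from hb]
          exact ha
        inv_mem' := fun {a} ha => by
          show col (f₂ a⁻¹) e' = _
          have h1 : col (f₂ a⁻¹ * f₂ a) e' = ev K e' := by rw [← map_mul, inv_mul_cancel, map_one, col_one]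
          rwa [col_mul, show col (f₂ a) e' = ev K e' from ha] at h1 }
    have htop : S = ⊤ := by
      refine hmin.min S (eq_top_iff.2 ?_)
      rw [← sub_sup]
      exact sup_le (fun σ hσ => Subgroup.map_mono (fun y hy => hLfix y hy) (hLmap σ hσ))
        fun σ hσ => Subgroup.map_mono (fun y hy => hL'fix y hy) (hL'map σ hσ)
    exact not_all_fix hζ hF hmin hinj₂ himg₂ h12 he hdu hc fun y => (htop ▸ Subgroup.mem_top y : y ∈ S)
  -- the special vectors lie in each other's fixed spaces
  have hce' : c e' = 0 := by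
    obtain ⟨p1, p2⟩ := pres0_commute hζ hF hinj₂ himg₂ hdu' hc' (y := τ')
      (Subgroup.mem_centralizer_iff.1 hτ'N u' hu').symm
    obtain ⟨χ, hχ, hχe⟩ := (frame_of_special hcm' he').line_of_fixed hF (himg₂ τ') p1 p2
    exact label_zero_of_line hζ hF hdu hc (g := f₂ τ') (by rw [← map_inv, ← map_mul, ← map_mul, hu2, map_pow]) hχ hχe
  have hc'e : c' e = 0 := by
    refine label_zero_of_line hζ hF hdu' hc' (g := f₂ τ) (by rw [← map_inv, ← map_mul, ← map_mul, hu'2, map_pow])
      one_ne_zero ?_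
    rw [one_smul]
    exact hLfix τ hτ
  obtain ⟨ι, hι, hrange, hdet⟩ := det_neg hF hζ hcm hcm' he he' hee hce' hc'e hdu hdu' hc hc' (himg₂ τ)
    (by rw [← map_mul, ← map_mul, hL_u τ hτ]) (by rw [← map_inv, ← map_mul, ← map_mul, hu'2, map_pow]) (hLfix τ hτ)
  -- the determinant on the complement is trivial on `L`
  have hcol : ∀ y ∈ L, ∀ t, ∀ k, (∀ s, ι s ≠ k) → col (f₂ y) (ι t) k = 0 := by
    intro y hy t k hk
    obtain ⟨p1, p2⟩ := pres0_commute hζ hF hinj₂ himg₂ hdu hc (hL_u y hy)
    obtain ⟨h1, h2'⟩ := (hrange (ι t)).2 ⟨t, rfl⟩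
    by_cases hkZ : k ∈ zeros c
    · have hke : k = e := by_contra fun h0 => by
        obtain ⟨s, hs⟩ := (hrange k).1 ⟨hkZ, h0⟩
        exact hk s hs
      rw [hke]
      exact (frame_of_special hcm he).block_of_fixed hF (himg₂ y) p1 p2 h1 h2'
    · exact p1 _ h1 k hkZ
  let φ : L →* Matrix (Fin 6) (Fin 6) K :=
    { toFun := fun y => (f₂ (y : H) : Matrix I I K).submatrix ι ι
      map_one' := by rw [Subgroup.coe_one, map_one, Units.val_one]; exact Matrix.submatrix_one ι hι
      map_mul' := fun y w => by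
        rw [Subgroup.coe_mul, map_mul]
        exact submatrix_mul_of_block ι hι _ _ (hcol w w.2) }
  let δ : L →* K :=
    { toFun := fun y => (φ y).det
      map_one' := by rw [map_one, Matrix.det_one]
      map_mul' := fun y w => by rw [map_mul, Matrix.det_mul] }
  have h1 := congrArg Units.val (hψ.hom_comm_eq_one hTl hTlc δ.toHomUnits ⟨τ, hτ⟩)
  rw [MonoidHom.coe_toHomUnits, Units.val_one] at h1
  simp only [δ, φ, MonoidHom.coe_mk, OneHom.coe_mk] at h1
  rw [hdet] at h1
  exact h2 (by linear_combination -h1)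

end Cfsg.Agent.AltE6
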