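/-
Alternating sections of the groups of type E6.

* `e6_alt_bound` : the bound on the degree.
-/
import Cfsg.Agent.Lib.AltE6.Twelve
import Cfsg.Agent.Lib.AltE6.Thirteen
import Cfsg.Agent.Lib.ToralSection.AltPerms
import Cfsg.Agent.Lib.ToralSection.Chev

set_option autoImplicit false

namespace Cfsg.Agent.AltE6

open Cfsg.Agent.E6Cubic Cfsg.Lie Cfsg.Lie.ChevalleyDatum

/-- The group of the form maps onto the Chevalley group. -/
theorem exists_img_surj {K : Type} [Field K] (hF : ∃ a : K, a ≠ 0 ∧ a ≠ 1) :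
    ∃ Φ : ↥(img K) →* ↥(chevE6.group K), Function.Surjective Φ := by
  obtain ⟨e⟩ := e6_iso (F := K) hF
  let f : ↥(img K) →* ↥(E6univ K) :=
    ((glMap K).toMonoidHom.comp (img K).subtype).codRestrict _ fun g => (glMap_mem hF _).2 g.2
  have hf : Function.Surjective f := fun g => by
    refine ⟨⟨(glMap K).symm g.1, (glMap_mem hF _).1 (by simp)⟩, Subtype.ext ?_⟩
    show glMap K ((glMap K).symm g.1) = g.1
    simp
  exact ⟨e.toMonoidHom.comp ((QuotientGroup.mk' _).comp f),
    e.surjective.comp ((QuotientGroup.mk'_surjective _).comp hf)⟩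

theorem exists_root {K : Type} [Field K] [Finite K] {s : ℕ} [hs : Fact s.Prime] (h : s ∣ Nat.card K - 1) :
    ∃ ζ : Kˣ, orderOf ζ = s :=
  exists_prime_orderOf_dvd_card' s (by rwa [Nat.card_units])

theorem dvd_pow_sub_one {s q : ℕ} [Fact s.Prime] (hq : ¬ s ∣ q) (hs : s - 1 ∣ 20) : s ∣ q ^ 20 - 1 := by
  obtain ⟨k, hk⟩ := hs
  have h : (q : ZMod s) ^ (s - 1) = 1 := ZMod.pow_card_sub_one_eq_one fun h => hq ((ZMod.natCast_eq_zero_iff q s).1 h)
  rw [← ZMod.natCast_eq_zero_iff, Nat.cast_sub (Nat.one_le_pow _ _ (Nat.pos_of_ne_zero fun h0 => hq (by rw [h0]; exact dvd_zero s))),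
    Nat.cast_pow, hk, pow_mul, h, one_pow, Nat.cast_one, sub_self]

universe u

/-- Alternating sections of E6. -/
theorem e6_alt_bound {F : Type u} [Field F] [Fintype F] (p : ℕ) [hp : Fact p.Prime] [CharP F p] (r : ℕ)
    {G : Type u} [Group G] (ι₀ : G →* ↥(chevE6.group F)) (hι₀ : Function.Injective ι₀)
    (φ : G →* alternatingGroup (Fin r)) (hφ : Function.Surjective φ) :
    r ≤ 11 + (if p = 2 ∨ p = 3 ∨ p = 5 then 1 else 0) := by
  by_contra hr
  obtain ⟨K, _, _, j, hK⟩ := ToralSection.exists_extension (F := F) p 20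
  haveI : CharP K p := charP_of_injective_ringHom j.injective p
  obtain ⟨i, hi⟩ := ToralSection.exists_hom_group (D := chevE6) Chev.DataE6.good F j
  have hcard : ∀ s : ℕ, s.Prime → s ≠ p → s - 1 ∣ 20 → s ∣ Nat.card K - 1 := by
    intro s hs hsp hd
    haveI : Fact s.Prime := ⟨hs⟩
    rw [Nat.card_eq_fintype_card, hK]
    refine dvd_pow_sub_one (fun h => hsp ?_) hd
    obtain ⟨n, -, hn⟩ := FiniteField.card F p
    rw [hn] at h
    exact (Nat.prime_dvd_prime_iff_eq hs hp.out).1 (hs.dvd_of_dvd_pow h)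
  have hF : ∃ a : K, a ≠ 0 ∧ a ≠ 1 := by
    classical
    obtain ⟨a, ha⟩ : ((Finset.univ.erase (0 : K)).erase 1).Nonempty := by
      rw [← Finset.card_pos]
      have := Finset.pred_card_le_card_erase (s := Finset.univ.erase (0 : K)) (a := 1)
      have := Finset.pred_card_le_card_erase (s := (Finset.univ : Finset K)) (a := 0)
      have h2 : 2 ^ 20 ≤ Fintype.card K := hK ▸ Nat.pow_le_pow_left Fintype.one_lt_card 20
      rw [Finset.card_univ] at *
      omega
    simp only [Finset.mem_erase] at ha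
    exact ⟨a, ha.2.1, ha.1⟩
  obtain ⟨Φ, hΦ⟩ := exists_img_surj hF
  -- the section inside the group of the form
  let j₀ : G →* ↥(chevE6.group K) := i.comp ι₀
  let e := MonoidHom.ofInjective (show Function.Injective j₀ from hi.comp hι₀)
  let H₁ : Subgroup ↥(img K) := j₀.range.comap Φ
  let φ₁ : ↥H₁ →* alternatingGroup (Fin r) :=
    φ.comp (e.symm.toMonoidHom.comp ((Φ.comp H₁.subtype).codRestrict j₀.range fun h => h.2))
  have hφ₁ : Function.Surjective φ₁ := by
    refine hφ.comp (e.symm.surjective.comp fun b => ?_)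
    obtain ⟨b, hb⟩ := b
    obtain ⟨g, rfl⟩ := hΦ b
    exact ⟨⟨g, hb⟩, rfl⟩
  have main : ∀ m : ℕ, m ≤ r → ∃ (L : Type) (_ : Group L) (_ : Finite L) (π : L →* alternatingGroup (Fin m))
      (f : L →* GL I K), MinCover π ∧ Function.Injective f ∧ ∀ h, f h ∈ img K := by
    intro m hm
    obtain ⟨H₂, ψ, hψ⟩ := ToralSection.exists_sub_section hm φ₁ hφ₁
    obtain ⟨L, χ, -, hχ, -⟩ := exists_cover ψ ⊤ (T := ⊤) (by rw [Subgroup.map_top_of_surjective ψ hψ])
    let te : ↥(⊤ : Subgroup (alternatingGroup (Fin m))) ≃* alternatingGroup (Fin m) := Subgroup.topEquiv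
    refine ⟨L, inferInstance, inferInstance, te.toMonoidHom.comp χ,
      (img K).subtype.comp (H₁.subtype.comp (H₂.subtype.comp L.subtype)),
      ⟨te.surjective.comp hχ.surj, fun M hM => hχ.min M ?_⟩,
      Subtype.val_injective.comp (Subtype.val_injective.comp (Subtype.val_injective.comp Subtype.val_injective)),
      fun h => (((h : H₂) : H₁) : img K).2⟩
    rw [← Subgroup.map_map] at hM
    refine Subgroup.map_injective (f := te.toMonoidHom) te.injective (hM.trans ?_)
    exact (Subgroup.map_top_of_surjective te.toMonoidHom te.surjective).symm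
  by_cases hp3 : p = 2 ∨ p = 3 ∨ p = 5
  · rw [if_pos hp3] at hr
    obtain ⟨L, _, _, π, f, hmin, hinj, himg⟩ := main 13 (by omega)
    haveI : Fact (Nat.Prime 11) := fact_eleven
    obtain ⟨ζ, hζ⟩ := exists_root (s := 11) (hcard 11 (by norm_num) (by omega) (by norm_num))
    exact no_A13 hζ hF π hmin.surj f hinj himg
  · rw [if_neg hp3] at hr
    obtain ⟨L, _, _, π, f, hmin, hinj, himg⟩ := main 12 (by omega)
    push Not at hp3
    haveI : Fact (Nat.Prime 5) := fact_five
    obtain ⟨ζ, hζ⟩ := exists_root (s := 5) (hcard 5 (by norm_num) (Ne.symm hp3.2.2) (by norm_num))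
    have h2 : (2 : K) ≠ 0 := fun h => by
      have h' := (CharP.cast_eq_zero_iff K p 2).1 (by exact_mod_cast h)
      exact hp3.1 ((Nat.prime_dvd_prime_iff_eq hp.out Nat.prime_two).1 h')
    have h3 : (3 : K) ≠ 0 := fun h => by
      have h' := (CharP.cast_eq_zero_iff K p 3).1 (by exact_mod_cast h)
      exact hp3.2.1 ((Nat.prime_dvd_prime_iff_eq hp.out Nat.prime_three).1 h')
    have h12 : (12 : K) ≠ 0 := by
      rw [show (12 : K) = 2 * 2 * 3 by norm_num]
      exact mul_ne_zero (mul_ne_zero h2 h2) h3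
    exact no_A12 hζ hF hmin hinj himg h2 h12

end Cfsg.Agent.AltE6
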